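import Cfsg.Agent.Lib.Invol.HJ.LocalT

/-!
# An element of three-power order turning the four group
-/

set_option autoImplicit false
set_option linter.unusedSectionVars false
set_option linter.style.haveILetI false

namespace Cfsg.Agent.Invol.HJ

open Cfsg

theorem a5_six : ∀ (τ : alternatingGroup (Fin 5)) (i : Fin 5), (τ : Equiv.Perm (Fin 5)) i = i →
    τ * τ * τ * (τ * τ * τ) = 1 := by
  decide +kernel

variable {G : Type*} [Group G] {z : G} {Q : Subgroup G}

theorem Core.swap [Finite G] (h : Core z Q) {x : G} (hx : x ∈ nonCentralInvol z Q) : ∃ q ∈ Q, q * x * q⁻¹ = z * x := by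
  by_contra hcon
  push Not at hcon
  refine (h.cen x hx.1 fun q hq => ?_).elim hx.2.2.1 hx.2.2.2
  rcases h.comm q hq x hx.1 with e | e
  · exact e.symm
  · exact absurd (by rw [e, ← mul_assoc, mul_inv_cancel_right]) (hcon q hq)

theorem Core.pt_fix [Finite G] (h : Core z Q) (M : Model z Q) {c : Subgroup.centralizer ({z} : Set G)} {x : G} {i : Fin 5}
    (hx : x = M.a i ∨ x = z * M.a i) (hc : (c : G) * x = x * c) : M.pt c i = i := by
  have hca : (c : G) * M.a i = M.a i * c := by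
    rcases hx with rfl | rfl
    · exact hc
    · rw [← mul_assoc, h.cz c.2, mul_assoc, mul_assoc] at hc
      exact mul_left_cancel hc
  by_contra hne
  have e0 : (c : G) * M.a i * (c : G)⁻¹ = M.a i := by rw [hca, mul_inv_cancel_right]
  refine M.anti i (M.pt c i) (Ne.symm hne) ?_
  have := M.pt_spec c i
  rw [e0] at this
  rcases this with e | e
  · rw [← e]
  · rw [e, ← mul_assoc (M.a _) z, h.zq (M.mem _).1]

theorem Core.pow_twentyfour [Finite G] (h : Core z Q) {c x : G} (hc : c ∈ Subgroup.centralizer ({z} : Set G))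
    (hx : x ∈ nonCentralInvol z Q) (hcx : c * x = x * c) : c ^ 24 = 1 := by
  obtain ⟨M⟩ := h.model
  obtain ⟨i, hi⟩ := M.cover x hx
  have hfix := h.pt_fix M (c := ⟨c, hc⟩) hi hcx
  have e := a5_six (M.ptA ⟨c, hc⟩) i (by rw [M.ptA_coe, hfix])
  rw [← map_mul, ← map_mul, ← map_mul, M.ptA_ker] at e
  have hq : (c ^ 2) * (c ^ 2) * (c ^ 2) ∈ Q := by
    have e' : (c * c * c) * (c * c * c) ∈ Q := e
    simpa [pow_two, mul_assoc] using e'
  rw [show 24 = 2 * 12 from rfl, pow_mul]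
  exact h.pow_twelve hq

/-- The involutions outside `Q` centralizing a given noncentral involution. -/
theorem Core.card_commuting_outside [Finite G] (h : Core z Q) {x : G} (hx : x ∈ nonCentralInvol z Q) (T : Finset G)
    (hT : ∀ y ∈ T, y ∈ Subgroup.centralizer ({z} : Set G) ∧ y * y = 1 ∧ y ∉ Q ∧ y * x = x * y) : T.card ≤ 24 := by
  classical
  letI := Fintype.ofFinite G
  obtain ⟨M⟩ := h.model
  obtain ⟨i, hi⟩ := M.cover x hx
  let F : G → alternatingGroup (Fin 5) := fun y =>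
    if hy : y ∈ Subgroup.centralizer ({z} : Set G) then M.ptA ⟨y, hy⟩ else 1
  have hF : ∀ {y : G} (hy : y ∈ Subgroup.centralizer ({z} : Set G)), F y = M.ptA ⟨y, hy⟩ := fun hy => dif_pos hy
  have him : (T.image F).card ≤ 3 := by
    rw [← a5_fix_three i]
    refine Finset.card_le_card fun s hs => ?_
    obtain ⟨y, hy, rfl⟩ := Finset.mem_image.mp hs
    obtain ⟨hC, h2, hQ, hxy⟩ := hT y hy
    rw [hF hC]
    obtain ⟨e1, e2⟩ := M.ptA_invol (y := ⟨y, hC⟩) h2 hQ
    exact Finset.mem_filter.mpr ⟨Finset.mem_univ _, e1, e2, by rw [M.ptA_coe, h.pt_fix M (c := ⟨y, hC⟩) hi hxy]⟩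
  refine le_trans (Finset.card_le_mul_card_image T 8 fun s hs => ?_) (Nat.mul_le_mul_left 8 him)
  obtain ⟨y, hy, rfl⟩ := Finset.mem_image.mp hs
  obtain ⟨hC, h2, hQ, -⟩ := hT y hy
  have hyinv : y⁻¹ = y := inv_eq_of_mul_eq_one_right h2
  rw [← Finset.card_image_of_injective (T.filter fun y' => F y' = F y) (mul_right_injective y)]
  refine M.coset_bound h (y := ⟨y, hC⟩) h2 hQ _ fun p hp => ?_
  obtain ⟨y', hy', rfl⟩ := Finset.mem_image.mp hp
  obtain ⟨hy'T, hFy⟩ := Finset.mem_filter.mp hy'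
  obtain ⟨hC', h2', -, -⟩ := hT y' hy'T
  refine ⟨?_, by show y * (y * y') * (y * (y * y')) = 1; rw [← mul_assoc y y, h2, one_mul, h2']⟩
  have : (((⟨y, hC⟩ : Subgroup.centralizer ({z} : Set G))⁻¹ * ⟨y', hC'⟩ : Subgroup.centralizer ({z} : Set G)) : G) ∈ Q := by
    rw [← M.ptA_ker, map_mul, map_inv, ← hF hC, ← hF hC', hFy, inv_mul_cancel]
  simpa [hyinv] using this

namespace Setting

theorem inD_conj [Finite G] (h : Setting z Q) {x d : G} (hx : x ∈ nonCentralInvol z Q) (hd : InD z x d) (hd1 : d ≠ 1) :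
    IsConj d z := by
  rcases hd with rfl | rfl | rfl | rfl
  · exact absurd rfl hd1
  · exact IsConj.refl _
  · exact h.X_conj hx
  · exact h.X_conj (h.zmul_mem hx)

theorem mem_inf_of_inD {x t d : G} (h : Setting z Q) (hx : x ∈ nonCentralInvol z Q)
    (htC : t ∈ Subgroup.centralizer ({z} : Set G)) (htx : t * x = x * t) (hd : InD z x d) :
    d ∈ Subgroup.centralizer ({z} : Set G) ⊓ Subgroup.centralizer ({t} : Set G) :=
  Subgroup.mem_inf.2 ⟨h.le_C (inD_Q hx h.toCore hd),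
    Subgroup.mem_centralizer_singleton_iff.mpr (inD_comm (h.cz htC) htx hd).symm⟩

/-- An involution of the four group and `t` have the same common centralizer as `z` and `t`. -/
theorem cent_pair [Finite G] (h : Setting z Q) {t x σ : G} (L : LocalData z Q t x σ)
    (htC : t ∈ Subgroup.centralizer ({z} : Set G)) (ht2 : t * t = 1) (htQ : t ∉ Q) {d : G} (hd : InD z x d) (hd1 : d ≠ 1) :
    Subgroup.centralizer ({d} : Set G) ⊓ Subgroup.centralizer ({t} : Set G)
      = Subgroup.centralizer ({z} : Set G) ⊓ Subgroup.centralizer ({t} : Set G) := by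
  obtain ⟨g, hg⟩ := isConj_iff.mp (h.inD_conj L.xX hd hd1)
  have htn : ¬ IsConj t z := h.outside_not_conj htC ht2 htQ
  have hdt : d * t = t * d := (inD_comm (h.cz htC) L.tx hd).symm
  set t' := g * t * g⁻¹ with ht'
  have ht'C : t' ∈ Subgroup.centralizer ({z} : Set G) := Subgroup.mem_centralizer_singleton_iff.mpr (by
    rw [ht', ← hg, conj_mul, conj_mul, hdt])
  have ht'2 : t' * t' = 1 := by rw [ht', conj_mul, ht2, mul_one, mul_inv_cancel]
  have ht'Q : t' ∉ Q := fun e => htn ((isConj_iff.mpr ⟨g, ht'.symm⟩).trans (h.conj_z_of_mem_Q e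
    (orderOf_two_iff'.mpr ⟨ht'2, fun e' => htQ (by
      rw [show t = g⁻¹ * t' * g by rw [ht']; group, e']; simp)⟩)))
  obtain ⟨x', σ', L'⟩ := local_data h.toCore ht'C ht'2 ht'Q
  have hmap : (Subgroup.centralizer ({d} : Set G) ⊓ Subgroup.centralizer ({t} : Set G)).map (MulAut.conj g).toMonoidHom
      = Subgroup.centralizer ({z} : Set G) ⊓ Subgroup.centralizer ({t'} : Set G) := by
    ext w
    simp only [Subgroup.mem_map, Subgroup.mem_inf, Subgroup.mem_centralizer_singleton_iff, MulEquiv.coe_toMonoidHom,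
      MulAut.conj_apply]
    constructor
    · rintro ⟨c, ⟨h1, h2⟩, rfl⟩
      exact ⟨by rw [← hg, conj_mul, conj_mul, h1], by rw [ht', conj_mul, conj_mul, h2]⟩
    · rintro ⟨h1, h2⟩
      refine ⟨g⁻¹ * w * g, ⟨?_, ?_⟩, by group⟩
      · rw [← hg] at h1
        simpa [mul_assoc] using congrArg (fun u => g⁻¹ * u * g) h1
      · rw [ht'] at h2
        simpa [mul_assoc] using congrArg (fun u => g⁻¹ * u * g) h2
  symm
  refine Subgroup.eq_of_le_of_card_ge (fun c hc => Subgroup.mem_inf.2 ⟨Subgroup.mem_centralizer_singleton_iff.mpr ?_,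
    (Subgroup.mem_inf.mp hc).2⟩) ?_
  · exact (L.abelian h.toCore htC ht2 hc (h.mem_inf_of_inD L.xX htC L.tx hd)).1
  · rw [L.card_sixteen h.toCore htC ht2, ← L'.card_sixteen h.toCore ht'C ht'2, ← hmap,
      Subgroup.card_map_of_injective (MulAut.conj g).injective]

/-- An element of `C(z,t)` outside `Q` has the same centralizer in `C(z)`. -/
theorem cent_eq_of_mem [Finite G] (h : Setting z Q) {t x σ y : G} (L : LocalData z Q t x σ)
    (htC : t ∈ Subgroup.centralizer ({z} : Set G)) (ht2 : t * t = 1)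
    (hy : y ∈ Subgroup.centralizer ({z} : Set G) ⊓ Subgroup.centralizer ({t} : Set G)) (hyQ : y ∉ Q) :
    Subgroup.centralizer ({z} : Set G) ⊓ Subgroup.centralizer ({y} : Set G)
      = Subgroup.centralizer ({z} : Set G) ⊓ Subgroup.centralizer ({t} : Set G) := by
  have hy2 := (L.abelian h.toCore htC ht2 hy hy).2
  have hyC := (Subgroup.mem_inf.mp hy).1
  obtain ⟨x', σ', L'⟩ := local_data h.toCore hyC hy2 hyQ
  symm
  refine Subgroup.eq_of_le_of_card_ge (fun c hc => Subgroup.mem_inf.2 ⟨(Subgroup.mem_inf.mp hc).1,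
    Subgroup.mem_centralizer_singleton_iff.mpr (L.abelian h.toCore htC ht2 hc hy).1⟩) ?_
  rw [L.card_sixteen h.toCore htC ht2, L'.card_sixteen h.toCore hyC hy2]

/-- A conjugation permuting the four group cyclically. -/
theorem exists_cycle [Finite G] (h : Setting z Q) {x : G} (hx : x ∈ nonCentralInvol z Q) :
    ∃ r : G, r * z * r⁻¹ = x ∧ r * x * r⁻¹ = z * x ∧ r * (z * x) * r⁻¹ = z := by
  obtain ⟨q1, hq1, e1⟩ := h.toCore.swap hx
  obtain ⟨g, hg⟩ := isConj_iff.mp (h.X_conj hx)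
  have hxz : x * z = z * x := h.zq hx.1
  set w := g * z * g⁻¹ with hw
  have hwC : w ∈ Subgroup.centralizer ({z} : Set G) := Subgroup.mem_centralizer_singleton_iff.mpr (by
    have e : g * z * g⁻¹ * (g * x * g⁻¹) = g * x * g⁻¹ * (g * z * g⁻¹) := by rw [conj_mul, conj_mul, hxz]
    rwa [hg, ← hw] at e)
  have hwX : w ∈ nonCentralInvol z Q := by
    refine ⟨h.mem_Q_of_conj hwC (isConj_iff.mpr ⟨g, rfl⟩).symm, by rw [hw, conj_mul, h.z_sq, mul_one, mul_inv_cancel],
      fun e => h.ne_one ?_, fun e => hx.2.2.2 ?_⟩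
    · rwa [hw, mul_inv_eq_one, mul_eq_left] at e
    · exact (mul_left_cancel (mul_right_cancel (e.trans hg.symm))).symm
  obtain ⟨q2, hq2, e2⟩ := h.toCore.swap hwX
  set q' := g⁻¹ * q2 * g with hq'
  have f1 : q' * x * q'⁻¹ = x := by
    have e : q2 * z * q2⁻¹ = z := by rw [h.zq hq2, mul_inv_cancel_right]
    calc q' * x * q'⁻¹ = g⁻¹ * (q2 * (g * x * g⁻¹) * q2⁻¹) * g := by rw [hq']; group
      _ = g⁻¹ * z * g := by rw [hg, e]
      _ = x := by rw [← hg]; group
  have f2 : q' * z * q'⁻¹ = z * x := by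
    calc q' * z * q'⁻¹ = g⁻¹ * (q2 * w * q2⁻¹) * g := by rw [hq', hw]; group
      _ = g⁻¹ * (z * w) * g := by rw [e2]
      _ = g⁻¹ * (g * x * g⁻¹ * (g * z * g⁻¹)) * g := by rw [hg, hw]
      _ = z * x := by rw [← hxz]; group
  have f3 : q1 * z * q1⁻¹ = z := by rw [h.zq hq1, mul_inv_cancel_right]
  have key : ∀ d : G, q1 * q' * d * (q1 * q')⁻¹ = q1 * (q' * d * q'⁻¹) * q1⁻¹ := fun d => by group
  have g1 : q1 * q' * z * (q1 * q')⁻¹ = x := by
    rw [key, f2, ← conj_mul, f3, e1, ← mul_assoc, h.z_sq, one_mul]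
  have g2 : q1 * q' * x * (q1 * q')⁻¹ = z * x := by rw [key, f1, e1]
  refine ⟨q1 * q', g1, g2, ?_⟩
  rw [← conj_mul, g1, g2, ← mul_assoc, hxz, mul_assoc, hx.2.1, mul_one]

end Setting

end Cfsg.Agent.Invol.HJ
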