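import Cfsg.Agent.Lib.Invol.HJ.CentT

/-!
# The four group `V` and its normalizer
-/

set_option autoImplicit false
set_option linter.unusedSectionVars false
set_option linter.style.haveILetI false

namespace Cfsg.Agent.Invol.HJ

open Cfsg

/-- A group of order twelve with a normal four group not centralized by an element of order three. -/
theorem iso_alt_four {W : Type*} [Group W] [Finite W] (h12 : Nat.card W = 12) (V : Subgroup W) [V.Normal]
    (hV : Nat.card V = 4) {a v : W} (ha : orderOf a = 3) (hv : v ∈ V) (hav : a * v ≠ v * a) :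
    Nonempty (W ≃* alternatingGroup (Fin 4)) := by
  classical
  set P := Subgroup.zpowers a with hP
  have hP3 : Nat.card P = 3 := by rw [Nat.card_zpowers, ha]
  have hcore : P.normalCore = ⊥ := by
    haveI : Fact (Nat.card P).Prime := ⟨by rw [hP3]; exact Nat.prime_three⟩
    rcases (P.normalCore.subgroupOf P).eq_bot_or_eq_top_of_prime_card with e | e
    · refine (Subgroup.eq_bot_iff_forall _).mpr fun w hw => ?_
      have hmem : (⟨w, P.normalCore_le hw⟩ : P) ∈ P.normalCore.subgroupOf P := hw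
      rw [e, Subgroup.mem_bot] at hmem
      exact congrArg Subtype.val hmem
    · exfalso
      have hPle : P ≤ P.normalCore := Subgroup.subgroupOf_eq_top.mp e
      have h1 : v * a⁻¹ * v⁻¹ ∈ P :=
        P.normalCore_le (P.normalCore_normal.conj_mem _ (hPle (P.inv_mem (Subgroup.mem_zpowers a))) v)
      have hc1 : a * v * a⁻¹ * v⁻¹ ∈ P := by
        have := P.mul_mem (Subgroup.mem_zpowers a) h1
        rwa [← mul_assoc, ← mul_assoc] at this
      have hc2 : a * v * a⁻¹ * v⁻¹ ∈ V := V.mul_mem (‹V.Normal›.conj_mem v hv a) (V.inv_mem hv)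
      have hd := Nat.dvd_gcd (Subgroup.orderOf_dvd_natCard _ hc1) (Subgroup.orderOf_dvd_natCard _ hc2)
      rw [hP3, hV, show Nat.gcd 3 4 = 1 from rfl, Nat.dvd_one, orderOf_eq_one_iff, mul_inv_eq_one, mul_inv_eq_iff_eq_mul] at hd
      exact hav hd
  have hindex : P.index = 4 := by
    have := P.card_mul_index
    rw [hP3, h12] at this
    omega
  haveI : Fintype (W ⧸ P) := Fintype.ofFinite _
  let e : W ⧸ P ≃ Fin 4 := Finite.equivFinOfCardEq (by rw [← Subgroup.index_eq_card, hindex])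
  let f : W →* Equiv.Perm (Fin 4) := e.permCongrHom.toMonoidHom.comp (MulAction.toPermHom W (W ⧸ P))
  have hinj : Function.Injective f :=
    e.permCongrHom.injective.comp ((MonoidHom.ker_eq_bot_iff _).mp (P.normalCore_eq_ker ▸ hcore))
  have hrange : f.range = alternatingGroup (Fin 4) := by
    refine Equiv.Perm.eq_alternatingGroup_of_index_eq_two ?_
    have := f.range.card_mul_index
    rw [← Nat.card_congr (MonoidHom.ofInjective hinj).toEquiv, h12, Nat.card_perm, Nat.card_fin,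
      show (4 : ℕ).factorial = 24 from rfl] at this
    omega
  exact ⟨(MonoidHom.ofInjective hinj).trans (MulEquiv.subgroupCongr hrange)⟩

/-- A group of order four and exponent two. -/
theorem iso_klein {W : Type*} [Group W] [Finite W] (h4 : Nat.card W = 4) (h2 : ∀ w : W, w * w = 1) :
    Nonempty (W ≃* Multiplicative (ZMod 2) × Multiplicative (ZMod 2)) := by
  classical
  haveI : Nontrivial W := Finite.one_lt_card_iff_nontrivial.mp (by omega)
  haveI : IsKleinFour W := ⟨h4, Monoid.exponent_eq_prime_iff Nat.prime_two |>.mpr fun w hw =>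
    orderOf_eq_prime (by rw [pow_two]; exact h2 w) hw⟩
  let e : W ≃ Multiplicative (ZMod 2) × Multiplicative (ZMod 2) :=
    (Finite.equivFinOfCardEq h4).trans (Finite.equivFinOfCardEq (by simp [Nat.card_eq_fintype_card])).symm
  refine ⟨IsKleinFour.mulEquiv' (e.trans (Equiv.swap (e 1) 1)) (by simp) ?_⟩
  refine Monoid.exponent_eq_prime_iff Nat.prime_two |>.mpr fun w hw => orderOf_eq_prime ?_ hw
  revert w
  decide

variable {G : Type*} [Group G] {z : G} {Q : Subgroup G} {t x σ r : G} {K : Subgroup G}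

namespace Good

theorem V_le (g : Good z Q t x σ r) : vfix z t r ≤ Subgroup.centralizer ({t} : Set G) :=
  fun _ hv => (Subgroup.mem_inf.mp (Subgroup.mem_inf.mp hv).1).2

theorem V_central [Finite G] (g : Good z Q t x σ r) (h : Setting z Q) (c : Comp z t x r K) {m v : G}
    (hm : m ∈ Subgroup.centralizer ({t} : Set G)) (hv : v ∈ vfix z t r) : m * v = v * m := by
  obtain ⟨w, hw, hk⟩ := c.prod m hm
  have h1 : Commute (w * m) v := (g.V_cent_K h c hv hk).symm
  have h2 : Commute w v := g.mul_comm' h.toCore (Subgroup.mem_inf.mp hw).1 (Subgroup.mem_inf.mp hv).1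
  have := h2.inv_left.mul_left h1
  rwa [inv_mul_cancel_left] at this

theorem K_center [Finite G] (g : Good z Q t x σ r) (h : Setting z Q) (c : Comp z t x r K) {k : G} (hk : k ∈ K)
    (hc : ∀ a ∈ K, k * a = a * k) : k = 1 := by
  have hd := g.cent_inD h c (Or.inr (Or.inl rfl)) h.ne_one hk (hc z c.zK)
  exact g.inD_fix h.toCore hd (hc r c.rK).symm

/-- The direct product decomposition of `C(t)`. -/
theorem cent_iso [Finite G] (g : Good z Q t x σ r) (h : Setting z Q) (c : Comp z t x r K) :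
    Nonempty (Subgroup.centralizer ({t} : Set G) ≃*
      (Multiplicative (ZMod 2) × Multiplicative (ZMod 2)) × alternatingGroup (Fin 5)) := by
  obtain ⟨eK⟩ := g.iso_K h c
  obtain ⟨eV⟩ := iso_klein (g.card_V h) (fun w => Subtype.ext (g.sq h.toCore (Subgroup.mem_inf.mp w.2).1))
  let f : vfix z t r × K →* Subgroup.centralizer ({t} : Set G) :=
    MonoidHom.mk' (fun p => ⟨p.1.1 * p.2.1, mul_mem (g.V_le p.1.2) (c.le p.2.2)⟩) fun p q => Subtype.ext (by
      show (p.1 * q.1 : G) * (p.2 * q.2) = p.1 * p.2 * (q.1 * q.2)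
      exact (show Commute (q.1 : G) (p.2 : G) from g.V_cent_K h c q.1.2 p.2.2).mul_mul_mul_comm (p.1 : G) (q.2 : G))
  have hf : Function.Bijective f := by
    refine ⟨(injective_iff_map_eq_one f).mpr fun p hp => ?_, fun m => ?_⟩
    · have e : (p.1 : G) * p.2 = 1 := congrArg Subtype.val hp
      have e1 : (p.1 : G) = 1 := c.inf _ p.1.2 (by rw [eq_inv_of_mul_eq_one_left e]; exact K.inv_mem p.2.2)
      rw [e1, one_mul] at e
      exact Prod.ext (Subtype.ext e1) (Subtype.ext e)
    · obtain ⟨v, hv, hk⟩ := c.prod m m.2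
      exact ⟨(⟨v⁻¹, inv_mem hv⟩, ⟨v * m, hk⟩), Subtype.ext (inv_mul_cancel_left v (m : G))⟩
  exact ⟨(MulEquiv.ofBijective f hf).symm.trans (MulEquiv.prodCongr eV eK)⟩

/-- The largest normal 2-subgroup of `C(t)` is `V`. -/
theorem pCore_eq [Finite G] (g : Good z Q t x σ r) (h : Setting z Q) (c : Comp z t x r K) :
    (pCore 2 (Subgroup.centralizer ({t} : Set G))).map (Subgroup.subtype _) = vfix z t r := by
  haveI : Fact (Nat.Prime 2) := ⟨Nat.prime_two⟩
  obtain ⟨eK⟩ := g.iso_K h c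
  haveI : IsSimpleGroup (alternatingGroup (Fin 5)) := alternatingGroup.isSimpleGroup (by simp)
  haveI : Nontrivial K := eK.symm.toEquiv.nontrivial_congr.mp inferInstance
  haveI : IsSimpleGroup K := IsSimpleGroup.isSimpleGroup_of_surjective eK.symm.toMonoidHom eK.symm.surjective
  set V' := (vfix z t r).subgroupOf (Subgroup.centralizer ({t} : Set G)) with hV'
  haveI hVn : V'.Normal := ⟨fun v hv m => by
    have e : (m : G) * v * (m : G)⁻¹ = v := by
      rw [g.V_central h c m.2 (show (v : G) ∈ vfix z t r from hv), mul_inv_cancel_right]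
    show (m : G) * v * (m : G)⁻¹ ∈ vfix z t r
    rw [e]; exact hv⟩
  have hV2 : IsPGroup 2 V' := IsPGroup.of_card (n := 2) (by
    rw [hV', Nat.card_congr (Subgroup.subgroupOfEquivOfLe g.V_le).toEquiv, g.card_V h]; norm_num)
  have hVN := Cfsg.Agent.Grp.le_pCore hVn hV2
  haveI hNn := Cfsg.Agent.Grp.pCore_isNormal (p := 2) (G := Subgroup.centralizer ({t} : Set G))
  have hNp : IsPGroup 2 (pCore 2 (Subgroup.centralizer ({t} : Set G))) := Cfsg.Agent.Grp.pCore_isPGroup
  set N' : Subgroup K := ((pCore 2 (Subgroup.centralizer ({t} : Set G))).map (Subgroup.subtype _)).subgroupOf K with hN'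
  have hN'mem : ∀ {k : K}, k ∈ N' ↔ (⟨(k : G), c.le k.2⟩ : Subgroup.centralizer ({t} : Set G)) ∈ pCore 2 _ := fun {k} =>
    ⟨fun ⟨w, hw, e⟩ => (show w = ⟨(k : G), c.le k.2⟩ from Subtype.ext e) ▸ hw, fun hk => ⟨_, hk, rfl⟩⟩
  haveI : N'.Normal := ⟨fun k hk a => hN'mem.mpr (hNn.conj_mem _ (hN'mem.mp hk) ⟨(a : G), c.le a.2⟩)⟩
  have hbot : N' = ⊥ := by
    rcases IsSimpleGroup.eq_bot_or_eq_top_of_normal N' inferInstance with e | e
    · exact e
    · exfalso
      haveI : Fact (Nat.Prime 5) := ⟨by norm_num⟩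
      obtain ⟨f, hf⟩ := exists_prime_orderOf_dvd_card' (G := K) 5 (by rw [g.card_K h c]; norm_num)
      have hfN := hN'mem.mp (show f ∈ N' by rw [e]; exact Subgroup.mem_top f)
      obtain ⟨j, hj⟩ := IsPGroup.iff_orderOf.mp hNp ⟨_, hfN⟩
      rw [Subgroup.orderOf_mk, Subgroup.orderOf_mk, Subgroup.orderOf_coe, hf] at hj
      have : 5 ∣ 2 := Nat.Prime.dvd_of_dvd_pow (by norm_num) (dvd_of_eq hj)
      omega
  refine le_antisymm ?_ fun v hv => ⟨⟨v, g.V_le hv⟩, hVN hv, rfl⟩
  rintro _ ⟨n, hn, rfl⟩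
  obtain ⟨v, hv, hk⟩ := c.prod n n.2
  have hmem : (⟨v * n, hk⟩ : K) ∈ N' :=
    hN'mem.mpr (Subgroup.mul_mem _ (hVN (show (⟨v, g.V_le hv⟩ : Subgroup.centralizer ({t} : Set G)) ∈ V' from hv)) hn)
  rw [hbot, Subgroup.mem_bot] at hmem
  rw [Subgroup.coe_subtype, eq_inv_of_mul_eq_one_right (congrArg Subtype.val hmem)]
  exact inv_mem hv

/-- An element of order three centralizing the complement and turning `V`. -/
theorem exists_turn_V [Finite G] (g : Good z Q t x σ r) (h : Setting z Q) :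
    ∃ a : G, a * a * a = 1 ∧ a * t ≠ t * a ∧ a * z = z * a ∧ a * x = x * a ∧ a * r = r * a ∧
      ∀ v ∈ vfix z t r, a * v * a⁻¹ ∈ vfix z t r := by
  classical
  letI := Fintype.ofFinite G
  haveI : Fact (Nat.Prime 3) := ⟨Nat.prime_three⟩
  obtain ⟨hσS, -⟩ := h.sigma_rotate g.L g.tC g.t2 g.tQ
  let E : G → Prop := fun a => a * z = z * a ∧ a * x = x * a ∧ a * a * a = 1 ∧ a ≠ 1 ∧
    ∀ s ∈ czt z t, a * s * a⁻¹ ∈ czt z t
  have hσ : E σ := ⟨h.cz g.L.σC, g.L.σx, g.L.σ3, fun e => g.L.σne (by rw [e]; simp [g.t2]), hσS⟩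
  have hrS' : ∀ s ∈ czt z t, r⁻¹ * s * r ∈ czt z t := by
    have : ∀ n : ℕ, ∀ s ∈ czt z t, r ^ n * s * (r ^ n)⁻¹ ∈ czt z t := by
      intro n
      induction n with
      | zero => intro s hs; simpa using hs
      | succ n ih =>
        intro s hs
        have := g.rS _ (ih s hs)
        rwa [show r * (r ^ n * s * (r ^ n)⁻¹) * r⁻¹ = r ^ (n + 1) * s * (r ^ (n + 1))⁻¹ by
          rw [pow_succ' r n]; group] at this
    intro s hs
    have e : r⁻¹ = r ^ 8 := inv_eq_of_mul_eq_one_right (by rw [← pow_succ']; exact g.r9)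
    have := this 8 s hs
    rwa [← e, inv_inv] at this
  have hconj : ∀ {c : G}, (∀ s ∈ czt z t, c * s * c⁻¹ ∈ czt z t) → (∀ s ∈ czt z t, c⁻¹ * s * c ∈ czt z t) →
      ∀ {a}, (a * (c⁻¹ * z * c) = (c⁻¹ * z * c) * a) → (a * (c⁻¹ * x * c) = (c⁻¹ * x * c) * a) → E a → E (c * a * c⁻¹) := by
    intro c h1 h2 a e1 e2 ha
    obtain ⟨-, -, h3, h4, h5⟩ := ha
    have cv : ∀ {d : G}, a * (c⁻¹ * d * c) = (c⁻¹ * d * c) * a → c * a * c⁻¹ * d = d * (c * a * c⁻¹) := fun {d} e => by
      have := congrArg (fun u => c * u * c⁻¹) e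
      simpa [mul_assoc] using this
    refine ⟨cv e1, cv e2, ?_, fun e => h4 (by rwa [mul_inv_eq_one, mul_eq_left] at e), fun s hs => ?_⟩
    · rw [conj_mul, conj_mul, h3, mul_one, mul_inv_cancel]
    · rw [show c * a * c⁻¹ * s * (c * a * c⁻¹)⁻¹ = c * (a * (c⁻¹ * s * c) * a⁻¹) * c⁻¹ by group]
      exact h1 _ (h5 _ (h2 s hs))
  let T : Finset G := Finset.univ.filter E
  have hT : ∀ {a}, a ∈ T ↔ E a := by simp [T]
  -- conjugation by the turning element
  have hrE : ∀ {a}, E a → E (r * a * r⁻¹) := by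
    intro a ha
    have e1 : r⁻¹ * z * r = z * x := by
      calc r⁻¹ * z * r = r⁻¹ * (r * (z * x) * r⁻¹) * r := by rw [g.rzx h.toCore]
        _ = z * x := by group
    have e2 : r⁻¹ * x * r = z := by
      calc r⁻¹ * x * r = r⁻¹ * (r * z * r⁻¹) * r := by rw [g.rz]
        _ = z := by group
    refine hconj g.rS hrS' ?_ ?_ ha
    · rw [e1]; exact inD_comm ha.1 ha.2.1 (Or.inr (Or.inr (Or.inr rfl)))
    · rw [e2]; exact ha.1
  have hσE : ∀ {a}, E a → E (σ * a * σ⁻¹) := by
    intro a ha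
    have hσS' : ∀ s ∈ czt z t, σ⁻¹ * s * σ ∈ czt z t := fun s hs => by
      have := hσS _ (hσS s hs)
      rwa [show σ * (σ * s * σ⁻¹) * σ⁻¹ = σ⁻¹ * s * σ from by
        calc σ * (σ * s * σ⁻¹) * σ⁻¹ = (σ * σ * σ) * (σ⁻¹ * s * σ) * (σ * σ * σ)⁻¹ := by group
          _ = σ⁻¹ * s * σ := by rw [g.L.σ3]; group] at this
    refine hconj hσS hσS' ?_ ?_ ha
    · rw [mul_assoc, show z * σ = σ * z from (h.cz g.L.σC).symm, inv_mul_cancel_left]; exact ha.1
    · rw [mul_assoc, show x * σ = σ * x from g.L.σx.symm, inv_mul_cancel_left]; exact ha.2.1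
  -- the number of elements of order three
  have hTmod : T.card % 3 ≠ 0 := by
    have hσ2 : σ * σ ≠ σ := fun e => hσ.2.2.2.1 (mul_eq_left.mp e)
    have hord : orderOf σ = 3 := orderOf_eq_prime (by rw [pow_three', g.L.σ3]) hσ.2.2.2.1
    set F := Subgroup.zpowers σ
    have hF3 : IsPGroup 3 F := IsPGroup.of_card (n := 1) (by rw [Nat.card_zpowers, hord, pow_one])
    have hFE : ∀ (k : F) {a}, E a → E ((k : G) * a * (k : G)⁻¹) := by
      rintro ⟨k, hk⟩ a ha
      obtain ⟨n, rfl⟩ := (mem_powers_iff_mem_zpowers.mpr hk : k ∈ Submonoid.powers σ)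
      induction n with
      | zero => simpa using ha
      | succ n ih =>
        have := hσE (ih (pow_mem (Subgroup.mem_zpowers σ) n))
        show E (σ ^ (n + 1) * a * (σ ^ (n + 1))⁻¹)
        rwa [show σ * (σ ^ n * a * (σ ^ n)⁻¹) * σ⁻¹ = σ ^ (n + 1) * a * (σ ^ (n + 1))⁻¹ by rw [pow_succ' σ n]; group] at this
    letI act : MulAction F {a // a ∈ T} :=
      { smul := fun k a => ⟨k * a * (k : G)⁻¹, hT.mpr (hFE k (hT.mp a.2))⟩
        one_smul := fun a => Subtype.ext (show (1 : G) * a * (1 : G)⁻¹ = a by group)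
        mul_smul := fun a b w => Subtype.ext (show ((a : G) * b) * w * ((a : G) * b)⁻¹ = a * (b * w * (b : G)⁻¹) * (a : G)⁻¹ by group) }
    have hm := hF3.card_modEq_card_fixedPoints {a // a ∈ T}
    have hfix : Nat.card (MulAction.fixedPoints F {a // a ∈ T}) = 2 := by
      have hσσ : E (σ * σ) := by
        refine ⟨(Commute.mul_left hσ.1 hσ.1).eq, (Commute.mul_left hσ.2.1 hσ.2.1).eq, ?_, fun e => hσ.2.2.2.1 ?_, fun s hs => ?_⟩
        · rw [show σ * σ * (σ * σ) * (σ * σ) = (σ * σ * σ) * (σ * σ * σ) by simp only [mul_assoc], g.L.σ3, one_mul]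
        · have := g.L.σ3
          rwa [e, one_mul] at this
        · have := hσS _ (hσS s hs)
          rwa [show σ * (σ * s * σ⁻¹) * σ⁻¹ = σ * σ * s * (σ * σ)⁻¹ by group] at this
      have honly : ∀ a, E a → σ * a = a * σ → a = σ ∨ a = σ * σ := by
        intro a ha hc
        have ha3 : orderOf a = 3 := orderOf_eq_prime (by rw [pow_three', ha.2.2.1]) ha.2.2.2.1
        by_contra hcon
        push Not at hcon
        obtain ⟨hn1, hn2⟩ := hcon
        set U := F ⊔ Subgroup.zpowers a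
        have hUC : U ≤ Subgroup.centralizer ({z} : Set G) :=
          sup_le (Subgroup.zpowers_le.mpr g.L.σC) (Subgroup.zpowers_le.mpr (Subgroup.mem_centralizer_singleton_iff.mpr ha.1))
        have hdisj : F ⊓ Subgroup.zpowers a = ⊥ := by
          rw [eq_bot_iff]
          rintro w ⟨hwF, hwA⟩
          rw [Subgroup.mem_bot]
          by_contra hw
          have e1 : Subgroup.zpowers a = Subgroup.zpowers w :=
            (Subgroup.eq_of_le_of_card_ge (Subgroup.zpowers_le.mpr hwA) (by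
              rw [Nat.card_zpowers, Nat.card_zpowers, ha3]
              have hd : orderOf w ∣ 3 :=
                (Subgroup.orderOf_dvd_natCard _ hwA).trans (dvd_of_eq (by rw [Nat.card_zpowers, ha3]))
              rcases (Nat.dvd_prime Nat.prime_three).mp hd with e | e
              · exact absurd (orderOf_eq_one_iff.mp e) hw
              · omega)).symm
          have haF : a ∈ F := (e1 ▸ Subgroup.zpowers_le.mpr hwF) (Subgroup.mem_zpowers a)
          obtain ⟨n, rfl⟩ := (mem_powers_iff_mem_zpowers.mpr haF : a ∈ Submonoid.powers σ)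
          have hn : σ ^ n = σ ^ (n % 3) := by rw [← pow_mod_orderOf, hord]
          have hn3 : n % 3 = 0 ∨ n % 3 = 1 ∨ n % 3 = 2 := by omega
          rcases hn3 with e | e | e <;> rw [e] at hn
          · exact ha.2.2.2.1 (by show σ ^ n = 1; rw [hn, pow_zero])
          · exact hn1 (by show σ ^ n = σ; rw [hn, pow_one])
          · exact hn2 (by show σ ^ n = σ * σ; rw [hn, pow_two])
        have hcardU : Nat.card U = 3 * 3 := by
          rw [show 3 * 3 = Nat.card F * Nat.card (Subgroup.zpowers a) by rw [Nat.card_zpowers, Nat.card_zpowers, hord, ha3]]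
          refine S3313.card_of_factor le_sup_left le_sup_right hdisj fun w hw => ?_
          have hnorm : F ≤ Subgroup.normalizer (Subgroup.zpowers a : Set G) := by
            refine Subgroup.zpowers_le.mpr ?_
            refine Subgroup.mem_normalizer_iff.mpr fun b => ?_
            have hcb : ∀ b ∈ Subgroup.zpowers a, σ * b * σ⁻¹ = b := fun b hb => by
              obtain ⟨i, rfl⟩ := Subgroup.mem_zpowers_iff.mp hb
              rw [((show Commute σ a from hc).zpow_right i).eq, mul_inv_cancel_right]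
            refine ⟨fun hb => by rw [hcb b hb]; exact hb, fun hb => ?_⟩
            have := hcb _ hb
            rw [mul_left_inj, mul_right_inj] at this
            rwa [this] at hb
          rw [← SetLike.mem_coe, Subgroup.coe_mul_of_left_le_normalizer_right _ _ hnorm, Set.mem_mul] at hw
          obtain ⟨p, hp, q, hq, e⟩ := hw
          exact ⟨p, hp, q, hq, e.symm⟩
        have := Subgroup.card_dvd_of_le hUC
        rw [hcardU, h.toCore.card_C] at this
        omega
      rw [Nat.card_eq_two_iff' (⟨⟨σ, hT.mpr hσ⟩, fun k => Subtype.ext ?_⟩ : MulAction.fixedPoints F {a // a ∈ T})]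
      · refine ⟨⟨⟨σ * σ, hT.mpr hσσ⟩, fun k => Subtype.ext ?_⟩, fun e => hσ2 (congrArg (fun u => u.1.1) e), fun w hw => ?_⟩
        · obtain ⟨i, hi⟩ := Subgroup.mem_zpowers_iff.mp k.2
          show (k : G) * (σ * σ) * (k : G)⁻¹ = σ * σ
          rw [← hi]; rw [((Commute.refl σ).zpow_left i |>.mul_right ((Commute.refl σ).zpow_left i)).eq, mul_inv_cancel_right]
        · obtain ⟨⟨a, haT⟩, hwf⟩ := w
          have hc : σ * a = a * σ := mul_inv_eq_iff_eq_mul.mp (congrArg Subtype.val (hwf ⟨σ, Subgroup.mem_zpowers σ⟩))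
          rcases honly a (hT.mp haT) hc with e | e
          · exact absurd (Subtype.ext (Subtype.ext e)) hw
          · exact Subtype.ext (Subtype.ext e)
      · obtain ⟨i, hi⟩ := Subgroup.mem_zpowers_iff.mp k.2
        show (k : G) * σ * (k : G)⁻¹ = σ
        rw [← hi]; group
    rw [hfix, Nat.card_eq_fintype_card, Fintype.card_coe] at hm
    rw [hm]
    decide
  -- a fixed point of the turning element
  set R := Subgroup.zpowers r
  have hR3 : IsPGroup 3 R := by
    have hd : orderOf r ∣ 3 ^ 2 := orderOf_dvd_of_pow_eq_one g.r9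
    obtain ⟨j, -, hj⟩ := (Nat.dvd_prime_pow Nat.prime_three).mp hd
    exact IsPGroup.of_card (n := j) (by rw [Nat.card_zpowers, hj])
  have hRE : ∀ (k : R) {a}, E a → E ((k : G) * a * (k : G)⁻¹) := by
    rintro ⟨k, hk⟩ a ha
    obtain ⟨n, rfl⟩ := (mem_powers_iff_mem_zpowers.mpr hk : k ∈ Submonoid.powers r)
    induction n with
    | zero => simpa using ha
    | succ n ih =>
      have := hrE (ih (pow_mem (Subgroup.mem_zpowers r) n))
      show E (r ^ (n + 1) * a * (r ^ (n + 1))⁻¹)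
      rwa [show r * (r ^ n * a * (r ^ n)⁻¹) * r⁻¹ = r ^ (n + 1) * a * (r ^ (n + 1))⁻¹ by rw [pow_succ' r n]; group] at this
  letI act : MulAction R {a // a ∈ T} :=
    { smul := fun k a => ⟨k * a * (k : G)⁻¹, hT.mpr (hRE k (hT.mp a.2))⟩
      one_smul := fun a => Subtype.ext (show (1 : G) * a * (1 : G)⁻¹ = a by group)
      mul_smul := fun a b w => Subtype.ext (show ((a : G) * b) * w * ((a : G) * b)⁻¹ = a * (b * w * (b : G)⁻¹) * (a : G)⁻¹ by group) }
  have hm := hR3.card_modEq_card_fixedPoints {a // a ∈ T}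
  have hne : Nat.card (MulAction.fixedPoints R {a // a ∈ T}) ≠ 0 := by
    intro h0
    rw [h0, Nat.card_eq_fintype_card, Fintype.card_coe] at hm
    exact hTmod hm
  obtain ⟨⟨a, haT⟩, hfix⟩ := (Nat.card_pos_iff.mp (Nat.pos_of_ne_zero hne)).1
  have har : r * a = a * r := mul_inv_eq_iff_eq_mul.mp (congrArg Subtype.val (hfix ⟨r, Subgroup.mem_zpowers r⟩))
  obtain ⟨hz, hx, h3, h1, hS⟩ := hT.mp haT
  refine ⟨a, h3, fun hat => h1 ?_, hz, hx, har.symm, fun v hv => ?_⟩
  · have haS : a ∈ czt z t := Subgroup.mem_inf.2 ⟨Subgroup.mem_centralizer_singleton_iff.mpr hz,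
      Subgroup.mem_centralizer_singleton_iff.mpr hat⟩
    rwa [g.sq h.toCore haS, one_mul] at h3
  · obtain ⟨hvS, hvr⟩ := Subgroup.mem_inf.mp hv
    refine Subgroup.mem_inf.2 ⟨hS v hvS, Subgroup.mem_centralizer_singleton_iff.mpr ?_⟩
    exact (Commute.mul_left (Commute.mul_left har.symm (Subgroup.mem_centralizer_singleton_iff.mp hvr))
      (Commute.inv_left har.symm)).eq

theorem conj_K [Finite G] (g : Good z Q t x σ r) (h : Setting z Q) (c : Comp z t x r K) {n : G}
    (hn : ∀ m ∈ Subgroup.centralizer ({t} : Set G), n * m * n⁻¹ ∈ Subgroup.centralizer ({t} : Set G)) {k : G}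
    (hk : k ∈ K) : n * k * n⁻¹ ∈ K := by
  classical
  obtain ⟨eK⟩ := g.iso_K h c
  haveI : IsSimpleGroup (alternatingGroup (Fin 5)) := alternatingGroup.isSimpleGroup (by simp)
  haveI : Nontrivial K := eK.symm.toEquiv.nontrivial_congr.mp inferInstance
  haveI : IsSimpleGroup K := IsSimpleGroup.isSimpleGroup_of_surjective eK.symm.toMonoidHom eK.symm.surjective
  have hch : ∀ a : K, ∃ v : vfix z t r, (v : G) * (n * a * n⁻¹) ∈ K := fun a => by
    obtain ⟨v, hv, hv'⟩ := c.prod _ (hn a (c.le a.2))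
    exact ⟨⟨v, hv⟩, hv'⟩
  choose p hp using hch
  have huniq : ∀ {m : G} {v v' : vfix z t r}, (v : G) * m ∈ K → (v' : G) * m ∈ K → v = v' := by
    intro m v v' h1 h2
    have := K.mul_mem h1 (K.inv_mem h2)
    rw [show (v : G) * m * ((v' : G) * m)⁻¹ = v * (v' : G)⁻¹ by group] at this
    exact Subtype.ext (mul_inv_eq_one.mp (c.inf _ (mul_mem v.2 (inv_mem v'.2)) this))
  let ψ : K →* vfix z t r := MonoidHom.mk' p fun a b => (huniq (m := n * ((a * b : K) : G) * n⁻¹) (v' := p (a * b)) (by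
    have e : ((p a * p b : vfix z t r) : G) * (n * ((a * b : K) : G) * n⁻¹)
        = ((p a : G) * (n * a * n⁻¹)) * ((p b : G) * (n * b * n⁻¹)) := by
      push_cast
      rw [show n * ((a : G) * b) * n⁻¹ = (n * a * n⁻¹) * (n * b * n⁻¹) by group]
      exact (show Commute (p b : G) (n * a * n⁻¹) from (g.V_central h c (hn a (c.le a.2)) (p b).2).symm).mul_mul_mul_comm _ _
    rw [e]; exact K.mul_mem (hp a) (hp b)) (hp (a * b))).symm
  have hker : ψ.ker = ⊤ := by
    refine (IsSimpleGroup.eq_bot_or_eq_top_of_normal ψ.ker inferInstance).resolve_left fun e => ?_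
    have := Nat.card_le_card_of_injective ψ ((MonoidHom.ker_eq_bot_iff ψ).mp e)
    rw [g.card_K h c, g.card_V h] at this
    omega
  have e : p ⟨k, hk⟩ = 1 := MonoidHom.mem_ker.mp (show (⟨k, hk⟩ : K) ∈ ψ.ker by rw [hker]; exact Subgroup.mem_top _)
  have := hp ⟨k, hk⟩
  rw [e] at this
  simpa using this

set_option maxHeartbeats 1000000 in
/-- The normalizer of `V`. -/
theorem norm_iso [Finite G] (g : Good z Q t x σ r) (h : Setting z Q) (c : Comp z t x r K) :
    Nonempty (Subgroup.normalizer (vfix z t r : Set G) ≃* alternatingGroup (Fin 4) × alternatingGroup (Fin 5)) := by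
  classical
  letI := Fintype.ofFinite G
  set N := Subgroup.normalizer (vfix z t r : Set G) with hN
  set M := Subgroup.centralizer ({t} : Set G) with hM
  obtain ⟨eK⟩ := g.iso_K h c
  obtain ⟨a, ha3, hat, haz, hax, har, haV⟩ := g.exists_turn_V h
  have hNmem : ∀ {n : G}, n ∈ N ↔ ∀ v, v ∈ vfix z t r ↔ n * v * n⁻¹ ∈ vfix z t r := Subgroup.mem_normalizer_iff
  have hMN : M ≤ N := fun m hm => hNmem.mpr fun v => by
    have hfix : ∀ {w}, w ∈ vfix z t r → m * w * m⁻¹ = w := fun hw => by rw [g.V_central h c hm hw, mul_inv_cancel_right]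
    refine ⟨fun hv => by rwa [hfix hv], fun hv => ?_⟩
    have := hfix hv
    rw [mul_left_inj, mul_right_inj] at this
    rwa [this] at hv
  have hainv : a⁻¹ = a * a := inv_eq_of_mul_eq_one_right (by rw [← mul_assoc]; exact ha3)
  have haN : a ∈ N := hNmem.mpr fun v => by
    refine ⟨haV v, fun hv => ?_⟩
    have := haV _ (haV _ hv)
    rwa [show a * (a * (a * v * a⁻¹) * a⁻¹) * a⁻¹ = (a * a * a) * v * (a * a * a)⁻¹ by group, ha3, one_mul, inv_one,
      mul_one] at this
  have hNM : ∀ n ∈ N, ∀ m ∈ M, n * m * n⁻¹ ∈ M := by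
    intro n hn m hm
    refine Subgroup.mem_centralizer_singleton_iff.mpr ?_
    have ht' : n⁻¹ * t * n ∈ vfix z t r := by
      refine (hNmem.mp hn _).mpr ?_
      rw [show n * (n⁻¹ * t * n) * n⁻¹ = t by group]
      exact g.t_mem_V
    have := congrArg (fun u => n * u * n⁻¹) (g.V_central h c hm ht')
    simpa [mul_assoc] using this
  have hKN : ∀ n ∈ N, ∀ k ∈ K, n * k * n⁻¹ ∈ K := fun n hn k hk => g.conj_K h c (hNM n hn) hk
  -- `a` centralizes the complement
  have haK : ∀ k ∈ K, a * k = k * a := fun k hk => g.cent_K_of_fix h c (hKN a haN)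
    (fun b hb => by have := hKN a⁻¹ (inv_mem haN) b hb; rwa [inv_inv] at this) haz hax har hk
  let W : Subgroup G := N ⊓ Subgroup.centralizer (K : Set G)
  have hWmem : ∀ {w}, w ∈ W ↔ w ∈ N ∧ ∀ k ∈ K, k * w = w * k := by
    intro w; simp [W, Subgroup.mem_centralizer_iff]
  have haW : a ∈ W := hWmem.mpr ⟨haN, fun k hk => (haK k hk).symm⟩
  have hVN : vfix z t r ≤ N := fun v hv => hMN (g.V_le hv)
  have hVW : vfix z t r ≤ W := fun v hv => hWmem.mpr ⟨hVN hv, fun k hk => (g.V_cent_K h c hv hk).symm⟩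
  -- the orbit of `t`
  have horb : ∀ v ∈ vfix z t r, v ≠ 1 → ∃ i : ℕ, a ^ i * t * (a ^ i)⁻¹ = v := by
    set o1 := a * t * a⁻¹ with ho1
    set o2 := a * o1 * a⁻¹ with ho2
    have ho3 : a * o2 * a⁻¹ = t := by
      rw [ho2, ho1, show a * (a * (a * t * a⁻¹) * a⁻¹) * a⁻¹ = (a * a * a) * t * (a * a * a)⁻¹ by group, ha3]
      group
    have h01 : o1 ≠ t := fun e => hat (mul_inv_eq_iff_eq_mul.mp e)
    have h02 : o2 ≠ t := fun e => h01 (by
      calc o1 = a * o2 * a⁻¹ := by rw [e]
        _ = t := ho3)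
    have h12 : o2 ≠ o1 := fun e => h01 (mul_left_cancel (mul_right_cancel e))
    have ht1 : t ≠ 1 := fun e => g.tQ (e ▸ Q.one_mem)
    have hone : ∀ {w : G}, w ≠ 1 → a * w * a⁻¹ ≠ 1 := fun hw e => hw (by rwa [mul_inv_eq_one, mul_eq_left] at e)
    intro v hv hv1
    by_contra hcon
    push Not at hcon
    have e0 : v ≠ t := fun e => hcon 0 (by rw [e]; simp)
    have e1 : v ≠ o1 := fun e => hcon 1 (by rw [e, ho1, pow_one])
    have e2 : v ≠ o2 := fun e => hcon 2 (by rw [e, ho2, ho1, pow_two]; group)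
    haveI := Fintype.ofFinite (vfix z t r)
    have hV1 : o1 ∈ vfix z t r := haV t g.t_mem_V
    have hV2 : o2 ∈ vfix z t r := haV o1 hV1
    have h5 : ({1, ⟨t, g.t_mem_V⟩, ⟨o1, hV1⟩, ⟨o2, hV2⟩, ⟨v, hv⟩} : Finset (vfix z t r)).card ≤ 4 :=
      (Finset.card_le_univ _).trans (by rw [← Nat.card_eq_fintype_card, g.card_V h])
    rw [Finset.card_insert_of_notMem (by simp [Subtype.ext_iff, Ne.symm ht1, Ne.symm (hone ht1), Ne.symm (hone (hone ht1)), ho1, ho2, Ne.symm hv1]),
      Finset.card_insert_of_notMem (by simp [Subtype.ext_iff, Ne.symm h01, Ne.symm h02, Ne.symm e0]),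
      Finset.card_insert_of_notMem (by simp [Subtype.ext_iff, Ne.symm h12, Ne.symm e1]),
      Finset.card_pair (by simp [Subtype.ext_iff, Ne.symm e2])] at h5
    omega
  have hNdec : ∀ n ∈ N, ∃ i : ℕ, (a ^ i)⁻¹ * n ∈ M := by
    intro n hn
    obtain ⟨i, hi⟩ := horb _ ((hNmem.mp hn t).mp g.t_mem_V) fun e => g.tQ (by
      rw [mul_inv_eq_one, mul_eq_left] at e; rw [e]; exact Q.one_mem)
    refine ⟨i, Subgroup.mem_centralizer_singleton_iff.mpr (mul_inv_eq_iff_eq_mul.mp ?_)⟩
    calc (a ^ i)⁻¹ * n * t * ((a ^ i)⁻¹ * n)⁻¹ = (a ^ i)⁻¹ * (n * t * n⁻¹) * a ^ i := by group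
      _ = t := by rw [← hi]; group
  have hWK : ∀ n ∈ N, ∃ w ∈ W, ∃ k ∈ K, n = w * k := by
    intro n hn
    obtain ⟨i, hi⟩ := hNdec n hn
    obtain ⟨v, hv, hk⟩ := c.prod _ hi
    exact ⟨a ^ i * v⁻¹, mul_mem (pow_mem haW i) (inv_mem (hVW hv)), v * ((a ^ i)⁻¹ * n), hk, by group⟩
  have hWKd : ∀ w ∈ W, w ∈ K → w = 1 := fun w hw hwK => g.K_center h c hwK fun b hb => ((hWmem.mp hw).2 b hb).symm
  let f : W × K →* N := MonoidHom.mk' (fun p => ⟨p.1.1 * p.2.1, mul_mem (hWmem.mp p.1.2).1 (hMN (c.le p.2.2))⟩)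
    fun p q => Subtype.ext (by
      show (p.1 * q.1 : G) * (p.2 * q.2) = p.1 * p.2 * (q.1 * q.2)
      exact (show Commute (q.1 : G) (p.2 : G) from ((hWmem.mp q.1.2).2 _ p.2.2).symm).mul_mul_mul_comm (p.1 : G) (q.2 : G))
  have hf : Function.Bijective f := by
    refine ⟨(injective_iff_map_eq_one f).mpr fun p hp => ?_, fun n => ?_⟩
    · have e : (p.1 : G) * p.2 = 1 := congrArg Subtype.val hp
      have e1 : (p.1 : G) = 1 := hWKd _ p.1.2 (by rw [eq_inv_of_mul_eq_one_left e]; exact K.inv_mem p.2.2)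
      rw [e1, one_mul] at e
      exact Prod.ext (Subtype.ext e1) (Subtype.ext e)
    · obtain ⟨w, hw, k, hk, e⟩ := hWK n n.2
      exact ⟨(⟨w, hw⟩, ⟨k, hk⟩), Subtype.ext e.symm⟩
  -- the order of `W`
  have hN720 : Nat.card N = 3 * Nat.card M := by
    have hb : Function.Bijective (fun p : Fin 3 × M => (⟨a ^ (p.1 : ℕ) * p.2.1, mul_mem (pow_mem haN _) (hMN p.2.2)⟩ : N)) := by
      constructor
      · rintro ⟨i, m⟩ ⟨j, m'⟩ e
        have e' : a ^ (i : ℕ) * (m : G) = a ^ (j : ℕ) * m' := congrArg Subtype.val e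
        have hij : i = j := by
          have key : ∀ i : ℕ, i < 3 → a ^ i * t * (a ^ i)⁻¹ = t → i = 0 := by
            intro i hi e
            interval_cases i
            · rfl
            · exact absurd (mul_inv_eq_iff_eq_mul.mp (by rwa [pow_one] at e)) hat
            · exfalso
              refine hat ?_
              have hc : Commute (a ^ 2) t := mul_inv_eq_iff_eq_mul.mp e
              have := (hc.mul_left hc).eq
              rwa [pow_two, show a * a * (a * a) = a * (a * a * a) by simp only [mul_assoc], ha3, mul_one] at this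
          have hm : ∀ m : M, (m : G) * t * (m : G)⁻¹ = t := fun m => by
            rw [Subgroup.mem_centralizer_singleton_iff.mp m.2, mul_inv_cancel_right]
          have e2 : a ^ (i : ℕ) * t * (a ^ (i : ℕ))⁻¹ = a ^ (j : ℕ) * t * (a ^ (j : ℕ))⁻¹ := by
            conv_lhs => rw [← hm m]
            conv_rhs => rw [← hm m']
            rw [show a ^ (i : ℕ) * ((m : G) * t * (m : G)⁻¹) * (a ^ (i : ℕ))⁻¹ = (a ^ (i : ℕ) * m) * t * (a ^ (i : ℕ) * m)⁻¹ by group,
              e']
            group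
          rcases Nat.le_total (i : ℕ) j with hle | hle
          · obtain ⟨d, hd⟩ := Nat.exists_eq_add_of_le hle
            refine Fin.ext ?_
            have := key d (by omega) (by
              rw [hd, pow_add] at e2
              have := congrArg (fun u => (a ^ (i : ℕ))⁻¹ * u * a ^ (i : ℕ)) e2
              simpa [mul_assoc] using this.symm)
            omega
          · obtain ⟨d, hd⟩ := Nat.exists_eq_add_of_le hle
            refine Fin.ext ?_
            have := key d (by omega) (by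
              rw [hd, pow_add] at e2
              have := congrArg (fun u => (a ^ (j : ℕ))⁻¹ * u * a ^ (j : ℕ)) e2
              simpa [mul_assoc] using this)
            omega
        subst hij
        exact Prod.ext rfl (Subtype.ext (mul_left_cancel e'))
      · intro n
        obtain ⟨i, hi⟩ := hNdec n n.2
        refine ⟨(⟨i % 3, Nat.mod_lt _ (by norm_num)⟩, ⟨(a ^ i)⁻¹ * n, hi⟩), Subtype.ext ?_⟩
        show a ^ (i % 3) * ((a ^ i)⁻¹ * (n : G)) = n
        have : a ^ i = a ^ (i % 3) := pow_eq_pow_mod i (by rw [pow_three', ha3])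
        rw [this, mul_inv_cancel_left]
    rw [← Nat.card_congr (Equiv.ofBijective _ hb), Nat.card_prod, Nat.card_fin]
  have hW12 : Nat.card W = 12 := by
    have := Nat.card_congr (Equiv.ofBijective f hf)
    rw [Nat.card_prod, hN720, g.card_cent h c, g.card_K h c] at this
    omega
  haveI : ((vfix z t r).subgroupOf W).Normal := ⟨fun v hv w => ((hNmem.mp (hWmem.mp w.2).1) v).mp hv⟩
  have hV4 : Nat.card ((vfix z t r).subgroupOf W) = 4 := by
    rw [Nat.card_congr (Subgroup.subgroupOfEquivOfLe hVW).toEquiv, g.card_V h]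
  haveI : Fact (Nat.Prime 3) := ⟨Nat.prime_three⟩
  have hao : orderOf (⟨a, haW⟩ : W) = 3 := by
    rw [Subgroup.orderOf_mk]
    exact orderOf_eq_prime (by rw [pow_three', ha3]) fun e => hat (by rw [e, one_mul, mul_one])
  obtain ⟨eW⟩ := iso_alt_four hW12 ((vfix z t r).subgroupOf W) hV4 hao (v := ⟨t, hVW g.t_mem_V⟩) g.t_mem_V
    (fun e => hat (congrArg Subtype.val e))
  exact ⟨(MulEquiv.ofBijective f hf).symm.trans (MulEquiv.prodCongr eW eK)⟩

end Good

end Cfsg.Agent.Invol.HJ
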