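import Cfsg.Agent.Lib.Invol.HJ.Outside

/-!
# Hall-Janko type groups have two classes of involutions
-/

set_option autoImplicit false
set_option linter.unusedSectionVars false
set_option linter.style.haveILetI false

namespace Cfsg.Agent.Invol.HJ

open Cfsg

variable {G : Type*} [Group G] {z : G} {Q : Subgroup G}

/-- A group of Hall-Janko type. -/
structure Setting (z : G) (Q : Subgroup G) : Prop extends Core z Q where
  nwc : ∃ g : G, g * z * g⁻¹ ∈ Q ∧ g * z * g⁻¹ ≠ z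
  two : ∃ x y : G, orderOf x = 2 ∧ orderOf y = 2 ∧ ¬ IsConj x y

theorem setting_of [Finite G] (z : G) (hz : orderOf z = 2) (Q : Subgroup (Subgroup.centralizer ({z} : Set G))) [Q.Normal]
    (hF : generalizedFittingSubgroup (Subgroup.centralizer ({z} : Set G)) = Q) (hQ : IsExtraspecial 2 Q)
    (hcard : Nat.card Q = 2 ^ 5)
    (e : (Subgroup.centralizer ({z} : Set G)) ⧸ Q ≃* Omega (ZMod 2) (quadFormMinus 1 (ZMod 2) 1 1))
    (hnwc : ∃ g : G, (∃ hq : g * z * g⁻¹ ∈ Subgroup.centralizer ({z} : Set G),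
      (⟨g * z * g⁻¹, hq⟩ : Subgroup.centralizer ({z} : Set G)) ∈ Q) ∧ g * z * g⁻¹ ≠ z)
    (hcl : ∃ x y : G, orderOf x = 2 ∧ orderOf y = 2 ∧ ¬ IsConj x y) :
    Setting z (Q.map (Subgroup.centralizer ({z} : Set G)).subtype) := by
  refine ⟨core_of z hz Q hF hQ hcard e, ?_, hcl⟩
  obtain ⟨g, ⟨hq, hQ'⟩, hne⟩ := hnwc
  exact ⟨g, ⟨_, hQ', rfl⟩, hne⟩

theorem orderOf_two_iff' {x : G} : orderOf x = 2 ↔ x * x = 1 ∧ x ≠ 1 := by
  haveI : Fact (Nat.Prime 2) := ⟨Nat.prime_two⟩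
  rw [orderOf_eq_prime_iff, pow_two]

theorem sq_of_two {x : G} (hx : orderOf x = 2) : x * x = 1 ∧ x ≠ 1 := orderOf_two_iff'.mp hx

namespace Setting

theorem X_conj [Finite G] (h : Setting z Q) {x : G} (hx : x ∈ nonCentralInvol z Q) : IsConj x z := by
  obtain ⟨g, hg, hne⟩ := h.nwc
  obtain ⟨M⟩ := h.toCore.model
  have hx0 : g * z * g⁻¹ ∈ nonCentralInvol z Q :=
    ⟨hg, by rw [conj_mul, h.z_sq, mul_one, mul_inv_cancel],
      fun e => h.ne_one (by rwa [mul_inv_eq_one, mul_eq_left] at e), hne⟩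
  obtain ⟨c, -, hc⟩ := M.trans_X h.toCore hx hx0
  exact (isConj_iff.mpr ⟨c, hc⟩).trans (isConj_iff.mpr ⟨g, rfl⟩).symm

theorem conj_z_of_mem_Q [Finite G] (h : Setting z Q) {q : G} (hq : q ∈ Q) (ho : orderOf q = 2) : IsConj q z := by
  by_cases e : q = z
  · exact e ▸ IsConj.refl _
  exact h.X_conj ⟨hq, (sq_of_two ho).1, (sq_of_two ho).2, e⟩

/-- Every involution has a conjugate centralizing `z`. -/
theorem into_C [Finite G] (h : Setting z Q) {x : G} (hx : orderOf x = 2) :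
    ∃ g : G, g * x * g⁻¹ ∈ Subgroup.centralizer ({z} : Set G) := by
  haveI : Fact (Nat.Prime 2) := ⟨Nat.prime_two⟩
  have hQ' : IsPGroup 2 (Q.subgroupOf (Subgroup.centralizer ({z} : Set G))) :=
    h.card_two_pow.comap_of_injective _ Subtype.coe_injective
  obtain ⟨T, hT⟩ := hQ'.exists_le_sylow
  set S := (T : Subgroup _).map (Subgroup.centralizer ({z} : Set G)).subtype with hS
  have hSC : S ≤ Subgroup.centralizer ({z} : Set G) := Subgroup.map_subtype_le _
  have hQS : Q ≤ S := fun q hq => ⟨⟨q, h.le_C hq⟩, hT hq, rfl⟩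
  have hS2 : IsPGroup 2 S := T.2.map _
  have hnorm : Subgroup.normalizer (S : Set G) ≤ Subgroup.centralizer ({z} : Set G) := by
    intro n hn
    have hw : n * z * n⁻¹ ∈ S := (Subgroup.mem_normalizer_iff.mp hn z).mp (hQS h.mem_z)
    have hc : ∀ s ∈ S, n * z * n⁻¹ * s = s * (n * z * n⁻¹) := by
      intro s hs
      have hs' : n⁻¹ * s * n ∈ S := by
        have := (Subgroup.mem_normalizer_iff.mp (Subgroup.inv_mem _ hn) s).mp hs
        rwa [inv_inv] at this
      have := h.cz (hSC hs')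
      have := congrArg (fun u => n * u * n⁻¹) this
      simpa [mul_assoc] using this.symm
    have hwQ : n * z * n⁻¹ ∈ Q := h.cent _ (hSC hw) fun q hq => hc q (hQS hq)
    rcases h.cen _ hwQ fun q hq => hc q (hQS hq) with e | e
    · exact absurd (by rwa [mul_inv_eq_one, mul_eq_left] at e) h.ne_one
    · exact Subgroup.mem_centralizer_singleton_iff.mpr (mul_inv_eq_iff_eq_mul.mp e)
  obtain ⟨P, hP⟩ := hS2.exists_le_sylow
  have hPS : (P : Subgroup G) = S := by
    by_contra hne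
    have hlt : S.subgroupOf P < ⊤ := lt_top_iff_ne_top.mpr fun e => hne (le_antisymm (Subgroup.subgroupOf_eq_top.mp e) hP)
    obtain ⟨n, hnN, hnS⟩ := SetLike.exists_of_lt (Group.normalizerCondition_of_isNilpotent (h := P.2.isNilpotent) _ hlt)
    have hn' : (n : G) ∈ Subgroup.normalizer (S : Set G) := by
      refine Subgroup.mem_normalizer_iff.mpr fun s => ⟨fun hs => ?_, fun hs => ?_⟩
      · exact (Subgroup.mem_normalizer_iff.mp hnN ⟨s, hP hs⟩).mp hs
      · have hsP : s ∈ (P : Subgroup G) := by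
          have := (P : Subgroup G).mul_mem ((P : Subgroup G).mul_mem ((P : Subgroup G).inv_mem n.2) (hP hs)) n.2
          simpa [mul_assoc] using this
        exact (Subgroup.mem_normalizer_iff.mp hnN ⟨s, hsP⟩).mpr hs
    -- the Sylow subgroup of the centralizer would grow
    have hle : (T : Subgroup _) ≤ ((P : Subgroup G) ⊓ Subgroup.centralizer ({z} : Set G)).subgroupOf (Subgroup.centralizer ({z} : Set G)) :=
      fun t ht => ⟨hP ⟨t, ht, rfl⟩, t.2⟩
    have heq := T.3 ((P.2.to_le inf_le_left).comap_of_injective _ Subtype.coe_injective) hle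
    have hmem : (⟨n, hnorm hn'⟩ : Subgroup.centralizer ({z} : Set G)) ∈ (T : Subgroup _) := heq ▸ ⟨n.2, hnorm hn'⟩
    exact hnS ⟨_, hmem, rfl⟩
  have hxp : IsPGroup 2 (Subgroup.zpowers x) := IsPGroup.of_card (n := 1) (by rw [Nat.card_zpowers, hx, pow_one])
  obtain ⟨R, hR⟩ := hxp.exists_le_sylow
  obtain ⟨g, hg⟩ := MulAction.exists_smul_eq G R P
  refine ⟨g, hSC (hPS ▸ hg ▸ ?_)⟩
  rw [Sylow.coe_subgroup_smul]
  exact ⟨x, hR (Subgroup.mem_zpowers x), rfl⟩

theorem exists_outside [Finite G] (h : Setting z Q) :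
    ∃ y ∈ Subgroup.centralizer ({z} : Set G), y * y = 1 ∧ y ∉ Q ∧ ¬ IsConj y z := by
  obtain ⟨a, b, ha, hb, hab⟩ := h.two
  have key : ∀ x : G, orderOf x = 2 → ¬ IsConj x z →
      ∃ y ∈ Subgroup.centralizer ({z} : Set G), y * y = 1 ∧ y ∉ Q ∧ ¬ IsConj y z := by
    intro x hx hn
    obtain ⟨g, hg⟩ := h.into_C hx
    have hc : IsConj x (g * x * g⁻¹) := isConj_iff.mpr ⟨g, rfl⟩
    have ho : orderOf (g * x * g⁻¹) = 2 := by rw [← hx]; exact orderOf_injective (MulAut.conj g).toMonoidHom (MulAut.conj g).injective x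
    exact ⟨_, hg, (sq_of_two ho).1, fun hq => hn (hc.trans (h.conj_z_of_mem_Q hq ho)), fun e => hn (hc.trans e)⟩
  by_cases h1 : IsConj a z
  · exact key b hb fun h2 => hab (h1.trans h2.symm)
  · exact key a ha h1

theorem outside_not_conj [Finite G] (h : Setting z Q) {y : G} (hy : y ∈ Subgroup.centralizer ({z} : Set G))
    (hy2 : y * y = 1) (hyQ : y ∉ Q) : ¬ IsConj y z := by
  obtain ⟨y0, h0, h02, h0Q, hn⟩ := h.exists_outside
  obtain ⟨M⟩ := h.toCore.model
  obtain ⟨c, -, hc⟩ := M.outside_conj h.toCore h0 h02 h0Q hy hy2 hyQ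
  exact fun e => hn ((isConj_iff.mpr ⟨c, hc⟩).trans e)

theorem mem_Q_of_conj [Finite G] (h : Setting z Q) {x : G} (hx : x ∈ Subgroup.centralizer ({z} : Set G))
    (hc : IsConj x z) : x ∈ Q := by
  obtain ⟨g, hg⟩ := isConj_iff.mp hc.symm
  by_contra hxQ
  exact h.outside_not_conj hx (by rw [← hg, conj_mul, h.z_sq, mul_one, mul_inv_cancel]) hxQ hc

theorem not_mem_Q_of_not_conj [Finite G] (h : Setting z Q) {x : G} (hx : orderOf x = 2) (hc : ¬ IsConj x z) : x ∉ Q :=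
  fun e => hc (h.conj_z_of_mem_Q e hx)

/-- The involutions that are not conjugate to `z` form one class. -/
theorem conj_of_not [Finite G] (h : Setting z Q) {x y : G} (hx : orderOf x = 2) (hy : orderOf y = 2)
    (hxz : ¬ IsConj x z) (hyz : ¬ IsConj y z) : IsConj x y := by
  have key : ∀ u : G, orderOf u = 2 → ¬ IsConj u z →
      ∃ v ∈ Subgroup.centralizer ({z} : Set G), v * v = 1 ∧ v ∉ Q ∧ IsConj u v := by
    intro u hu hn
    obtain ⟨g, hg⟩ := h.into_C hu
    have hc : IsConj u (g * u * g⁻¹) := isConj_iff.mpr ⟨g, rfl⟩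
    have ho : orderOf (g * u * g⁻¹) = 2 := by rw [← hu]; exact orderOf_injective (MulAut.conj g).toMonoidHom (MulAut.conj g).injective u
    exact ⟨_, hg, (sq_of_two ho).1, fun hq => hn (hc.trans (h.conj_z_of_mem_Q hq ho)), hc⟩
  obtain ⟨u, hu, hu2, huQ, hxu⟩ := key x hx hxz
  obtain ⟨v, hv, hv2, hvQ, hyv⟩ := key y hy hyz
  obtain ⟨M⟩ := h.toCore.model
  obtain ⟨c, -, hc⟩ := M.outside_conj h.toCore hu hu2 huQ hv hv2 hvQ
  exact (hxu.trans (isConj_iff.mpr ⟨c, hc⟩)).trans hyv.symm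

end Setting

end Cfsg.Agent.Invol.HJ
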