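import Cfsg.Prelude
import Mathlib
import Cfsg.Agent.Lib.Grp.Frattini
import Cfsg.Agent.Lib.Grp.Cores
import Cfsg.Agent.Lib.Grp.Components
import Cfsg.Agent.S0824

/-!
# Groups of Hall-Janko type: the setting
-/

set_option autoImplicit false
set_option linter.unusedSectionVars false
set_option linter.style.haveILetI false

namespace Cfsg.Agent.Invol.HJ

open Cfsg
open scoped commutatorElement

variable {G : Type*} [Group G]

/-- The data carried by an involution centralizer `2^{1+4}.A₅` in the minus type case. -/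
structure Core (z : G) (Q : Subgroup G) : Prop where
  hz : orderOf z = 2
  mem_z : z ∈ Q
  le_C : Q ≤ Subgroup.centralizer ({z} : Set G)
  norm : ∀ c ∈ Subgroup.centralizer ({z} : Set G), ∀ q ∈ Q, c * q * c⁻¹ ∈ Q
  card_Q : Nat.card Q = 32
  sq : ∀ q ∈ Q, q * q = 1 ∨ q * q = z
  comm : ∀ a ∈ Q, ∀ b ∈ Q, a * b = b * a ∨ a * b = z * (b * a)
  cen : ∀ a ∈ Q, (∀ b ∈ Q, a * b = b * a) → a = 1 ∨ a = z
  cent : ∀ c ∈ Subgroup.centralizer ({z} : Set G), (∀ q ∈ Q, c * q = q * c) → c ∈ Q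
  quot : ∃ π : Subgroup.centralizer ({z} : Set G) →* alternatingGroup (Fin 5),
    Function.Surjective π ∧ ∀ c, π c = 1 ↔ (c : G) ∈ Q

theorem Core.ne_one {z : G} {Q : Subgroup G} (h : Core z Q) : z ≠ 1 := fun e => by
  have := h.hz
  rw [e, orderOf_one] at this
  omega

theorem Core.z_sq {z : G} {Q : Subgroup G} (h : Core z Q) : z * z = 1 := by
  rw [← pow_two, ← h.hz, pow_orderOf_eq_one]

/-- Restricting an isomorphism to the derived subgroups. -/
noncomputable def derivedEquiv {A B : Type*} [Group A] [Group B] (e : A ≃* B) :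
    commutator A ≃* commutator B :=
  (e.subgroupMap (commutator A)).trans (MulEquiv.subgroupCongr (map_derivedSeries_eq e.surjective 1))

/-- `Ω⁻(4,2)` is the alternating group of degree five. -/
theorem omega_minus_four : Nonempty (Omega (ZMod 2) (quadFormMinus 1 (ZMod 2) 1 1) ≃* alternatingGroup (Fin 5)) := by
  obtain ⟨e⟩ := Cfsg.Agent.S0824.result (F := ZMod 2) (ZMod.card 2)
  exact ⟨(derivedEquiv e).trans (MulEquiv.subgroupCongr (alternatingGroup.commutator_perm_eq (by simp)))⟩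

theorem core_of [Finite G] (z : G) (hz : orderOf z = 2) (Q : Subgroup (Subgroup.centralizer ({z} : Set G))) [Q.Normal]
    (hF : generalizedFittingSubgroup (Subgroup.centralizer ({z} : Set G)) = Q) (hQ : IsExtraspecial 2 Q)
    (hcard : Nat.card Q = 2 ^ 5)
    (e : (Subgroup.centralizer ({z} : Set G)) ⧸ Q ≃* Omega (ZMod 2) (quadFormMinus 1 (ZMod 2) 1 1)) :
    Core z (Q.map (Subgroup.centralizer ({z} : Set G)).subtype) := by
  classical
  haveI : Fact (Nat.Prime 2) := ⟨Nat.prime_two⟩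
  obtain ⟨e5⟩ := omega_minus_four
  obtain ⟨⟨hQp, hfr, hder⟩, hc2⟩ := hQ
  have hCQ : Subgroup.centralizer (Q : Set (Subgroup.centralizer ({z} : Set G))) ≤ Q := by
    have := Cfsg.Agent.Grp.centralizer_gfitting_le (G := (Subgroup.centralizer ({z} : Set G)))
    rwa [hF] at this
  have hmem : ∀ {x : G} (hx : x ∈ (Subgroup.centralizer ({z} : Set G))), x ∈ Q.map (Subgroup.centralizer ({z} : Set G)).subtype ↔ (⟨x, hx⟩ : (Subgroup.centralizer ({z} : Set G))) ∈ Q := fun {x} hx =>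
    ⟨fun ⟨y, hy, he⟩ => (show y = ⟨x, hx⟩ from Subtype.ext he) ▸ hy, fun h => ⟨_, h, rfl⟩⟩
  have hzC : z ∈ (Subgroup.centralizer ({z} : Set G)) := Subgroup.mem_centralizer_singleton_iff.mpr rfl
  have hCz : ∀ c ∈ (Subgroup.centralizer ({z} : Set G)), c * z = z * c := fun c hc => Subgroup.mem_centralizer_singleton_iff.mp hc
  have hzQ' : (⟨z, hzC⟩ : (Subgroup.centralizer ({z} : Set G))) ∈ Q := hCQ (Subgroup.mem_centralizer_iff.mpr fun y _ => Subtype.ext (hCz _ y.2))
  let zq : Q := ⟨⟨z, hzC⟩, hzQ'⟩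
  have hzq : zq ∈ Subgroup.center Q := Subgroup.mem_center_iff.mpr fun b => Subtype.ext (Subtype.ext (hCz _ (b : (Subgroup.centralizer ({z} : Set G))).2))
  have hzq1 : zq ≠ 1 := fun h => by
    have h' : z = 1 := congrArg (fun u : Q => ((u : (Subgroup.centralizer ({z} : Set G))) : G)) h
    rw [h', orderOf_one] at hz
    omega
  have hcv : ∀ a : Q, a ∈ Subgroup.center Q → a = 1 ∨ a = zq := by
    intro a ha
    by_contra hcon
    push Not at hcon
    haveI := Fintype.ofFinite (Subgroup.center Q)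
    have h3 : ({1, ⟨_, hzq⟩, ⟨_, ha⟩} : Finset (Subgroup.center Q)).card ≤ 2 :=
      (Finset.card_le_univ _).trans (by rw [← Nat.card_eq_fintype_card, hc2])
    rw [Finset.card_insert_of_notMem (by simp only [Finset.mem_insert, Finset.mem_singleton, not_or]; exact ⟨fun e => hzq1 (congrArg Subtype.val e).symm, fun e => hcon.1 (congrArg Subtype.val e).symm⟩),
      Finset.card_pair (fun e => hcon.2 (congrArg Subtype.val e).symm)] at h3
    omega
  have hcv' : ∀ a : Q, a ∈ Subgroup.center Q → ((a : (Subgroup.centralizer ({z} : Set G))) : G) = 1 ∨ ((a : (Subgroup.centralizer ({z} : Set G))) : G) = z := fun a ha =>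
    by
    rcases hcv a ha with rfl | rfl
    · exact Or.inl rfl
    · exact Or.inr rfl
  refine ⟨hz, ⟨_, hzQ', rfl⟩, Subgroup.map_subtype_le _, ?_, ?_, ?_, ?_, ?_, ?_, ?_⟩
  · rintro c hc _ ⟨q, hq, rfl⟩
    exact ⟨⟨c, hc⟩ * q * ⟨c, hc⟩⁻¹, ‹Q.Normal›.conj_mem q hq _, rfl⟩
  · rw [← Nat.card_congr (Q.equivMapOfInjective _ Subtype.coe_injective).toEquiv, hcard]; norm_num
  · rintro _ ⟨q, hq, rfl⟩
    have h : (⟨q, hq⟩ : Q) * ⟨q, hq⟩ ∈ frattini Q := by
      rw [← pow_two]; exact Cfsg.Agent.Grp.pGroup_pow_mem_frattini hQp _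
    rw [hfr] at h
    exact hcv' _ h
  · rintro _ ⟨a, ha, rfl⟩ _ ⟨b, hb, rfl⟩
    have h : ⁅(⟨a, ha⟩ : Q), (⟨b, hb⟩ : Q)⁆ ∈ Subgroup.center Q := by
      rw [← hder, commutator_def]; exact Subgroup.commutator_mem_commutator (Subgroup.mem_top _) (Subgroup.mem_top _)
    rcases hcv' _ h with h' | h'
    · left
      simp only [commutatorElement_def, Subgroup.coe_mul, Subgroup.coe_inv, Subgroup.coe_subtype] at h' ⊢
      rwa [mul_inv_eq_one, mul_inv_eq_iff_eq_mul] at h'
    · right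
      simp only [commutatorElement_def, Subgroup.coe_mul, Subgroup.coe_inv, Subgroup.coe_subtype] at h' ⊢
      rw [mul_inv_eq_iff_eq_mul, mul_inv_eq_iff_eq_mul, mul_assoc] at h'
      exact h'
  · rintro _ ⟨a, ha, rfl⟩ h
    refine hcv' (⟨a, ha⟩ : Q) (Subgroup.mem_center_iff.mpr fun b => ?_)
    exact Subtype.ext (Subtype.ext (h _ ⟨_, b.2, rfl⟩).symm)
  · intro c hc h
    exact (hmem hc).mpr (hCQ (Subgroup.mem_centralizer_iff.mpr fun y hy => Subtype.ext (h _ ⟨y, hy, rfl⟩).symm))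
  · let f := (e.trans e5).toMonoidHom.comp (QuotientGroup.mk' Q)
    refine ⟨f, (e.trans e5).surjective.comp (QuotientGroup.mk'_surjective Q), fun c => ?_⟩
    show (e.trans e5) (QuotientGroup.mk c) = 1 ↔ _
    rw [MulEquiv.map_eq_one_iff, QuotientGroup.eq_one_iff]
    exact (hmem c.2).symm

end Cfsg.Agent.Invol.HJ
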