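import Cfsg.Agent.Lib.Invol.HJ.Classes

/-!
# The centralizer in `C(z)` of an involution outside `Q`
-/

set_option autoImplicit false
set_option linter.unusedSectionVars false
set_option linter.style.haveILetI false

namespace Cfsg.Agent.Invol.HJ

open Cfsg

set_option synthInstance.maxSize 1024 in
theorem a5_turn : ∀ s : alternatingGroup (Fin 5), s ≠ 1 → s * s = 1 → ∀ i : Fin 5, (s : Equiv.Perm (Fin 5)) i = i →
    ∃ τ : alternatingGroup (Fin 5), τ * τ * τ = 1 ∧ (τ : Equiv.Perm (Fin 5)) i = i ∧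
      s * (τ * s * τ⁻¹) * (τ * (τ * s * τ⁻¹) * τ⁻¹) = 1 ∧ τ * s * τ⁻¹ ≠ s ∧ τ * s * τ⁻¹ ≠ 1 ∧
      (∀ g : alternatingGroup (Fin 5), g * s = s * g → g = 1 ∨ g = s ∨ g = τ * s * τ⁻¹ ∨ g = s * (τ * s * τ⁻¹)) ∧
      (∀ v : Fin 5 → ZMod 2, ∑ k, v k = 0 → v i = 0 →
        (∀ k, v ((s : Equiv.Perm (Fin 5)) ((τ : Equiv.Perm (Fin 5)) k)) = v k) → v = 0 ∨ v = ev i) := by
  decide +kernel

theorem a5_fix_three : ∀ i : Fin 5,
    (Finset.univ.filter fun s : alternatingGroup (Fin 5) => s ≠ 1 ∧ s * s = 1 ∧ (s : Equiv.Perm (Fin 5)) i = i).card = 3 := by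
  decide +kernel

variable {G : Type*} [Group G] {z : G} {Q : Subgroup G}

/-- The elements of the four group attached to a point. -/
def InD (z x w : G) : Prop := w = 1 ∨ w = z ∨ w = x ∨ w = z * x

/-- What we need to know about an involution outside `Q`. -/
structure LocalData (z : G) (Q : Subgroup G) (t x σ : G) : Prop where
  xX : x ∈ nonCentralInvol z Q
  tx : t * x = x * t
  σC : σ ∈ Subgroup.centralizer ({z} : Set G)
  σ3 : σ * σ * σ = 1
  σx : σ * x = x * σ
  σt : σ * t * σ⁻¹ ∈ Subgroup.centralizer ({t} : Set G)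
  σne : t * (σ * t * σ⁻¹) ∉ Q
  memQ : ∀ w ∈ Q, (w * t = t * w ↔ InD z x w)
  span : ∀ c ∈ Subgroup.centralizer ({z} : Set G), c * t = t * c →
    ∃ d, InD z x d ∧ (c = d ∨ c = d * t ∨ c = d * (σ * t * σ⁻¹) ∨ c = d * (t * (σ * t * σ⁻¹)))

theorem Core.pow_twelve [Finite G] (h : Core z Q) {c : G} (hc : c * c * c ∈ Q) : c ^ 12 = 1 := by
  have h4 : (c * c * c) ^ 4 = 1 := by
    rw [show 4 = 2 * 2 from rfl, pow_mul, pow_two (c * c * c)]
    rcases h.sq _ hc with e | e <;> rw [e, pow_two]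
    · exact mul_one _
    · exact h.z_sq
  rw [← h4, ← pow_three' c, ← pow_mul]

theorem inD_Q {x : G} (hx : x ∈ nonCentralInvol z Q) (h : Core z Q) {w : G} (hw : InD z x w) : w ∈ Q := by
  rcases hw with rfl | rfl | rfl | rfl
  · exact one_mem _
  · exact h.mem_z
  · exact hx.1
  · exact mul_mem h.mem_z hx.1

theorem inD_sq {x : G} (hx : x ∈ nonCentralInvol z Q) (h : Core z Q) {w : G} (hw : InD z x w) : w * w = 1 := by
  rcases hw with rfl | rfl | rfl | rfl
  · exact mul_one 1
  · exact h.z_sq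
  · exact hx.2.1
  · exact (h.zmul_mem hx).2.1

theorem inD_comm {x g : G} (hgz : g * z = z * g) (hgx : g * x = x * g) {w : G} (hw : InD z x w) : g * w = w * g := by
  rcases hw with rfl | rfl | rfl | rfl
  · simp
  · exact hgz
  · exact hgx
  · rw [← mul_assoc, hgz, mul_assoc, hgx, mul_assoc]

set_option maxHeartbeats 1000000 in
theorem local_data [Finite G] (h : Core z Q) {t : G} (htC : t ∈ Subgroup.centralizer ({z} : Set G)) (ht2 : t * t = 1)
    (htQ : t ∉ Q) : ∃ x σ, LocalData z Q t x σ := by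
  obtain ⟨M⟩ := h.model
  set y : Subgroup.centralizer ({z} : Set G) := ⟨t, htC⟩ with hy
  obtain ⟨h1, h2⟩ := M.ptA_invol (y := y) ht2 htQ
  obtain ⟨i, -, -, hi, -⟩ := a5_invol_shape _ h1 h2
  obtain ⟨τ, hτ3, hτi, hprod, hτne, hτne1, hcent, hvec⟩ := a5_turn _ h1 h2 i hi
  obtain ⟨c, hc⟩ := M.ptA_surjective τ
  have hc12 : c ^ 12 = 1 := by
    have hq : ((c * c * c : Subgroup.centralizer ({z} : Set G)) : G) ∈ Q := (M.ptA_ker _).mp (by rw [map_mul, map_mul, hc, hτ3])
    exact Subtype.ext (by push_cast; exact h.pow_twelve hq)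
  set σ := c ^ 4 with hσdef
  have hσ3 : σ * σ * σ = 1 := by rw [← pow_three', hσdef, ← pow_mul, hc12]
  have hσA : M.ptA σ = τ := by
    rw [hσdef, map_pow, hc, pow_succ, pow_three', hτ3, one_mul]
  have hσi : M.pt σ i = i := by rw [← M.ptA_coe, hσA, hτi]
  have hti : M.pt y i = i := by rw [← M.ptA_coe, hi]
  have htx : t * M.a i = M.a i * t := M.fix_comm h (y := y) ht2 htQ hti
  have hxQ := (M.mem i).1
  have hσx : (σ : G) * M.a i = M.a i * σ := by
    have h3 : ((σ : G) * σ * σ) * M.a i * ((σ : G) * σ * σ)⁻¹ = M.a i := by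
      have : (σ : G) * σ * σ = 1 := congrArg Subtype.val hσ3
      rw [this]; group
    rcases M.pt_spec σ i with e | e <;> rw [hσi] at e
    · exact mul_inv_eq_iff_eq_mul.mp e
    · exfalso
      have hz' : (σ : G) * z * (σ : G)⁻¹ = z := by rw [h.cz σ.2, mul_inv_cancel_right]
      have e2 : (σ : G) * ((σ : G) * M.a i * (σ : G)⁻¹) * (σ : G)⁻¹ = M.a i := by
        rw [e, ← conj_mul, hz', e, ← mul_assoc, h.z_sq, one_mul]
      have e3 : ((σ : G) * σ * σ) * M.a i * ((σ : G) * σ * σ)⁻¹ =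
          (σ : G) * ((σ : G) * ((σ : G) * M.a i * (σ : G)⁻¹) * (σ : G)⁻¹) * (σ : G)⁻¹ := by group
      rw [h3, e2, e] at e3
      exact h.ne_one (mul_eq_right.mp e3.symm)
  set u := σ * y * σ⁻¹ with hu
  set v := σ * u * σ⁻¹ with hv
  have hσv : σ * v * σ⁻¹ = y := by
    rw [hv, hu, show σ * (σ * (σ * y * σ⁻¹) * σ⁻¹) * σ⁻¹ = (σ * σ * σ) * y * (σ * σ * σ)⁻¹ by group, hσ3]
    group
  have hyy : y * y = 1 := Subtype.ext ht2
  have hsqc : ∀ w : Subgroup.centralizer ({z} : Set G), w * w = 1 → σ * w * σ⁻¹ * (σ * w * σ⁻¹) = 1 := fun w hw => by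
    rw [conj_mul, hw, mul_one, mul_inv_cancel]
  have huu : u * u = 1 := hsqc y hyy
  have hvv : v * v = 1 := hsqc u huu
  have hcomx : ∀ w : Subgroup.centralizer ({z} : Set G), (w : G) * M.a i = M.a i * w →
      ((σ * w * σ⁻¹ : Subgroup.centralizer ({z} : Set G)) : G) * M.a i = M.a i * ((σ * w * σ⁻¹ : Subgroup.centralizer ({z} : Set G)) : G) := by
    intro w hw
    push_cast
    exact ((Commute.mul_left (Commute.mul_left hσx hw) (Commute.inv_left hσx))).eq
  have hux : (u : G) * M.a i = M.a i * u := hcomx y htx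
  have hvx : (v : G) * M.a i = M.a i * v := hcomx u hux
  set q := y * u * v with hqdef
  have hqQ : (q : G) ∈ Q := (M.ptA_ker q).mp (by
    rw [hqdef, hv, hu]
    simp only [map_mul, map_inv, hσA]
    exact hprod)
  have hqx : (q : G) * M.a i = M.a i * q := by
    rw [hqdef]; push_cast
    exact (Commute.mul_left (Commute.mul_left htx hux) hvx).eq
  have hσq : σ * q * σ⁻¹ = y * q * y⁻¹ := by
    have hyinv : y⁻¹ = y := inv_eq_of_mul_eq_one_right hyy
    calc σ * q * σ⁻¹ = (σ * y * σ⁻¹) * (σ * u * σ⁻¹) * (σ * v * σ⁻¹) := by rw [hqdef]; group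
      _ = u * v * y := by rw [← hu, ← hv, hσv]
      _ = y * q * y⁻¹ := by
        show u * v * y = y * (y * u * v) * y⁻¹
        generalize v = v'
        generalize u = u'
        rw [hyinv, ← mul_assoc y (y * u'), ← mul_assoc y y, hyy, one_mul]
  have hqv : M.vec (q : G) = 0 ∨ M.vec (q : G) = ev i := by
    refine hvec _ (M.vec_even h hqQ) (M.vec_eq_zero.mpr hqx) fun k => ?_
    have e1 := M.vec_conj h σ hqQ k
    have e2 := M.vec_conj h y hqQ ((M.ptA y : Equiv.Perm (Fin 5)) ((τ : Equiv.Perm (Fin 5)) k))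
    have hyk : M.pt y ((M.ptA y : Equiv.Perm (Fin 5)) ((τ : Equiv.Perm (Fin 5)) k)) = (τ : Equiv.Perm (Fin 5)) k := by
      rw [M.ptA_coe, ← Equiv.Perm.mul_apply, ← map_mul, hyy, map_one, Equiv.Perm.one_apply]
    rw [hyk] at e2
    have hσk : M.pt σ k = (τ : Equiv.Perm (Fin 5)) k := by rw [← M.ptA_coe, hσA]
    rw [hσk] at e1
    have he : (σ : G) * q * (σ : G)⁻¹ = (y : G) * q * (y : G)⁻¹ := congrArg Subtype.val hσq
    rw [he, e2] at e1
    exact e1
  have hqD : InD z (M.a i) (q : G) := by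
    rcases hqv with e | e
    · rcases (M.vec_basic h).2 _ hqQ e with e' | e'
      · exact Or.inl e'
      · exact Or.inr (Or.inl e')
    · rcases M.vec_inj h hxQ hqQ (by rw [M.vec_a, e]) with e' | e'
      · exact Or.inr (Or.inr (Or.inl e'))
      · exact Or.inr (Or.inr (Or.inr e'))
  have hzc : ∀ w : Subgroup.centralizer ({z} : Set G), (w : G) * z = z * w := fun w => h.cz w.2
  have hqq : q * q = 1 := Subtype.ext (inD_sq (M.mem i) h hqD)
  have hyu : y * u = u * y := by
    have hqvc : v * q = q * v := Subtype.ext (inD_comm (hzc v) hvx hqD)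
    have htu : y * u = q * v := by rw [hqdef, mul_assoc, hvv, mul_one]
    have h2 : y * u * (y * u) = 1 := by
      rw [htu]
      generalize q = q' at *
      generalize v = v' at *
      rw [mul_assoc, ← mul_assoc v' q' v', hqvc, mul_assoc, hvv, mul_one, hqq]
    have := inv_eq_of_mul_eq_one_right h2
    rw [mul_inv_rev, inv_eq_of_mul_eq_one_right huu, inv_eq_of_mul_eq_one_right hyy] at this
    exact this.symm
  have hσtσ : (σ : G) * t * (σ : G)⁻¹ = u := rfl
  have hmemQ : ∀ w ∈ Q, (w * t = t * w ↔ InD z (M.a i) w) := by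
    intro w hw
    refine ⟨fun hwt => ?_, fun hd => (inD_comm (hzc y) htx hd).symm⟩
    exact M.cent_Q h (y := y) ht2 htQ hti hw hwt.symm
  refine ⟨M.a i, σ, M.mem i, htx, σ.2, congrArg Subtype.val hσ3, hσx, ?_, ?_, hmemQ, ?_⟩
  · exact Subgroup.mem_centralizer_singleton_iff.mpr (congrArg Subtype.val hyu).symm
  · intro e
    have e' := (M.ptA_ker (y * u)).mpr e
    rw [map_mul, hu, map_mul, map_mul, map_inv, hσA] at e'
    refine hτne ((eq_inv_of_mul_eq_one_right e').trans ?_)
    exact inv_eq_of_mul_eq_one_right h2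
  · intro c hcC hct
    have hAu : M.ptA u = τ * M.ptA y * τ⁻¹ := by rw [hu, map_mul, map_mul, map_inv, hσA]
    have hcy : M.ptA ⟨c, hcC⟩ * M.ptA y = M.ptA y * M.ptA ⟨c, hcC⟩ := by
      rw [← map_mul, ← map_mul]; exact congrArg M.ptA (Subtype.ext hct)
    have key : ∀ g : Subgroup.centralizer ({z} : Set G), (g : G) * t = t * g → M.ptA ⟨c, hcC⟩ = M.ptA g →
        ∃ d, InD z (M.a i) d ∧ c = d * g := by
      intro g hg e
      refine ⟨c * (g : G)⁻¹, (hmemQ _ ?_).mp ?_, by rw [inv_mul_cancel_right]⟩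
      · exact (M.ptA_ker (⟨c, hcC⟩ * g⁻¹)).mp (by rw [map_mul, map_inv, e, mul_inv_cancel])
      · exact (Commute.mul_left (show Commute c t from hct) (Commute.inv_left (show Commute (g : G) t from hg))).eq
    have hut : (u : G) * t = t * u := (congrArg Subtype.val hyu).symm
    rcases hcent _ hcy with e | e | e | e
    · obtain ⟨d, hd, e'⟩ := key 1 (by simp) (by rw [e, map_one])
      exact ⟨d, hd, Or.inl (by rw [e']; simp)⟩
    · obtain ⟨d, hd, e'⟩ := key y rfl e
      exact ⟨d, hd, Or.inr (Or.inl e')⟩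
    · obtain ⟨d, hd, e'⟩ := key u hut (by rw [e, hAu])
      exact ⟨d, hd, Or.inr (Or.inr (Or.inl e'))⟩
    · obtain ⟨d, hd, e'⟩ := key (y * u) (by push_cast; exact (Commute.mul_left (Commute.refl t) hut).eq) (by rw [e, map_mul, hAu])
      exact ⟨d, hd, Or.inr (Or.inr (Or.inr e'))⟩

namespace LocalData

variable {t x σ : G}

theorem u_mem_C (L : LocalData z Q t x σ) (htC : t ∈ Subgroup.centralizer ({z} : Set G)) :
    σ * t * σ⁻¹ ∈ Subgroup.centralizer ({z} : Set G) := mul_mem (mul_mem L.σC htC) (inv_mem L.σC)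

theorem ut_comm (L : LocalData z Q t x σ) : Commute (σ * t * σ⁻¹) t := Subgroup.mem_centralizer_singleton_iff.mp L.σt

theorem ux_comm (L : LocalData z Q t x σ) : Commute (σ * t * σ⁻¹) x :=
  Commute.mul_left (Commute.mul_left L.σx L.tx) (Commute.inv_left L.σx)

theorem tz_comm (h : Core z Q) (htC : t ∈ Subgroup.centralizer ({z} : Set G)) : Commute t z := h.cz htC

/-- `C(z,t)` is elementary abelian. -/
theorem abelian (L : LocalData z Q t x σ) (h : Core z Q) (htC : t ∈ Subgroup.centralizer ({z} : Set G)) (ht2 : t * t = 1)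
    {a b : G} (ha : a ∈ Subgroup.centralizer ({z} : Set G) ⊓ Subgroup.centralizer ({t} : Set G))
    (hb : b ∈ Subgroup.centralizer ({z} : Set G) ⊓ Subgroup.centralizer ({t} : Set G)) : a * b = b * a ∧ a * a = 1 := by
  set u := σ * t * σ⁻¹ with hu
  have huz : Commute u z := h.cz (L.u_mem_C htC)
  have htz : Commute t z := h.cz htC
  have hxz : Commute x z := h.zq L.xX.1
  have hDD : ∀ {d e : G}, InD z x d → InD z x e → Commute d e := fun {d e} hd he =>
    inD_comm (inD_comm (Commute.refl z).eq hxz.symm.eq hd).symm (inD_comm hxz.eq (Commute.refl x).eq hd).symm he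
  have hDt : ∀ {d : G}, InD z x d → Commute t d := fun hd => inD_comm htz.eq L.tx hd
  have hDu : ∀ {d : G}, InD z x d → Commute u d := fun hd => inD_comm huz.eq L.ux_comm.eq hd
  have hut : Commute u t := L.ut_comm
  have hgen : ∀ {c : G}, c ∈ Subgroup.centralizer ({z} : Set G) ⊓ Subgroup.centralizer ({t} : Set G) →
      ∃ d g, InD z x d ∧ c = d * g ∧ (g = 1 ∨ g = t ∨ g = u ∨ g = t * u) := by
    intro c hc
    obtain ⟨d, hd, e⟩ := L.span c (Subgroup.mem_inf.mp hc).1 (Subgroup.mem_centralizer_singleton_iff.mp (Subgroup.mem_inf.mp hc).2)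
    rcases e with e | e | e | e
    · exact ⟨d, 1, hd, by rw [e, mul_one], Or.inl rfl⟩
    · exact ⟨d, t, hd, e, Or.inr (Or.inl rfl)⟩
    · exact ⟨d, u, hd, e, Or.inr (Or.inr (Or.inl rfl))⟩
    · exact ⟨d, t * u, hd, e, Or.inr (Or.inr (Or.inr rfl))⟩
  have hgD : ∀ {g d : G}, (g = 1 ∨ g = t ∨ g = u ∨ g = t * u) → InD z x d → Commute g d := by
    intro g d hg hd
    rcases hg with rfl | rfl | rfl | rfl
    · exact Commute.one_left d
    · exact hDt hd
    · exact hDu hd
    · exact (hDt hd).mul_left (hDu hd)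
  have hgg : ∀ {g g' : G}, (g = 1 ∨ g = t ∨ g = u ∨ g = t * u) → (g' = 1 ∨ g' = t ∨ g' = u ∨ g' = t * u) → Commute g g' := by
    intro g g' hg hg'
    have ht' : Commute t g' := by
      rcases hg' with rfl | rfl | rfl | rfl
      · exact Commute.one_right _
      · exact Commute.refl _
      · exact hut.symm
      · exact (Commute.refl t).mul_right hut.symm
    have hu' : Commute u g' := by
      rcases hg' with rfl | rfl | rfl | rfl
      · exact Commute.one_right _
      · exact hut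
      · exact Commute.refl _
      · exact hut.mul_right (Commute.refl u)
    rcases hg with rfl | rfl | rfl | rfl
    · exact Commute.one_left _
    · exact ht'
    · exact hu'
    · exact ht'.mul_left hu'
  have hu2 : u * u = 1 := by rw [hu, conj_mul, ht2, mul_one, mul_inv_cancel]
  obtain ⟨d, g, hd, rfl, hg⟩ := hgen ha
  obtain ⟨e, g', he, rfl, hg'⟩ := hgen hb
  refine ⟨(((hDD hd he).mul_left (hgD hg he)).mul_right (((hgD hg' hd).symm).mul_left (hgg hg hg'))).eq, ?_⟩
  have hg2 : g * g = 1 := by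
    rcases hg with rfl | rfl | rfl | rfl
    · exact mul_one 1
    · exact ht2
    · exact hu2
    · rw [← pow_two, hut.symm.mul_pow, pow_two, pow_two, ht2, hu2, mul_one]
  rw [← pow_two, (hgD hg hd).symm.mul_pow, pow_two, pow_two, inD_sq L.xX h hd, hg2, mul_one]

/-- The order of `C(z,t)`. -/
theorem card_sixteen [Finite G] (L : LocalData z Q t x σ) (h : Core z Q) (htC : t ∈ Subgroup.centralizer ({z} : Set G))
    (ht2 : t * t = 1) :
    Nat.card (Subgroup.centralizer ({z} : Set G) ⊓ Subgroup.centralizer ({t} : Set G) : Subgroup G) = 16 := by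
  classical
  set S := Subgroup.centralizer ({z} : Set G) ⊓ Subgroup.centralizer ({t} : Set G) with hS
  set u := σ * t * σ⁻¹ with hu
  let dd : Bool × Bool → G := fun b => (if b.1 then z else 1) * (if b.2 then x else 1)
  let gg : Bool × Bool → G := fun b => (if b.1 then t else 1) * (if b.2 then u else 1)
  have hddD : ∀ b, InD z x (dd b) := by
    intro b
    obtain ⟨b1, b2⟩ := b
    cases b1 <;> cases b2 <;> simp [dd, InD]
  have hddS : ∀ b, dd b ∈ S := fun b => Subgroup.mem_inf.2 ⟨h.le_C (inD_Q L.xX h (hddD b)),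
    Subgroup.mem_centralizer_singleton_iff.mpr (inD_comm (h.cz htC) L.tx (hddD b)).symm⟩
  have htS : t ∈ S := Subgroup.mem_inf.2 ⟨htC, Subgroup.mem_centralizer_singleton_iff.mpr rfl⟩
  have huS : u ∈ S := Subgroup.mem_inf.2 ⟨L.u_mem_C htC, L.σt⟩
  have hggS : ∀ b, gg b ∈ S := fun b => S.mul_mem (by split_ifs; exacts [htS, S.one_mem]) (by split_ifs; exacts [huS, S.one_mem])
  have htQ : t ∉ Q := fun e => by
    refine L.σne (Q.mul_mem e ?_)
    exact h.norm σ L.σC t e
  have huQ : u ∉ Q := fun e => by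
    have hσi : σ⁻¹ ∈ Subgroup.centralizer ({z} : Set G) := inv_mem L.σC
    have := h.norm _ hσi _ e
    exact htQ (by simpa [hu, mul_assoc] using this)
  have hggQ : ∀ b, gg b ∈ Q → b = (false, false) := by
    rintro ⟨b1, b2⟩ hb
    cases b1 <;> cases b2 <;> simp [gg] at hb ⊢
    · exact huQ hb
    · exact htQ hb
    · exact L.σne hb
  have hx1 : x ≠ 1 := L.xX.2.2.1
  have hddinj : Function.Injective dd := by
    rintro ⟨a1, a2⟩ ⟨b1, b2⟩ e
    have hzx1 : z * x ≠ 1 := (h.zmul_mem L.xX).2.2.1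
    cases a1 <;> cases a2 <;> cases b1 <;> cases b2 <;> simp [dd, h.ne_one, hx1, L.xX.2.2.2, Ne.symm h.ne_one,
      Ne.symm hx1, Ne.symm L.xX.2.2.2, hzx1, Ne.symm hzx1] at e ⊢
  let f : (Bool × Bool) × (Bool × Bool) → S := fun p => ⟨dd p.1 * gg p.2, S.mul_mem (hddS _) (hggS _)⟩
  have hf : Function.Bijective f := by
    constructor
    · rintro ⟨a, b⟩ ⟨a', b'⟩ e
      have e' : dd a * gg b = dd a' * gg b' := congrArg Subtype.val e
      have hq : gg b * (gg b')⁻¹ ∈ Q := by
        have : gg b * (gg b')⁻¹ = (dd a)⁻¹ * dd a' := by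
          rw [eq_inv_mul_iff_mul_eq, ← mul_assoc, e', mul_inv_cancel_right]
        rw [this]
        exact Q.mul_mem (Q.inv_mem (inD_Q L.xX h (hddD a))) (inD_Q L.xX h (hddD a'))
      have hbb : b = b' := by
        have hab := fun {a b : G} (ha : a ∈ S) (hb : b ∈ S) => L.abelian h htC ht2 ha hb
        have hq' : gg (xor b.1 b'.1, xor b.2 b'.2) ∈ Q := by
          have hbi : (gg b')⁻¹ = gg b' := inv_eq_of_mul_eq_one_right (hab (hggS b') (hggS b')).2
          rw [hbi] at hq
          convert hq using 1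
          have hpw : ∀ {w : G}, w * w = 1 → ∀ c d : Bool,
              (if xor c d then w else 1) = (if c then w else 1) * (if d then w else 1) := by
            intro w hw c d
            cases c <;> cases d <;> simp [hw]
          have hcm : Commute (if b.2 then u else 1) (if b'.1 then t else 1) := by
            split_ifs
            exacts [L.ut_comm, Commute.one_right _, Commute.one_left _, Commute.one_left _]
          show (if xor b.1 b'.1 then t else 1) * (if xor b.2 b'.2 then u else 1) = _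
          rw [hpw ht2, hpw (hab huS huS).2]
          exact (Commute.mul_mul_mul_comm hcm _ _).symm
        have := hggQ _ hq'
        obtain ⟨b1, b2⟩ := b
        obtain ⟨c1, c2⟩ := b'
        cases b1 <;> cases b2 <;> cases c1 <;> cases c2 <;> simp_all
      subst hbb
      exact Prod.ext (hddinj (mul_right_cancel e')) rfl
    · rintro ⟨c, hc⟩
      obtain ⟨d, hd, e⟩ := L.span c (Subgroup.mem_inf.mp hc).1 (Subgroup.mem_centralizer_singleton_iff.mp (Subgroup.mem_inf.mp hc).2)
      obtain ⟨a, ha⟩ : ∃ a, dd a = d := by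
        rcases hd with rfl | rfl | rfl | rfl
        · exact ⟨(false, false), by simp [dd]⟩
        · exact ⟨(true, false), by simp [dd]⟩
        · exact ⟨(false, true), by simp [dd]⟩
        · exact ⟨(true, true), by simp [dd]⟩
      rcases e with e | e | e | e
      · exact ⟨(a, (false, false)), Subtype.ext (by simp [f, gg, ha, e])⟩
      · exact ⟨(a, (true, false)), Subtype.ext (by simp [f, gg, ha, e])⟩
      · exact ⟨(a, (false, true)), Subtype.ext (by simp [f, gg, ha, e, hu])⟩
      · exact ⟨(a, (true, true)), Subtype.ext (by simp [f, gg, ha, e, hu])⟩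
  rw [← Nat.card_congr (Equiv.ofBijective f hf), Nat.card_eq_fintype_card]
  rfl

end LocalData

end Cfsg.Agent.Invol.HJ
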