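import Cfsg.Agent.Lib.Invol.HJ.Classes
import Cfsg.Agent.Lib.Invol.HJ.LocalT
import Cfsg.Agent.S3313

/-!
# Pairs of involutions over the central involution
-/

set_option autoImplicit false
set_option linter.unusedSectionVars false
set_option linter.style.haveILetI false

namespace Cfsg.Agent.Invol.HJ

open Cfsg

variable {G : Type*} [Group G] {z : G} {Q : Subgroup G}

namespace Setting

/-- There are 120 involutions in `C(z)` outside `Q`. -/
theorem card_outside [Finite G] (h : Setting z Q) :
    Nat.card {y : G // y ∈ Subgroup.centralizer ({z} : Set G) ∧ y * y = 1 ∧ y ∉ Q} = 120 := by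
  obtain ⟨y0, h0, h02, h0Q, -⟩ := h.exists_outside
  obtain ⟨x, σ, L⟩ := local_data h.toCore h0 h02 h0Q
  obtain ⟨M⟩ := h.toCore.model
  set yC : Subgroup.centralizer ({z} : Set G) := ⟨y0, h0⟩ with hyC
  have hclass : Nat.card {c : Subgroup.centralizer ({z} : Set G) // IsConj yC c}
      = Nat.card {y : G // y ∈ Subgroup.centralizer ({z} : Set G) ∧ y * y = 1 ∧ y ∉ Q} := by
    refine Nat.card_congr (Equiv.ofBijective (fun c => ⟨(c.1 : G), c.1.2, ?_, ?_⟩)
      ⟨fun a b e => Subtype.ext (Subtype.ext (by simpa using e)), fun y => ?_⟩)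
    · obtain ⟨g, hg⟩ := isConj_iff.mp c.2
      have e : (c.1 : G) = (g : G) * y0 * (g : G)⁻¹ := (congrArg Subtype.val hg).symm
      rw [e, conj_mul, h02, mul_one, mul_inv_cancel]
    · obtain ⟨g, hg⟩ := isConj_iff.mp c.2
      have e : (c.1 : G) = (g : G) * y0 * (g : G)⁻¹ := (congrArg Subtype.val hg).symm
      intro hq
      rw [e] at hq
      have := h.norm _ (inv_mem g.2) _ hq
      exact h0Q (by simpa [mul_assoc] using this)
    · obtain ⟨y, hy, hy2, hyQ⟩ := y
      obtain ⟨c, hc, e⟩ := M.outside_conj h.toCore h0 h02 h0Q hy hy2 hyQ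
      exact ⟨⟨⟨y, hy⟩, isConj_iff.mpr ⟨⟨c, hc⟩, Subtype.ext e⟩⟩, rfl⟩
  have hcent : Nat.card (Subgroup.centralizer ({yC} : Set (Subgroup.centralizer ({z} : Set G)))) = 16 := by
    rw [← L.card_sixteen h.toCore h0 h02]
    refine Nat.card_congr
      { toFun := fun c => ⟨((c : Subgroup.centralizer ({z} : Set G)) : G), Subgroup.mem_inf.2
          ⟨(c : Subgroup.centralizer ({z} : Set G)).2, Subgroup.mem_centralizer_singleton_iff.mpr
            (congrArg Subtype.val (Subgroup.mem_centralizer_singleton_iff.mp c.2))⟩⟩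
        invFun := fun c => ⟨⟨c.1, (Subgroup.mem_inf.mp c.2).1⟩, Subgroup.mem_centralizer_singleton_iff.mpr
          (Subtype.ext (Subgroup.mem_centralizer_singleton_iff.mp (Subgroup.mem_inf.mp c.2).2))⟩
        left_inv := fun c => rfl
        right_inv := fun c => rfl }
  have := S3313.card_class_mul yC
  rw [hclass, hcent, h.toCore.card_C] at this
  omega

/-- The conjugates of `z` commuting with an involution outside `Q`, apart from `z`. -/
theorem two_commuting [Finite G] (h : Setting z Q) {y : G} (hy : y ∈ Subgroup.centralizer ({z} : Set G))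
    (hy2 : y * y = 1) (hyQ : y ∉ Q) :
    Nat.card {a : G // a ∈ nonCentralInvol z Q ∧ a * y = y * a} = 2 := by
  classical
  obtain ⟨x, σ, L⟩ := local_data h.toCore hy hy2 hyQ
  have hzx : x ≠ z * x := fun e => h.ne_one (mul_eq_right.mp e.symm)
  have hset : {a : G | a ∈ nonCentralInvol z Q ∧ a * y = y * a} = (({x, z * x} : Finset G) : Set G) := by
    ext a
    simp only [Set.mem_ofPred_eq, Finset.coe_insert, Finset.coe_singleton, Set.mem_insert_iff, Set.mem_singleton_iff]
    constructor
    · rintro ⟨ha, hc⟩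
      rcases (L.memQ a ha.1).mp hc with e | e | e | e
      · exact absurd e ha.2.2.1
      · exact absurd e ha.2.2.2
      · exact Or.inl e
      · exact Or.inr e
    · rintro (e | e) <;> rw [e]
      · exact ⟨L.xX, L.tx.symm⟩
      · exact ⟨h.zmul_mem L.xX, (inD_comm (h.cz hy) L.tx (Or.inr (Or.inr (Or.inr rfl)))).symm⟩
  show Nat.card ↥{a : G | a ∈ nonCentralInvol z Q ∧ a * y = y * a} = 2
  rw [hset, Nat.card_coe_set_eq, Set.ncard_coe_finset, Finset.card_pair hzx]

set_option maxHeartbeats 1000000 in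
/-- `a_{ztz} = 960`. -/
theorem aCount_z [Finite G] (h : Setting z Q) {t : G} (ht : orderOf t = 2) (htz : ¬ IsConj t z) :
    S3313.aCount z t z = 960 := by
  classical
  letI := Fintype.ofFinite G
  have hz := h.hz
  have hzz := h.z_sq
  let X : Finset G := Finset.univ.filter fun a => a ∈ nonCentralInvol z Q
  let P : Finset G := Finset.univ.filter fun y => y ∈ Subgroup.centralizer ({z} : Set G) ∧ y * y = 1 ∧ y ∉ Q
  have hord : ∀ {a b : G}, orderOf a = 2 → IsConj a b → b * b = 1 ∧ b ≠ 1 := by
    intro a b ha hab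
    obtain ⟨g, rfl⟩ := isConj_iff.mp hab
    refine ⟨by rw [conj_mul, (sq_of_two ha).1, mul_one, mul_inv_cancel], fun e => (sq_of_two ha).2 ?_⟩
    rwa [mul_inv_eq_one, mul_eq_left] at e
  have hX10 : X.card = 10 := by
    rw [← (h.toCore.ten).1, ← Fintype.card_subtype, ← Nat.card_eq_fintype_card]
  have hP120 : P.card = 120 := by
    rw [← h.card_outside, ← Fintype.card_subtype, ← Nat.card_eq_fintype_card]
  have htwo : ∀ y ∈ P, (X.filter fun a => a * y = y * a).card = 2 := by
    intro y hy
    obtain ⟨h1, h2, h3⟩ := (Finset.mem_filter.mp hy).2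
    rw [← h.two_commuting h1 h2 h3, Finset.filter_filter, ← Fintype.card_subtype, ← Nat.card_eq_fintype_card]
  have hXmem : ∀ {a}, a ∈ X ↔ a ∈ nonCentralInvol z Q := by simp [X]
  have hset : S3313.aCount z t z = ((X ×ˢ P).filter fun p => ¬ p.1 * p.2 = p.2 * p.1).card := by
    rw [S3313.aCount, ← Fintype.card_coe, ← Nat.card_eq_fintype_card]
    refine Nat.card_congr (Equiv.subtypeEquivRight fun p => ?_)
    obtain ⟨a, y⟩ := p
    simp only [Finset.mem_filter, Finset.mem_product]
    constructor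
    · rintro ⟨h1, h2, h3⟩
      obtain ⟨ha2, ha1⟩ := hord hz h1
      obtain ⟨hy2, hy1⟩ := hord ht h2
      have hv : z * (a * y) = a * y * z := by
        rw [← h3]; exact ((Commute.refl (a * y)).pow_left _).eq
      have hav : a * z * a⁻¹ = z := by
        rw [← h3]
        show a * (a * y) ^ _ * a⁻¹ = (a * y) ^ _
        rw [← conj_pow, S3313.conj_involution_product a y ha2 hy2, inv_pow]
        have : S3313.vinv (a, y) * S3313.vinv (a, y) = 1 := by rw [h3, hzz]
        exact inv_eq_of_mul_eq_one_right this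
      have haC : a ∈ Subgroup.centralizer ({z} : Set G) :=
        Subgroup.mem_centralizer_singleton_iff.mpr (mul_inv_eq_iff_eq_mul.mp hav)
      have hyC : y ∈ Subgroup.centralizer ({z} : Set G) :=
        (Subgroup.mul_mem_cancel_left _ haC).mp (Subgroup.mem_centralizer_singleton_iff.mpr hv.symm)
      have hyz : ¬ IsConj y z := fun e => htz (h2.trans e)
      have hyQ : y ∉ Q := h.not_mem_Q_of_not_conj (orderOf_two_iff'.mpr ⟨hy2, hy1⟩) hyz
      have hane : a ≠ z := by
        intro e
        subst e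
        have hzy := h.cz hyC
        have hne : a * y ≠ 1 := fun e => hyQ ((eq_inv_of_mul_eq_one_right e).symm ▸ Q.inv_mem h.mem_z)
        have h22 : a * y * (a * y) = 1 := by
          rw [mul_assoc, ← mul_assoc y a y, hzy, mul_assoc a y y, hy2, mul_one, hzz]
        rw [show S3313.vinv (a, y) = (a * y) ^ (orderOf (a * y) / 2) from rfl, orderOf_two_iff'.mpr ⟨h22, hne⟩] at h3
        simp at h3
        exact hy1 h3
      have haQ := h.mem_Q_of_conj haC h1.symm
      refine ⟨⟨hXmem.mpr ⟨haQ, ha2, ha1, hane⟩, Finset.mem_filter.mpr ⟨Finset.mem_univ _, hyC, hy2, hyQ⟩⟩, fun hc => ?_⟩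
      have hne : a * y ≠ 1 := fun e => hyQ ((eq_inv_of_mul_eq_one_right e).symm ▸ Q.inv_mem haQ)
      have h22 : a * y * (a * y) = 1 := by
        rw [mul_assoc, ← mul_assoc y a y, ← hc, mul_assoc a y y, hy2, mul_one, ha2]
      have hay : a * y = z := by
        rw [← h3, show S3313.vinv (a, y) = (a * y) ^ (orderOf (a * y) / 2) from rfl, orderOf_two_iff'.mpr ⟨h22, hne⟩]
        simp
      exact hyQ ((Q.mul_mem_cancel_left haQ).mp (hay ▸ h.mem_z))
    · rintro ⟨⟨haX, hyP⟩, hne⟩
      have ha := hXmem.mp haX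
      obtain ⟨hyC, hy2, hyQ⟩ := (Finset.mem_filter.mp hyP).2
      have hy1 : y ≠ 1 := fun e => hyQ (e ▸ Q.one_mem)
      refine ⟨(h.X_conj ha).symm, h.conj_of_not ht (orderOf_two_iff'.mpr ⟨hy2, hy1⟩) htz (h.outside_not_conj hyC hy2 hyQ), ?_⟩
      obtain ⟨haQ, ha2, ha1, hane⟩ := ha
      have hyinv : y⁻¹ = y := inv_eq_of_mul_eq_one_right hy2
      have hainv : a⁻¹ = a := inv_eq_of_mul_eq_one_right ha2
      set a' := y * a * y⁻¹ with ha'
      have ha'X : a' ∈ nonCentralInvol z Q := h.invol_conj hyC ⟨haQ, ha2, ha1, hane⟩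
      have hcc : a * y * (a * y) = a * a' := by rw [ha', hyinv]; simp only [mul_assoc]
      have hc1 : a * a' ≠ 1 := fun e => hne (by
        have e' : a' = a := by rw [← hainv]; exact (inv_eq_of_mul_eq_one_right e).symm
        exact (mul_inv_eq_iff_eq_mul.mp e').symm)
      show (a * y) ^ (orderOf (a * y) / 2) = z
      have hcp : (a * y) ^ 2 = a * a' := by rw [pow_two, hcc]
      rcases h.sq _ (Q.mul_mem haQ ha'X.1) with e | e
      · have hcom : a * a' = a' * a := by
          have e' := inv_eq_of_mul_eq_one_right e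
          rw [mul_inv_rev, hainv, inv_eq_of_mul_eq_one_right ha'X.2.1] at e'
          exact e'.symm
        rcases (h.toCore.ten).2 a ⟨haQ, ha2, ha1, hane⟩ a' ha'X hcom with e' | e'
        · exact absurd (by rw [e', ha2]) hc1
        · have hcz : a * a' = z := by rw [e', ← mul_assoc, h.zq haQ, mul_assoc, ha2, mul_one]
          have ho : orderOf (a * y) = 2 ^ 2 := by
            refine orderOf_eq_prime_pow ?_ ?_
            · rw [pow_one, hcp, hcz]; exact h.ne_one
            · rw [show 2 ^ (1 + 1) = 2 * 2 by norm_num, pow_mul, hcp, hcz, pow_two, hzz]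
          rw [ho, show (2 : ℕ) ^ 2 / 2 = 2 by norm_num, hcp, hcz]
      · have ho : orderOf (a * y) = 2 ^ 3 := by
          refine orderOf_eq_prime_pow ?_ ?_
          · rw [show 2 ^ 2 = 2 * 2 by norm_num, pow_mul, hcp, pow_two, e]; exact h.ne_one
          · rw [show 2 ^ (2 + 1) = 2 * (2 * 2) by norm_num, pow_mul, hcp, pow_mul, pow_two (a * a'), e, pow_two, hzz]
        rw [ho, show (2 : ℕ) ^ 3 / 2 = 2 * 2 by norm_num, pow_mul, hcp, pow_two, e]
  rw [hset]
  have hc := Finset.card_filter_add_card_filter_not (s := X ×ˢ P) (fun p : G × G => p.1 * p.2 = p.2 * p.1)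
  have h240 : ((X ×ˢ P).filter fun p => p.1 * p.2 = p.2 * p.1).card = 240 := by
    rw [Finset.card_filter, Finset.sum_product_right,
      Finset.sum_congr rfl (fun y hy => (Finset.card_filter _ _).symm.trans (htwo y hy)), Finset.sum_const, hP120]
    norm_num
  rw [h240, Finset.card_product, hX10, hP120] at hc
  omega

end Setting

end Cfsg.Agent.Invol.HJ
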