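import Cfsg.Prelude
import Mathlib

/-!
# An automorphism of the alternating group of degree five fixing a tetrahedral subgroup
-/

set_option autoImplicit false
set_option linter.style.haveILetI false

namespace Cfsg.Agent.Invol.HJ

/-- Whether an element has order at most two, and whether its cube is trivial. -/
def ordTag (a : alternatingGroup (Fin 5)) : Bool × Bool := (decide (a * a = 1), decide (a * a * a = 1))

/-- Whether an element has order five. -/
def isFive (a : alternatingGroup (Fin 5)) : Bool := decide (a ≠ 1 ∧ a * a * a * a * a = 1)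

/-- The position of an involution relative to a tetrahedral subgroup. -/
def posTag (d1 d2 ρ w : alternatingGroup (Fin 5)) : (Bool × Bool) × (Bool × Bool) × (Bool × Bool) × (Bool × Bool) :=
  (ordTag (w * d1), ordTag (w * d2), ordTag (w * (d1 * d2)), ordTag (w * ρ))

set_option synthInstance.maxSize 1024 in
theorem a5_rigid_data : ∀ d1 : alternatingGroup (Fin 5), d1 ≠ 1 → d1 * d1 = 1 →
    ∀ d2 : alternatingGroup (Fin 5), d2 ≠ 1 → d2 * d2 = 1 → d2 ≠ d1 → d1 * d2 = d2 * d1 →
    ∀ ρ : alternatingGroup (Fin 5), ρ * ρ * ρ = 1 → ρ * d1 * ρ⁻¹ = d2 →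
    ∃ w : alternatingGroup (Fin 5), w * w = 1 ∧ (isFive (w * d1) || isFive (w * d2) || isFive (w * ρ)) = true ∧
      ∀ w' : alternatingGroup (Fin 5), w' * w' = 1 → posTag d1 d2 ρ w' = posTag d1 d2 ρ w → w' = w := by
  decide +kernel

theorem subgroup_top_of_orders (H : Subgroup (alternatingGroup (Fin 5))) (D : Subgroup (alternatingGroup (Fin 5)))
    (hD : Nat.card D = 4) (hDH : D ≤ H) {ρ f : alternatingGroup (Fin 5)} (hρ : ρ ∈ H) (hρo : orderOf ρ = 3) (hf : f ∈ H)
    (hfo : orderOf f = 5) : H = ⊤ := by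
  refine Subgroup.eq_top_of_le_card _ ?_
  have h4 : 4 ∣ Nat.card H := hD ▸ Subgroup.card_dvd_of_le hDH
  have h3 : 3 ∣ Nat.card H := (dvd_of_eq hρo.symm).trans (Subgroup.orderOf_dvd_natCard _ hρ)
  have h5 : 5 ∣ Nat.card H := (dvd_of_eq hfo.symm).trans (Subgroup.orderOf_dvd_natCard _ hf)
  have h60 : 60 ∣ Nat.card H :=
    Nat.Coprime.mul_dvd_of_dvd_of_dvd (show Nat.Coprime 12 5 by norm_num) (Nat.Coprime.mul_dvd_of_dvd_of_dvd (show Nat.Coprime 4 3 by norm_num) h4 h3) h5
  have hA : Nat.card (alternatingGroup (Fin 5)) = 60 := by rw [nat_card_alternatingGroup, Nat.card_fin]; rfl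
  rw [hA]
  exact Nat.le_of_dvd Nat.card_pos h60

/-- An automorphism fixing two generators of a four group and an element turning it is trivial. -/
theorem a5_rigid (α : alternatingGroup (Fin 5) ≃* alternatingGroup (Fin 5)) (d1 d2 ρ : alternatingGroup (Fin 5))
    (h1 : d1 ≠ 1) (h12 : d1 * d1 = 1) (h2 : d2 ≠ 1) (h22 : d2 * d2 = 1) (hne : d2 ≠ d1) (hc : d1 * d2 = d2 * d1)
    (hρ : ρ * ρ * ρ = 1) (hρd : ρ * d1 * ρ⁻¹ = d2) (a1 : α d1 = d1) (a2 : α d2 = d2) (a3 : α ρ = ρ) (g : alternatingGroup (Fin 5)) :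
    α g = g := by
  obtain ⟨w, hw2, h5, hw⟩ := a5_rigid_data d1 h1 h12 d2 h2 h22 hne hc ρ hρ hρd
  have hord : ∀ a, ordTag (α a) = ordTag a := fun a => by
    unfold ordTag
    simp only [← map_mul, EmbeddingLike.map_eq_one_iff]
  have haw : α w = w := by
    refine hw (α w) (by rw [← map_mul, hw2, map_one]) ?_
    have e1 : α w * d1 = α (w * d1) := by rw [map_mul, a1]
    have e2 : α w * d2 = α (w * d2) := by rw [map_mul, a2]
    have e3 : α w * (d1 * d2) = α (w * (d1 * d2)) := by rw [map_mul, map_mul, a1, a2]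
    have e4 : α w * ρ = α (w * ρ) := by rw [map_mul, a3]
    simp only [posTag, e1, e2, e3, e4, hord]
  let F : Subgroup (alternatingGroup (Fin 5)) := α.toMonoidHom.eqLocus (MonoidHom.id _)
  suffices hF : F = ⊤ by
    have : g ∈ F := hF ▸ Subgroup.mem_top g
    exact this
  have hD : ∃ D : Subgroup (alternatingGroup (Fin 5)), Nat.card D = 4 ∧ D ≤ F := by
    let D : Subgroup (alternatingGroup (Fin 5)) :=
      { carrier := {a | a = 1 ∨ a = d1 ∨ a = d2 ∨ a = d1 * d2}
        one_mem' := Or.inl rfl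
        inv_mem' := by
          have e : (d1 * d2)⁻¹ = d1 * d2 := by
            rw [mul_inv_rev, inv_eq_of_mul_eq_one_right h22, inv_eq_of_mul_eq_one_right h12, hc]
          rintro a (rfl | rfl | rfl | rfl) <;>
            simp [inv_eq_of_mul_eq_one_right h12, inv_eq_of_mul_eq_one_right h22, e]
        mul_mem' := by
          have e1 : d1 * (d1 * d2) = d2 := by rw [← mul_assoc, h12, one_mul]
          have e2 : d2 * (d1 * d2) = d1 := by rw [hc, ← mul_assoc, h22, one_mul]
          have e3 : d1 * d2 * d2 = d1 := by rw [mul_assoc, h22, mul_one]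
          have e4 : d1 * d2 * d1 = d2 := by rw [hc, mul_assoc, h12, mul_one]
          have e5 : d1 * d2 * (d1 * d2) = 1 := by rw [← mul_assoc, e4, h22]
          rintro a b (rfl | rfl | rfl | rfl) (rfl | rfl | rfl | rfl) <;>
            simp [h12, h22, e1, e2, e3, e4, e5, ← hc] }
    refine ⟨D, ?_, ?_⟩
    · have hset : (D : Set (alternatingGroup (Fin 5))) = (({1, d1, d2, d1 * d2} : Finset _) : Set _) := by
        ext a; simp [D]
      have h3 : d1 * d2 ≠ 1 := fun e => hne ((inv_eq_of_mul_eq_one_right e).symm.trans (inv_eq_of_mul_eq_one_right h12))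
      rw [← SetLike.coe_sort_coe, hset, Nat.card_coe_set_eq, Set.ncard_coe_finset,
        Finset.card_insert_of_notMem (by simp [Ne.symm h1, Ne.symm h2, Ne.symm h3]),
        Finset.card_insert_of_notMem (by simp [Ne.symm hne, h2]), Finset.card_pair (by simp [Ne.symm, h1])]
    · rintro a (rfl | rfl | rfl | rfl)
      · exact F.one_mem
      · exact a1
      · exact a2
      · exact F.mul_mem (show d1 ∈ F from a1) (show d2 ∈ F from a2)
  obtain ⟨D, hD4, hDF⟩ := hD
  haveI : Fact (Nat.Prime 5) := ⟨by norm_num⟩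
  haveI : Fact (Nat.Prime 3) := ⟨by norm_num⟩
  have hρo : orderOf ρ = 3 := orderOf_eq_prime (by rw [pow_three', hρ]) fun e => hne (by rw [← hρd, e]; group)
  have h5o : ∀ a : alternatingGroup (Fin 5), a ≠ 1 → a * a * a * a * a = 1 → orderOf a = 5 := fun a ha h => by
    refine orderOf_eq_prime ?_ ha
    simp only [pow_succ, pow_zero, one_mul]
    exact h
  have hwF : w ∈ F := haw
  simp only [Bool.or_eq_true, isFive, decide_eq_true_eq] at h5
  rcases h5 with (⟨e1, e2⟩ | ⟨e1, e2⟩) | ⟨e1, e2⟩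
  · exact subgroup_top_of_orders F D hD4 hDF (show ρ ∈ F from a3) hρo (F.mul_mem hwF (show d1 ∈ F from a1)) (h5o _ e1 e2)
  · exact subgroup_top_of_orders F D hD4 hDF (show ρ ∈ F from a3) hρo (F.mul_mem hwF (show d2 ∈ F from a2)) (h5o _ e1 e2)
  · exact subgroup_top_of_orders F D hD4 hDF (show ρ ∈ F from a3) hρo (F.mul_mem hwF (show ρ ∈ F from a3)) (h5o _ e1 e2)

end Cfsg.Agent.Invol.HJ
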