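import Cfsg.Agent.Lib.Invol.HJ.Split
import Cfsg.Agent.Lib.Invol.HJ.Pairs
import Cfsg.Agent.Lib.Invol.HJ.Rigid
import Cfsg.Agent.Lib.Invol.V4Simple
import Cfsg.Agent.Lib.Fus.SmallSimple

/-!
# The centralizer of the second involution is `V × A₅`
-/

set_option autoImplicit false
set_option linter.unusedSectionVars false
set_option linter.style.haveILetI false

namespace Cfsg.Agent.Invol.HJ

open Cfsg

variable {G : Type*} [Group G] {z : G} {Q : Subgroup G} {t x σ r : G}

/-- The complement of the fixed points in `C(t)`. -/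
structure Comp (z t x r : G) (K : Subgroup G) : Prop where
  le : K ≤ Subgroup.centralizer ({t} : Set G)
  norm : ∀ m ∈ Subgroup.centralizer ({t} : Set G), ∀ k ∈ K, m * k * m⁻¹ ∈ K
  zK : z ∈ K
  xK : x ∈ K
  rK : r ∈ K
  inf : ∀ v ∈ vfix z t r, v ∈ K → v = 1
  prod : ∀ m ∈ Subgroup.centralizer ({t} : Set G), ∃ v ∈ vfix z t r, v * m ∈ K

namespace Good

theorem exists_comp [Finite G] (g : Good z Q t x σ r) (h : Setting z Q) : ∃ K, Comp z t x r K := by
  obtain ⟨K, h1, h2, h3, h4, h5, h6, h7⟩ := g.exists_complement h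
  exact ⟨K, h1, h2, h3, h4, h5, h6, h7⟩

variable {K : Subgroup G}

theorem cent_inD [Finite G] (g : Good z Q t x σ r) (h : Setting z Q) (c : Comp z t x r K) {d k : G}
    (hd : InD z x d) (hd1 : d ≠ 1) (hk : k ∈ K) (hkd : k * d = d * k) : InD z x k := by
  have hkS : k ∈ czt z t := by
    show k ∈ Subgroup.centralizer ({z} : Set G) ⊓ Subgroup.centralizer ({t} : Set G)
    rw [← h.cent_pair g.L g.tC g.t2 g.tQ hd hd1]
    exact Subgroup.mem_inf.2 ⟨Subgroup.mem_centralizer_singleton_iff.mpr hkd, c.le hk⟩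
  obtain ⟨e, v, he, hv, rfl⟩ := g.decomp h hkS
  have heK : e ∈ K := by
    rcases he with rfl | rfl | rfl | rfl
    exacts [K.one_mem, c.zK, c.xK, K.mul_mem c.zK c.xK]
  rw [c.inf v hv ((K.mul_mem_cancel_left heK).mp hk), mul_one]
  exact he

theorem inD_K (c : Comp z t x r K) {d : G} (hd : InD z x d) : d ∈ K := by
  rcases hd with rfl | rfl | rfl | rfl
  exacts [K.one_mem, c.zK, c.xK, K.mul_mem c.zK c.xK]

theorem mem_czt_K [Finite G] (g : Good z Q t x σ r) (h : Setting z Q) (c : Comp z t x r K) {k : G}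
    (hk : k ∈ czt z t) (hkK : k ∈ K) : InD z x k :=
  g.cent_inD h c (Or.inr (Or.inl rfl)) h.ne_one hkK (Subgroup.mem_centralizer_singleton_iff.mp (Subgroup.mem_inf.mp hk).1)

/-- All involutions of the complement are conjugate in it to `z`. -/
theorem invol_K [Finite G] (g : Good z Q t x σ r) (h : Setting z Q) (c : Comp z t x r K) {w : G} (hw : w ∈ K)
    (ho : orderOf w = 2) : ∃ k ∈ K, k * w * k⁻¹ = z := by
  haveI : Fact (Nat.Prime 2) := ⟨Nat.prime_two⟩
  obtain ⟨P, hP⟩ := g.exists_sylow h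
  set wM : Subgroup.centralizer ({t} : Set G) := ⟨w, c.le hw⟩ with hwM
  have hwp : IsPGroup 2 (Subgroup.zpowers wM) :=
    IsPGroup.of_card (n := 1) (by rw [Nat.card_zpowers, hwM, Subgroup.orderOf_mk, ho, pow_one])
  obtain ⟨R, hR⟩ := hwp.exists_le_sylow
  obtain ⟨m, hm⟩ := MulAction.exists_smul_eq (Subgroup.centralizer ({t} : Set G)) R P
  have hmem : m * wM * m⁻¹ ∈ (P : Subgroup _) := by
    rw [← hm, Sylow.coe_subgroup_smul]
    exact ⟨wM, hR (Subgroup.mem_zpowers _), rfl⟩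
  rw [hP, Subgroup.mem_subgroupOf] at hmem
  push_cast at hmem
  have hd := g.mem_czt_K h c hmem (c.norm _ m.2 w hw)
  have hd1 : (m : G) * w * (m : G)⁻¹ ≠ 1 := fun e => (sq_of_two ho).2 (by rwa [mul_inv_eq_one, mul_eq_left] at e)
  obtain ⟨v, hv, hvm⟩ := c.prod m m.2
  have hk : v * m * w * (v * m)⁻¹ = (m : G) * w * (m : G)⁻¹ := by
    rw [show v * m * w * (v * m)⁻¹ = v * ((m : G) * w * (m : G)⁻¹) * v⁻¹ by group,
      g.mul_comm' h.toCore (Subgroup.mem_inf.mp hv).1 (g.inD_mem h hd), mul_inv_cancel_right]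
  rcases hd with e | e | e | e
  · exact absurd e hd1
  · exact ⟨_, hvm, hk.trans e⟩
  · refine ⟨r * r * (v * m), K.mul_mem (K.mul_mem c.rK c.rK) hvm, ?_⟩
    calc r * r * (v * m) * w * (r * r * (v * m))⁻¹ = r * (r * (v * m * w * (v * m)⁻¹) * r⁻¹) * r⁻¹ := by group
      _ = z := by rw [hk, e, g.rx, g.rzx h.toCore]
  · refine ⟨r * (v * m), K.mul_mem c.rK hvm, ?_⟩
    calc r * (v * m) * w * (r * (v * m))⁻¹ = r * (v * m * w * (v * m)⁻¹) * r⁻¹ := by group
      _ = z := by rw [hk, e, g.rzx h.toCore]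

/-- The hypotheses of the order lemma for the complement. -/
theorem comp_data [Finite G] (g : Good z Q t x σ r) (h : Setting z Q) (c : Comp z t x r K) :
    orderOf (⟨z, c.zK⟩ : K) = 2 ∧ Nat.card (Subgroup.centralizer ({(⟨z, c.zK⟩ : K)} : Set K)) = 4 ∧
      (∀ a ∈ Subgroup.centralizer ({(⟨z, c.zK⟩ : K)} : Set K), a * a = 1) ∧
      (∀ u : K, orderOf u = 2 → IsConj (⟨z, c.zK⟩ : K) u) := by
  classical
  have hmem : ∀ a : K, a ∈ Subgroup.centralizer ({(⟨z, c.zK⟩ : K)} : Set K) ↔ InD z x (a : G) := by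
    intro a
    constructor
    · intro ha
      exact g.cent_inD h c (Or.inr (Or.inl rfl)) h.ne_one a.2
        (congrArg Subtype.val (Subgroup.mem_centralizer_singleton_iff.mp ha))
    · intro ha
      exact Subgroup.mem_centralizer_singleton_iff.mpr (Subtype.ext
        (Subgroup.mem_centralizer_singleton_iff.mp (Subgroup.mem_inf.mp (g.inD_mem h ha)).1))
  refine ⟨by rw [Subgroup.orderOf_mk]; exact h.hz, ?_, ?_, ?_⟩
  · have e : Nat.card (Subgroup.centralizer ({(⟨z, c.zK⟩ : K)} : Set K)) = Nat.card {w : G // InD z x w} :=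
      Nat.card_congr
        { toFun := fun a => ⟨((a : K) : G), (hmem a).mp a.2⟩
          invFun := fun w => ⟨⟨w.1, inD_K c w.2⟩, (hmem _).mpr w.2⟩
          left_inv := fun a => rfl
          right_inv := fun w => rfl }
    have hx1 := g.L.xX.2.2.1
    have hxz := g.L.xX.2.2.2
    have hzx1 := (h.zmul_mem g.L.xX).2.2.1
    rw [e, Nat.card_congr (Equiv.subtypeEquivRight (q := fun w => w ∈ ({1, z, x, z * x} : Finset G)) (fun w => by simp [InD])),
      Nat.card_eq_fintype_card, Fintype.card_coe,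
      Finset.card_insert_of_notMem (by simp [Ne.symm h.ne_one, Ne.symm hx1, Ne.symm hzx1]),
      Finset.card_insert_of_notMem (by simp [Ne.symm hxz, hx1]), Finset.card_pair (fun e => h.ne_one (mul_eq_right.mp e.symm))]
  · exact fun a ha => Subtype.ext (inD_sq g.L.xX h.toCore ((hmem a).mp ha))
  · intro u hu
    obtain ⟨k, hk, e⟩ := g.invol_K h c u.2 (by rw [Subgroup.orderOf_coe]; exact hu)
    exact (isConj_iff.mpr ⟨⟨k, hk⟩, Subtype.ext e⟩).symm

theorem card_cent [Finite G] (g : Good z Q t x σ r) (h : Setting z Q) (c : Comp z t x r K) :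
    Nat.card (Subgroup.centralizer ({t} : Set G)) = 4 * Nat.card K := by
  rw [← g.card_V h]
  exact S3313.card_of_factor (fun v hv => (Subgroup.mem_inf.mp (Subgroup.mem_inf.mp hv).1).2) c.le
    (eq_bot_iff.mpr fun a ha => Subgroup.mem_bot.mpr (c.inf a (Subgroup.mem_inf.mp ha).1 (Subgroup.mem_inf.mp ha).2))
    fun m hm => by
      obtain ⟨v, hv, hvm⟩ := c.prod m hm
      exact ⟨v⁻¹, inv_mem hv, v * m, hvm, by rw [inv_mul_cancel_left]⟩

theorem cases_of_z [Finite G] (g : Good z Q t x σ r) (h : Setting z Q) {n : G} (hn : n * t = t * n)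
    (hd : InD z x (n * z * n⁻¹)) : n ∈ czt z t ∨ r⁻¹ * n ∈ czt z t ∨ r * n ∈ czt z t := by
  have mk : ∀ {c : G}, c * t = t * c → c * z * c⁻¹ = z → c ∈ czt z t := fun hct hcz =>
    Subgroup.mem_inf.2 ⟨Subgroup.mem_centralizer_singleton_iff.mpr (mul_inv_eq_iff_eq_mul.mp hcz),
      Subgroup.mem_centralizer_singleton_iff.mpr hct⟩
  rcases hd with e | e | e | e
  · exact absurd (by rwa [mul_inv_eq_one, mul_eq_left] at e) h.ne_one
  · exact Or.inl (mk hn e)
  · refine Or.inr (Or.inl (mk ((Commute.mul_left (Commute.inv_left g.rt) hn)).eq ?_))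
    calc r⁻¹ * n * z * (r⁻¹ * n)⁻¹ = r⁻¹ * (n * z * n⁻¹) * r := by group
      _ = z := by rw [e, ← g.rz]; group
  · refine Or.inr (Or.inr (mk (Commute.mul_left g.rt hn).eq ?_))
    calc r * n * z * (r * n)⁻¹ = r * (n * z * n⁻¹) * r⁻¹ := by group
      _ = z := by rw [e, g.rzx h.toCore]

/-- In the case `|K| = 12` the involutions of `C(t)` lie in `C(z,t)`. -/
theorem invol_small [Finite G] (g : Good z Q t x σ r) (h : Setting z Q) (c : Comp z t x r K) (h12 : Nat.card K = 12)
    {w : G} (hw : w ∈ Subgroup.centralizer ({t} : Set G)) (hw2 : w * w = 1) : w ∈ czt z t := by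
  obtain ⟨h1, h2, h3, h4⟩ := g.comp_data h c
  haveI hN := V4Order.normal_of_twelve h1 h2 h3 h4 h12
  have hn : w * t = t * w := Subgroup.mem_centralizer_singleton_iff.mp hw
  have hd : InD z x (w * z * w⁻¹) := by
    obtain ⟨v, hv, hk⟩ := c.prod w hw
    have hmem : (⟨v * w, hk⟩ : K) * ⟨z, c.zK⟩ * (⟨v * w, hk⟩ : K)⁻¹ ∈ Subgroup.centralizer ({(⟨z, c.zK⟩ : K)} : Set K) :=
      hN.conj_mem _ (Subgroup.mem_centralizer_singleton_iff.mpr rfl) _
    have hd : InD z x (v * w * z * (v * w)⁻¹) := g.cent_inD h c (Or.inr (Or.inl rfl)) h.ne_one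
      (K.mul_mem (K.mul_mem hk c.zK) (K.inv_mem hk)) (congrArg Subtype.val (Subgroup.mem_centralizer_singleton_iff.mp hmem))
    have e : w * z * w⁻¹ = v⁻¹ * (v * w * z * (v * w)⁻¹) * v := by group
    rw [e, mul_assoc, ← g.mul_comm' h.toCore (Subgroup.mem_inf.mp hv).1 (g.inD_mem h hd), inv_mul_cancel_left]
    exact hd
  rcases g.cases_of_z h hn hd with hm | hm | hm
  · exact hm
  · exfalso
    have hz' : ∀ {d}, InD z x d → r⁻¹ * w * d * (r⁻¹ * w)⁻¹ = d := fun hd => by
      rw [g.mul_comm' h.toCore hm (g.inD_mem h hd), mul_inv_cancel_right]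
    have e1 : w * z * w⁻¹ = x := by
      calc w * z * w⁻¹ = r * (r⁻¹ * w * z * (r⁻¹ * w)⁻¹) * r⁻¹ := by group
        _ = x := by rw [hz' (Or.inr (Or.inl rfl)), g.rz]
    have e2 : w * x * w⁻¹ = z * x := by
      calc w * x * w⁻¹ = r * (r⁻¹ * w * x * (r⁻¹ * w)⁻¹) * r⁻¹ := by group
        _ = z * x := by rw [hz' (Or.inr (Or.inr (Or.inl rfl))), g.rx]
    have e3 : w * x * w⁻¹ = z := by
      rw [← e1, inv_eq_of_mul_eq_one_right hw2]
      simp only [← mul_assoc, hw2, one_mul]
      rw [mul_assoc, hw2, mul_one]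
    exact g.L.xX.2.2.1 (mul_eq_left.mp (e2.symm.trans e3))
  · exfalso
    have hz' : ∀ {d}, InD z x d → r * w * d * (r * w)⁻¹ = d := fun hd => by
      rw [g.mul_comm' h.toCore hm (g.inD_mem h hd), mul_inv_cancel_right]
    have e1 : w * z * w⁻¹ = z * x := by
      calc w * z * w⁻¹ = r⁻¹ * (r * w * z * (r * w)⁻¹) * r := by group
        _ = r⁻¹ * (r * (z * x) * r⁻¹) * r := by rw [hz' (Or.inr (Or.inl rfl)), g.rzx h.toCore]
        _ = z * x := by group
    have e2 : w * (z * x) * w⁻¹ = x := by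
      calc w * (z * x) * w⁻¹ = r⁻¹ * (r * w * (z * x) * (r * w)⁻¹) * r := by group
        _ = r⁻¹ * (r * x * r⁻¹) * r := by rw [hz' (Or.inr (Or.inr (Or.inr rfl))), g.rx]
        _ = x := by group
    have e3 : w * (z * x) * w⁻¹ = z := by
      rw [← e1, inv_eq_of_mul_eq_one_right hw2]
      simp only [← mul_assoc, hw2, one_mul]
      rw [mul_assoc, hw2, mul_one]
    exact g.L.xX.2.2.2 (e2.symm.trans e3)

theorem aCount_t_small [Finite G] (g : Good z Q t x σ r) (h : Setting z Q) (c : Comp z t x r K) (h12 : Nat.card K = 12) :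
    S3313.aCount z t t = 3 := by
  classical
  have htn : ¬ IsConj t z := h.outside_not_conj g.tC g.t2 g.tQ
  have htz : ∀ {d : G}, InD z x d → t * d = d * t := fun hd => inD_comm (h.cz g.tC) g.L.tx hd
  have hx1 := g.L.xX.2.2.1
  have hxz := g.L.xX.2.2.2
  have hzx1 := (h.zmul_mem g.L.xX).2.2.1
  have hD3 : Nat.card {d : G // InD z x d ∧ d ≠ 1} = 3 := by
    rw [Nat.card_congr (Equiv.subtypeEquivRight (q := fun w => w ∈ ({z, x, z * x} : Finset G)) (fun w => ?_)),
      Nat.card_eq_fintype_card, Fintype.card_coe, Finset.card_insert_of_notMem (by simp [Ne.symm hxz, hx1]),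
      Finset.card_pair (fun e => h.ne_one (mul_eq_right.mp e.symm))]
    simp only [InD, Finset.mem_insert, Finset.mem_singleton]
    constructor
    · rintro ⟨hd, hd1⟩
      exact hd.resolve_left hd1
    · rintro (e | e | e) <;> subst e
      · exact ⟨Or.inr (Or.inl rfl), h.ne_one⟩
      · exact ⟨Or.inr (Or.inr (Or.inl rfl)), hx1⟩
      · exact ⟨Or.inr (Or.inr (Or.inr rfl)), hzx1⟩
  have key : ∀ p : G × G, (IsConj z p.1 ∧ IsConj t p.2 ∧ S3313.vinv p = t) ↔ InD z x p.1 ∧ p.1 ≠ 1 ∧ p.2 = p.1 * t := by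
    rintro ⟨a, b⟩
    constructor
    · rintro ⟨ha, hb, hv⟩
      have ho : ∀ {p q : G}, orderOf p = 2 → IsConj p q → q * q = 1 ∧ q ≠ 1 := by
        intro p q hp hpq
        obtain ⟨k, rfl⟩ := isConj_iff.mp hpq
        refine ⟨by rw [conj_mul, (sq_of_two hp).1, mul_one, mul_inv_cancel], fun e => (sq_of_two hp).2 ?_⟩
        rwa [mul_inv_eq_one, mul_eq_left] at e
      obtain ⟨ha2, ha1⟩ := ho h.hz ha
      obtain ⟨hb2, hb1⟩ := ho (orderOf_two_iff'.mpr ⟨g.t2, fun e => g.tQ (e ▸ Q.one_mem)⟩) hb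
      have hvc : t * (a * b) = a * b * t := by
        rw [← hv]; exact ((Commute.refl (a * b)).pow_left _).eq
      have hat : a * t * a⁻¹ = t := by
        rw [← hv]
        show a * (a * b) ^ _ * a⁻¹ = (a * b) ^ _
        rw [← conj_pow, S3313.conj_involution_product a b ha2 hb2, inv_pow]
        have : S3313.vinv (a, b) * S3313.vinv (a, b) = 1 := by rw [hv, g.t2]
        exact inv_eq_of_mul_eq_one_right this
      have haM : a ∈ Subgroup.centralizer ({t} : Set G) :=
        Subgroup.mem_centralizer_singleton_iff.mpr (mul_inv_eq_iff_eq_mul.mp hat)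
      have hbM : b ∈ Subgroup.centralizer ({t} : Set G) :=
        (Subgroup.mul_mem_cancel_left _ haM).mp (Subgroup.mem_centralizer_singleton_iff.mpr hvc.symm)
      have haS := g.invol_small h c h12 haM ha2
      have hbS := g.invol_small h c h12 hbM hb2
      have haD : InD z x a := (g.L.memQ a (h.mem_Q_of_conj (Subgroup.mem_inf.mp haS).1 ha.symm)).mp
        (Subgroup.mem_centralizer_singleton_iff.mp (Subgroup.mem_inf.mp haS).2)
      have hne : a * b ≠ 1 := fun e => htn (by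
        have : b = a := (eq_inv_of_mul_eq_one_right e).trans (inv_eq_of_mul_eq_one_right ha2)
        exact hb.trans (this ▸ ha.symm))
      have h22 := g.sq h.toCore (mul_mem haS hbS)
      refine ⟨haD, ha1, ?_⟩
      rw [show S3313.vinv (a, b) = (a * b) ^ (orderOf (a * b) / 2) from rfl, orderOf_two_iff'.mpr ⟨h22, hne⟩] at hv
      simp at hv
      show b = a * t
      rw [← hv, ← mul_assoc, ha2, one_mul]
    · rintro ⟨hd, hd1, hb⟩
      dsimp only at hd hd1 hb
      subst hb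
      have hS : a * t ∈ czt z t := mul_mem (g.inD_mem h hd) g.t_mem
      have hQ' : a * t ∉ Q := fun e => g.tQ ((Q.mul_mem_cancel_left (inD_Q g.L.xX h.toCore hd)).mp e)
      have ht2' := g.sq h.toCore hS
      refine ⟨(h.inD_conj g.L.xX hd hd1).symm, h.conj_of_not (orderOf_two_iff'.mpr ⟨g.t2, fun e => g.tQ (e ▸ Q.one_mem)⟩)
        (orderOf_two_iff'.mpr ⟨ht2', fun e => hQ' (by rw [show a * t = 1 from e]; exact Q.one_mem)⟩) htn
        (h.outside_not_conj (Subgroup.mem_inf.mp hS).1 ht2' hQ'), ?_⟩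
      show (a * (a * t)) ^ (orderOf (a * (a * t)) / 2) = t
      rw [← mul_assoc, inD_sq g.L.xX h.toCore hd, one_mul, orderOf_two_iff'.mpr ⟨g.t2, fun e => g.tQ (e ▸ Q.one_mem)⟩]
      simp
  rw [← hD3, S3313.aCount]
  exact Nat.card_congr
    { toFun := fun p => ⟨p.1.1, ((key p.1).mp p.2).1, ((key p.1).mp p.2).2.1⟩
      invFun := fun d => ⟨(d.1, d.1 * t), (key (d.1, d.1 * t)).mpr ⟨d.2.1, d.2.2, rfl⟩⟩
      left_inv := fun p => Subtype.ext (Prod.ext rfl ((key p.1).mp p.2).2.2.symm)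
      right_inv := fun d => rfl }

/-- The class of `z` has not 27 elements. -/
theorem card_class_ne [Finite G] (h : Setting z Q) : Nat.card {v : G // IsConj z v} ≠ 27 := by
  classical
  letI := Fintype.ofFinite G
  intro h27
  obtain ⟨M⟩ := h.toCore.model
  haveI : Fact (Nat.Prime 5) := ⟨by norm_num⟩
  let Z : Finset G := Finset.univ.filter fun v => IsConj z v
  let W : Finset G := Z.filter fun v => v ∉ Subgroup.centralizer ({z} : Set G)
  have hZ : Z.card = 27 := by rw [← h27, ← Fintype.card_subtype, ← Nat.card_eq_fintype_card]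
  have hin : (Z.filter fun v => ¬ v ∉ Subgroup.centralizer ({z} : Set G)).card = 11 := by
    have e : (Z.filter fun v => ¬ v ∉ Subgroup.centralizer ({z} : Set G))
        = insert z (Finset.univ.filter fun v => v ∈ nonCentralInvol z Q) := by
      ext v
      simp only [Z, Finset.mem_filter, Finset.mem_univ, true_and, Finset.mem_insert, not_not]
      constructor
      · rintro ⟨hc, hvC⟩
        by_cases e : v = z
        · exact Or.inl e
        obtain ⟨k, rfl⟩ := isConj_iff.mp hc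
        exact Or.inr ⟨h.mem_Q_of_conj hvC hc.symm, by rw [conj_mul, h.z_sq, mul_one, mul_inv_cancel],
          fun e' => h.ne_one (by rwa [mul_inv_eq_one, mul_eq_left] at e'), e⟩
      · rintro (rfl | hv)
        · exact ⟨IsConj.refl _, h.z_mem_C⟩
        · exact ⟨(h.X_conj hv).symm, h.le_C hv.1⟩
    rw [e, Finset.card_insert_of_notMem (fun hm => (Finset.mem_filter.mp hm).2.2.2.2 rfl), ← Fintype.card_subtype, ← Nat.card_eq_fintype_card]
    exact congrArg (· + 1) (h.toCore.ten).1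
  have hW : W.card = 16 := by
    have := Finset.card_filter_add_card_filter_not (s := Z) (fun v => v ∉ Subgroup.centralizer ({z} : Set G))
    rw [hZ, hin] at this
    show (Z.filter fun v => v ∉ Subgroup.centralizer ({z} : Set G)).card = 16
    omega
  obtain ⟨f, hfC, hfo⟩ := h.toCore.exists_five
  have hWmem : ∀ {v}, v ∈ W ↔ IsConj z v ∧ v ∉ Subgroup.centralizer ({z} : Set G) := by simp [W, Z]
  have hWinv : ∀ c ∈ Subgroup.centralizer ({z} : Set G), ∀ v ∈ W, c * v * c⁻¹ ∈ W := by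
    intro c hc v hv
    obtain ⟨h1, h2⟩ := hWmem.mp hv
    refine hWmem.mpr ⟨h1.trans (isConj_iff.mpr ⟨c, rfl⟩), fun e => h2 ?_⟩
    have := mul_mem (mul_mem (inv_mem hc) e) hc
    simpa [mul_assoc] using this
  set F := Subgroup.zpowers f
  have hF5 : IsPGroup 5 F := IsPGroup.of_card (n := 1) (by rw [Nat.card_zpowers, hfo, pow_one])
  have hFC : F ≤ Subgroup.centralizer ({z} : Set G) := Subgroup.zpowers_le.mpr hfC
  letI act : MulAction F {v // v ∈ W} :=
    { smul := fun k v => ⟨k * v * (k : G)⁻¹, hWinv k (hFC k.2) v v.2⟩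
      one_smul := fun v => Subtype.ext (show (1 : G) * v * (1 : G)⁻¹ = v by group)
      mul_smul := fun a b v => Subtype.ext (show ((a : G) * b) * v * ((a : G) * b)⁻¹ = a * (b * v * (b : G)⁻¹) * (a : G)⁻¹ by group) }
  have hm := hF5.card_modEq_card_fixedPoints {v // v ∈ W}
  have hne : Nat.card (MulAction.fixedPoints F {v // v ∈ W}) ≠ 0 := by
    intro h0
    rw [h0, Nat.card_eq_fintype_card, Fintype.card_coe, hW] at hm
    exact absurd hm (by decide)
  obtain ⟨⟨v, hvW⟩, hfix⟩ := (Nat.card_pos_iff.mp (Nat.pos_of_ne_zero hne)).1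
  have hfv : f * v = v * f := mul_inv_eq_iff_eq_mul.mp (congrArg Subtype.val (hfix ⟨f, Subgroup.mem_zpowers _⟩))
  obtain ⟨-, hvC⟩ := hWmem.mp hvW
  -- the centralizer of `v` in `Q` is trivial
  have htriv : ∀ q ∈ Q, q * v = v * q → q = 1 := by
    intro q hq hqv
    have hY : ∀ p ∈ Q, p * v = v * p → p ≠ z := fun p _ hp e => hvC (Subgroup.mem_centralizer_singleton_iff.mpr (e ▸ hp).symm)
    have hq2 : q * q = 1 := (h.sq q hq).resolve_right fun e => hY _ h.mem_z (by
      rw [← e]; exact (Commute.mul_left hqv hqv).eq) rfl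
    by_contra hq1
    have hqX : q ∈ nonCentralInvol z Q := ⟨hq, hq2, hq1, hY q hq hqv⟩
    set q' := f * q * f⁻¹
    have hq'v : Commute q' v := (Commute.mul_left (Commute.mul_left hfv hqv) (Commute.inv_left hfv))
    have hq'X : q' ∈ nonCentralInvol z Q := h.invol_conj hfC hqX
    have hcom : q * q' = q' * q := by
      refine (h.comm q hq q' hq'X.1).resolve_right fun e => hY _ h.mem_z ?_ rfl
      have hz' : z = q * q' * (q' * q)⁻¹ := by rw [e, mul_inv_cancel_right]
      rw [hz']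
      exact ((Commute.mul_left hqv hq'v).mul_left ((hq'v.mul_left hqv).inv_left)).eq
    rcases (h.toCore.ten).2 q hqX q' hq'X hcom with e | e
    · exact (h.fix_five hfC hfo hq (mul_inv_eq_iff_eq_mul.mp e)).elim hq1 (hY q hq hqv)
    · refine hY _ h.mem_z ?_ rfl
      have hz' : z = q' * q⁻¹ := by rw [e, mul_inv_cancel_right]
      rw [hz']
      exact (hq'v.mul_left (Commute.inv_left hqv)).eq
  have h32 : 32 ≤ W.card := by
    rw [← h.card_Q, Nat.card_eq_fintype_card, ← Finset.card_univ]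
    refine Finset.card_le_card_of_injOn (fun q : Q => (q : G) * v * (q : G)⁻¹)
      (fun q _ => hWinv q (h.le_C q.2) v hvW) ?_
    intro a _ b _ e
    refine Subtype.ext (inv_mul_eq_one.mp (htriv _ (Q.mul_mem (Q.inv_mem a.2) b.2) ?_))
    have := congrArg (fun u => (a : G)⁻¹ * u * b) e
    simpa [mul_assoc] using this.symm
  omega

theorem card_K [Finite G] (g : Good z Q t x σ r) (h : Setting z Q) (c : Comp z t x r K) : Nat.card K = 60 := by
  obtain ⟨h1, h2, h3, h4⟩ := g.comp_data h c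
  rcases V4Order.order_eq (⟨z, c.zK⟩ : K) h1 h2 h3 h4 with h12 | h60
  swap
  · exact h60
  exfalso
  have ht : orderOf t = 2 := orderOf_two_iff'.mpr ⟨g.t2, fun e => g.tQ (e ▸ Q.one_mem)⟩
  have htn : ¬ IsConj t z := h.outside_not_conj g.tC g.t2 g.tQ
  have hG := S3313.order_formula z t h.hz ht (fun e => htn e.symm) fun w hw => by
    by_cases e : IsConj w z
    · exact Or.inl e
    · exact Or.inr (h.conj_of_not hw ht e htn)
  rw [g.card_cent h c, h12, h.aCount_z ht htn, g.aCount_t_small h c h12, h.toCore.card_C] at hG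
  have hcl := S3313.card_class_mul z
  rw [h.toCore.card_C, hG] at hcl
  have := card_class_ne h
  omega

/-- The complement is simple of order sixty. -/
theorem iso_K [Finite G] (g : Good z Q t x σ r) (h : Setting z Q) (c : Comp z t x r K) :
    Nonempty (K ≃* alternatingGroup (Fin 5)) := by
  obtain ⟨h1, h2, h3, h4⟩ := g.comp_data h c
  have h60 := g.card_K h c
  haveI := V4Order.simple_of_sixty h1 h2 h3 h4 h60
  exact Cfsg.Agent.Fus.alternating_five_of_card h60

/-- An element normalizing the complement and fixing `z`, `x` and the turning element centralizes it. -/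
theorem cent_K_of_fix [Finite G] (g : Good z Q t x σ r) (h : Setting z Q) (c : Comp z t x r K) {v k : G}
    (hvK : ∀ a ∈ K, v * a * v⁻¹ ∈ K) (hvK' : ∀ a ∈ K, v⁻¹ * a * v ∈ K) (hz' : v * z = z * v) (hx' : v * x = x * v)
    (hr' : v * r = r * v) (hk : k ∈ K) : v * k = k * v := by
  obtain ⟨e⟩ := g.iso_K h c
  let β : K ≃* K :=
    { toFun := fun a => ⟨v * a * v⁻¹, hvK a a.2⟩
      invFun := fun a => ⟨v⁻¹ * a * v, hvK' a a.2⟩
      left_inv := fun a => Subtype.ext (show v⁻¹ * (v * a * v⁻¹) * v = a by group)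
      right_inv := fun a => Subtype.ext (show v * (v⁻¹ * a * v) * v⁻¹ = a by group)
      map_mul' := fun a b => Subtype.ext (show v * ((a : G) * b) * v⁻¹ = v * a * v⁻¹ * (v * b * v⁻¹) by group) }
  have hfix : ∀ {d : G} (hd : d ∈ K), v * d = d * v → β ⟨d, hd⟩ = ⟨d, hd⟩ := fun {d} hd hcd =>
    Subtype.ext (show v * d * v⁻¹ = d by rw [hcd, mul_inv_cancel_right])
  let α : alternatingGroup (Fin 5) ≃* alternatingGroup (Fin 5) := (e.symm.trans β).trans e
  have hα : ∀ {d : G} (hd : d ∈ K), v * d = d * v → α (e ⟨d, hd⟩) = e ⟨d, hd⟩ := fun {d} hd hcd => by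
    show e (β (e.symm (e ⟨d, hd⟩))) = _
    rw [e.symm_apply_apply, hfix hd hcd]
  set d1 := e ⟨z, c.zK⟩ with hd1
  set d2 := e ⟨x, c.xK⟩ with hd2
  have hinj : ∀ {a b : K}, e a = e b → (a : G) = b := fun hab => congrArg Subtype.val (e.injective hab)
  have hr3 : (r * r * r) * (r * r * r) * (r * r * r) = 1 := by
    rw [← g.r9]; simp only [pow_succ, pow_zero, one_mul, mul_assoc]
  set ρ := e ⟨r, c.rK⟩ with hρ
  have hρ9 : ρ ^ 9 = 1 := by
    rw [hρ, ← map_pow, show (⟨r, c.rK⟩ : K) ^ 9 = 1 from Subtype.ext g.r9, map_one]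
  have hρ3 : ρ * ρ * ρ = 1 := by
    have key : ∀ a : alternatingGroup (Fin 5), a ^ 9 = 1 → a * a * a = 1 := by decide +kernel
    exact key ρ hρ9
  have key := a5_rigid α d1 d2 ρ
    (fun e' => h.ne_one (hinj (e'.trans (map_one e).symm)))
    (by rw [hd1, ← map_mul, show (⟨z, c.zK⟩ : K) * ⟨z, c.zK⟩ = 1 from Subtype.ext h.z_sq, map_one])
    (fun e' => g.L.xX.2.2.1 (hinj (e'.trans (map_one e).symm)))
    (by rw [hd2, ← map_mul, show (⟨x, c.xK⟩ : K) * ⟨x, c.xK⟩ = 1 from Subtype.ext g.L.xX.2.1, map_one])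
    (fun e' => g.L.xX.2.2.2 (hinj e'))
    (by rw [hd1, hd2, ← map_mul, ← map_mul]; exact congrArg e (Subtype.ext (h.zq g.L.xX.1).symm))
    hρ3
    (by rw [hρ, hd1, hd2, ← map_inv, ← map_mul, ← map_mul]; exact congrArg e (Subtype.ext g.rz))
    (hα c.zK hz') (hα c.xK hx') (hα c.rK hr') (e ⟨k, hk⟩)
  have key' : β ⟨k, hk⟩ = ⟨k, hk⟩ := e.injective (by
    have : α (e ⟨k, hk⟩) = e (β ⟨k, hk⟩) := by show e (β (e.symm (e ⟨k, hk⟩))) = _; rw [e.symm_apply_apply]
    rw [← this, key])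
  have := congrArg Subtype.val key'
  exact mul_inv_eq_iff_eq_mul.mp this

/-- The fixed points centralize the complement. -/
theorem V_cent_K [Finite G] (g : Good z Q t x σ r) (h : Setting z Q) (c : Comp z t x r K) {v k : G}
    (hv : v ∈ vfix z t r) (hk : k ∈ K) : v * k = k * v := by
  obtain ⟨hvS, hvr⟩ := Subgroup.mem_inf.mp hv
  have hvM : v ∈ Subgroup.centralizer ({t} : Set G) := (Subgroup.mem_inf.mp hvS).2
  refine g.cent_K_of_fix h c (fun a ha => c.norm v hvM a ha) (fun a ha => ?_) (g.mul_comm' h.toCore hvS g.z_mem)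
    (g.mul_comm' h.toCore hvS (g.x_mem h.toCore)) (Subgroup.mem_centralizer_singleton_iff.mp hvr) hk
  have := c.norm v⁻¹ (inv_mem hvM) a ha
  rwa [inv_inv] at this

end Good

end Cfsg.Agent.Invol.HJ
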