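import Cfsg.Agent.Lib.Invol.HJ.Odd

/-!
# The Sylow subgroups for the prime five in a group of Hall-Janko type
-/

set_option autoImplicit false
set_option linter.unusedSectionVars false
set_option linter.style.haveILetI false

namespace Cfsg.Agent.Invol.HJ

open Cfsg

/-- Membership in the cyclic group generated by an element of order five. -/
def inPowFive (c g : alternatingGroup (Fin 5)) : Bool :=
  decide (g = 1) || decide (g = c) || decide (g = c * c) || decide (g = c * c * c) || decide (g = c * c * c * c)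

theorem a5_five_norm : ∀ c : alternatingGroup (Fin 5), c ≠ 1 → c * c * c * c * c = 1 →
    ∃ w : alternatingGroup (Fin 5), inPowFive c w = false ∧ w * c * w⁻¹ = c * c * c * c ∧
      ∀ g : alternatingGroup (Fin 5), inPowFive c (g * c * g⁻¹) = true → (inPowFive c g || inPowFive c (g * w)) = true := by
  decide +kernel

theorem inPowFive_iff {c g : alternatingGroup (Fin 5)} (hc : c * c * c * c * c = 1) :
    inPowFive c g = true ↔ g ∈ Subgroup.zpowers c := by
  have hpows : ∀ n : ℕ, c ^ n = c ^ (n % 5) := fun n => by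
    conv_lhs => rw [← Nat.div_add_mod n 5, pow_add, pow_mul]
    rw [show c ^ 5 = 1 by simpa [pow_succ] using hc, one_pow, one_mul]
  simp only [inPowFive, Bool.or_eq_true, decide_eq_true_eq]
  constructor
  · rintro ((((rfl | rfl) | rfl) | rfl) | rfl)
    · exact one_mem _
    · exact Subgroup.mem_zpowers _
    all_goals repeat first
      | exact Subgroup.mem_zpowers _
      | refine Subgroup.mul_mem _ ?_ (Subgroup.mem_zpowers c)
  · intro hg
    obtain ⟨n, rfl⟩ : ∃ n : ℕ, c ^ n = g := mem_zpowers_iff_exists_nat_pow c hg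
    rw [hpows n]
    have := Nat.mod_lt n (show 5 > 0 by norm_num)
    interval_cases n % 5 <;> simp [pow_succ]
where
  mem_zpowers_iff_exists_nat_pow (c : alternatingGroup (Fin 5)) {g : alternatingGroup (Fin 5)}
      (hg : g ∈ Subgroup.zpowers c) : ∃ n : ℕ, c ^ n = g := by
    simpa [Submonoid.mem_powers_iff] using mem_powers_iff_mem_zpowers.mpr hg

/-- A finite subgroup mapped into itself is normalized. -/
theorem norm_of_conj_mem {G : Type*} [Group G] [Finite G] {S : Subgroup G} {n : G}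
    (hn : ∀ s ∈ S, n * s * n⁻¹ ∈ S) : n ∈ Subgroup.normalizer (S : Set G) := by
  refine Subgroup.mem_normalizer_iff.mpr fun s => ⟨hn s, fun hs => ?_⟩
  have hinj : Function.Injective fun a : S => (⟨n * a * n⁻¹, hn a a.2⟩ : S) := fun a b e =>
    Subtype.ext (mul_left_cancel (mul_right_cancel (congrArg Subtype.val e)))
  obtain ⟨a, ha⟩ := Finite.surjective_of_injective hinj ⟨n * s * n⁻¹, hs⟩
  exact mul_left_cancel (mul_right_cancel (congrArg Subtype.val ha)) ▸ a.2

/-- Orbit times stabilizer for conjugation by a subgroup. -/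
theorem conj_orbit_card {G : Type*} [Group G] [Finite G] (N : Subgroup G) (e : G) :
    Nat.card (Set.range fun n : N => (n : G) * e * (n : G)⁻¹) *
      Nat.card (N ⊓ Subgroup.centralizer ({e} : Set G) : Subgroup G) = Nat.card N := by
  letI : MulAction N G := MulAction.compHom G (MulAut.conj.comp N.subtype)
  rw [← Nat.card_congr (MulAction.orbitProdStabilizerEquivGroup N e), Nat.card_prod]
  congr 1
  refine Nat.card_congr
    { toFun := fun n => ⟨⟨n.1, (Subgroup.mem_inf.mp n.2).1⟩,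
        mul_inv_eq_iff_eq_mul.mpr (Subgroup.mem_centralizer_singleton_iff.mp (Subgroup.mem_inf.mp n.2).2)⟩
      invFun := fun n => ⟨n.1, Subgroup.mem_inf.2 ⟨n.1.2, Subgroup.mem_centralizer_singleton_iff.mpr
        (mul_inv_eq_iff_eq_mul.mp n.2)⟩⟩
      left_inv := fun n => rfl
      right_inv := fun n => rfl }

/-- An element of order three that normalizes a group of order five centralizes it. -/
theorem fix_of_three {G : Type*} [Group G] {d e : G} {m : ℕ} (hd : d * d * d = 1) (he : orderOf e = 5)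
    (hde : d * e * d⁻¹ = e ^ m) : d * e = e * d := by
  have hp : ∀ n : ℕ, d * e ^ n * d⁻¹ = e ^ (m * n) := fun n => by rw [← conj_pow, hde, pow_mul]
  have h3 : e ^ (m * (m * m)) = e ^ 1 := by
    rw [← hp, ← hp, ← hde, show d * (d * (d * e * d⁻¹) * d⁻¹) * d⁻¹ = (d * d * d) * e * (d * d * d)⁻¹ by group,
      hd, one_mul, inv_one, mul_one, pow_one]
  rw [pow_eq_pow_iff_modEq, he] at h3
  have key : ∀ a : ℕ, a < 5 → a * (a * a) % 5 = 1 → a = 1 := by decide
  have hm : m % 5 = 1 := by
    refine key _ (Nat.mod_lt _ (by norm_num)) ?_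
    rw [Nat.ModEq] at h3
    simpa [Nat.mul_mod, Nat.mod_mod] using h3
  have : e ^ m = e := by
    conv_rhs => rw [← pow_one e]
    rw [pow_eq_pow_iff_modEq, he, Nat.ModEq, hm]
  exact mul_inv_eq_iff_eq_mul.mp (hde.trans this)

variable {G : Type*} [Group G] {z : G} {Q : Subgroup G} {t x σ r a : G} {K : Subgroup G}

/-- The Sylow subgroups for the prime five. -/
theorem sylow_five_card [Finite G] (hG : Nat.card G = 604800) (P : Sylow 5 G) :
    Nat.card P = 25 ∧ ∀ a ∈ (P : Subgroup G), ∀ b ∈ (P : Subgroup G), a * b = b * a := by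
  haveI : Fact (Nat.Prime 5) := ⟨by norm_num⟩
  obtain ⟨n, hn⟩ := IsPGroup.iff_card.mp P.2
  have hi := P.not_dvd_index
  have hmul := (P : Subgroup G).card_mul_index
  rw [hG, hn] at hmul
  have hn2 : n = 2 := by
    have hn3 : n < 3 := by
      by_contra hcon
      have : 5 ^ 3 ∣ 604800 := (Nat.pow_dvd_pow 5 (by omega)).trans ⟨_, hmul.symm⟩
      norm_num at this
    interval_cases n <;> omega
  have hc : Nat.card P = 5 ^ 2 := hn2 ▸ hn
  haveI := IsPGroup.isMulCommutative_of_card_eq_prime_sq hc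
  exact ⟨hc, fun a ha b hb => congrArg Subtype.val (mul_comm' (⟨a, ha⟩ : P) ⟨b, hb⟩)⟩
where
  mul_comm' {M : Type _} [Group M] [IsMulCommutative M] (a b : M) : a * b = b * a := IsMulCommutative.is_comm.comm a b

/-- In every Sylow subgroup for the prime five there is an element with centralizer an extension of order 300. -/
theorem five_f [Finite G] (g : Good z Q t x σ r) (h : Setting z Q) (c : Comp z t x r K) (R : Rot z t x r a K)
    (P : Sylow 5 G) : ∃ f ∈ (P : Subgroup G), orderOf f = 5 ∧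
      (∀ u : G, orderOf u = 2 → u * f = f * u → ¬ IsConj u z) ∧
      ∃ φ : Subgroup.centralizer ({f} : Set G) →* alternatingGroup (Fin 5), Function.Surjective φ ∧
        ∀ y, φ y = 1 ↔ (y : G) ∈ Subgroup.zpowers f := by
  haveI : Fact (Nat.Prime 5) := ⟨by norm_num⟩
  have hG := order_eq_j2 h
  obtain ⟨f, hf⟩ := exists_prime_orderOf_dvd_card' (G := K) 5 (by rw [g.card_K h c]; norm_num)
  rw [← Subgroup.orderOf_coe] at hf
  obtain ⟨hcard, hinv, hφ⟩ := g.cent_odd h c R (p := 5) (by norm_num) f.2 hf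
  obtain ⟨P1, hP1⟩ := (show IsPGroup 5 (Subgroup.zpowers (f : G)) from
    IsPGroup.of_card (n := 1) (by rw [Nat.card_zpowers, hf, pow_one])).exists_le_sylow
  obtain ⟨h25, hab⟩ := sylow_five_card hG P1
  have hle : (P1 : Subgroup G) ≤ Subgroup.centralizer ({(f : G)} : Set G) := fun y hy =>
    Subgroup.mem_centralizer_singleton_iff.mpr (hab _ hy _ (hP1 (Subgroup.mem_zpowers _)))
  have h300 : Nat.card (Subgroup.centralizer ({(f : G)} : Set G)) = 60 * 5 := by
    have := Subgroup.card_dvd_of_le hle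
    rw [h25] at this
    rcases hcard with e | e
    · rw [e] at this; norm_num at this
    · exact e
  obtain ⟨φ, hφs, hφk⟩ := hφ h300
  obtain ⟨k, hk⟩ := MulAction.exists_smul_eq G P1 P
  refine ⟨k * f * k⁻¹, ?_, ?_, ?_, ?_⟩
  · rw [← hk, Sylow.coe_subgroup_smul]
    exact ⟨f, hP1 (Subgroup.mem_zpowers _), rfl⟩
  · exact (orderOf_injective (MulAut.conj k).toMonoidHom (MulAut.conj k).injective (f : G)).trans hf
  · intro u hu hcu huz
    have hu2 := sq_of_two hu
    have hmem : k⁻¹ * u * k ∈ Subgroup.centralizer ({(f : G)} : Set G) := by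
      refine Subgroup.mem_centralizer_singleton_iff.mpr ?_
      calc k⁻¹ * u * k * f = k⁻¹ * (u * (k * f * k⁻¹)) * k := by group
        _ = f * (k⁻¹ * u * k) := by rw [hcu]; group
    have ho : orderOf (k⁻¹ * u * k) = 2 := orderOf_two_iff'.mpr
      ⟨by rw [show k⁻¹ * u * k * (k⁻¹ * u * k) = k⁻¹ * (u * u) * k by group, hu2.1, mul_one, inv_mul_cancel],
        fun e => hu2.2 (by
          have e' := congrArg (fun s => k * s * k⁻¹) e
          simpa [mul_assoc] using e')⟩
    obtain ⟨y, -, hy⟩ := hinv _ hmem ho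
    exact h.outside_not_conj g.tC g.t2 g.tQ
      (((isConj_iff.mpr ⟨y, hy⟩).trans (isConj_iff.mpr ⟨k, by group⟩)).trans huz)
  · let e : Subgroup.centralizer ({k * (f : G) * k⁻¹} : Set G) →* Subgroup.centralizer ({(f : G)} : Set G) :=
      MonoidHom.mk' (fun y => ⟨k⁻¹ * y * k, Subgroup.mem_centralizer_singleton_iff.mpr (by
        calc k⁻¹ * (y : G) * k * f = k⁻¹ * ((y : G) * (k * f * k⁻¹)) * k := by group
          _ = f * (k⁻¹ * y * k) := by rw [Subgroup.mem_centralizer_singleton_iff.mp y.2]; group)⟩)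
        fun y y' => Subtype.ext (show k⁻¹ * ((y : G) * y') * k = k⁻¹ * y * k * (k⁻¹ * y' * k) by group)
    refine ⟨φ.comp e, fun w => ?_, fun y => ?_⟩
    · obtain ⟨y, hy⟩ := hφs w
      refine ⟨⟨k * y * k⁻¹, Subgroup.mem_centralizer_singleton_iff.mpr (by
        rw [conj_mul, conj_mul, Subgroup.mem_centralizer_singleton_iff.mp y.2])⟩, ?_⟩
      rw [MonoidHom.comp_apply, ← hy]
      exact congrArg φ (Subtype.ext (show k⁻¹ * (k * (y : G) * k⁻¹) * k = y by group))
    · rw [MonoidHom.comp_apply, hφk]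
      show k⁻¹ * (y : G) * k ∈ _ ↔ _
      simp only [Subgroup.mem_zpowers_iff, conj_zpow]
      refine exists_congr fun i => ⟨fun e' => by rw [e']; group, fun e' => by rw [← e']; group⟩

/-- A Sylow subgroup for five is its own centralizer, and meets its normalizer in the centralizer in order fifty. -/
theorem five_local [Finite G] (hG : Nat.card G = 604800) (P : Sylow 5 G) {f : G} (hfP : f ∈ (P : Subgroup G))
    (hf : orderOf f = 5) (φ : Subgroup.centralizer ({f} : Set G) →* alternatingGroup (Fin 5))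
    (hφs : Function.Surjective φ) (hφk : ∀ y, φ y = 1 ↔ (y : G) ∈ Subgroup.zpowers f) :
    Subgroup.centralizer ((P : Subgroup G) : Set G) = P ∧
      Nat.card (Subgroup.normalizer ((P : Subgroup G) : Set G) ⊓ Subgroup.centralizer ({f} : Set G) : Subgroup G) = 50 := by
  obtain ⟨h25, hab⟩ := sylow_five_card hG P
  revert φ
  set C := Subgroup.centralizer ({f} : Set G) with hC
  intro φ hφs hφk
  have hPC : (P : Subgroup G) ≤ C := fun y hy => Subgroup.mem_centralizer_singleton_iff.mpr (hab _ hy _ hfP)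
  obtain ⟨p, hp, hpn⟩ := SetLike.exists_of_lt (lt_of_le_of_ne (Subgroup.zpowers_le.mpr hfP) fun e => by
    rw [← e, Nat.card_zpowers, hf] at h25; omega)
  set w0 := φ ⟨p, hPC hp⟩ with hw0
  have hw1 : w0 ≠ 1 := fun e => hpn ((hφk ⟨p, hPC hp⟩).mp e)
  have hw5' : w0 ^ 5 = 1 := by
    have hA : Nat.card (alternatingGroup (Fin 5)) = 60 := by rw [nat_card_alternatingGroup, Nat.card_fin]; rfl
    have h1 : orderOf w0 ∣ 25 := by
      refine (orderOf_map_dvd φ _).trans ?_
      rw [Subgroup.orderOf_mk, ← h25]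
      exact Subgroup.orderOf_dvd_natCard _ hp
    have h2 : orderOf w0 ∣ 60 := hA ▸ orderOf_dvd_natCard w0
    exact orderOf_dvd_iff_pow_eq_one.mp (Nat.dvd_gcd h1 h2)
  have hw5 : w0 * w0 * w0 * w0 * w0 = 1 := by simpa [pow_succ] using hw5'
  have hpre : ∀ y : C, φ y ∈ Subgroup.zpowers w0 → (y : G) ∈ (P : Subgroup G) := by
    intro y hy
    obtain ⟨i, hi⟩ := Subgroup.mem_zpowers_iff.mp hy
    have h1 : φ ((⟨p, hPC hp⟩ : C) ^ (-i) * y) = 1 := by rw [map_mul, map_zpow, zpow_neg, ← hw0, hi, inv_mul_cancel]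
    have h2 := Subgroup.zpowers_le.mpr hfP ((hφk _).mp h1)
    push_cast at h2
    exact ((P : Subgroup G).mul_mem_cancel_left (Subgroup.zpow_mem _ hp _)).mp h2
  have hcomm : ∀ y : C, (y : G) * p = p * y → (y : G) ∈ (P : Subgroup G) := by
    intro y hy
    refine hpre y ((inPowFive_iff hw5).mp ?_)
    have h2 : w0 * w0 ≠ 1 := fun e => hw1 (by
      have : w0 * w0 * w0 * w0 * w0 = w0 := by rw [e, one_mul, e, one_mul]
      rwa [this] at hw5)
    rcases a5_cent_prime w0 h2 (φ y) (by
      rw [hw0, ← map_mul, ← map_mul]; exact congrArg φ (Subtype.ext hy)) with e | e | e | e | e <;>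
      simp [inPowFive, e]
  constructor
  · refine le_antisymm (fun y hy => ?_) fun y hy => Subgroup.mem_centralizer_iff.mpr fun b hb => hab b hb y hy
    have hyC : y ∈ C := Subgroup.mem_centralizer_singleton_iff.mpr (Subgroup.mem_centralizer_iff.mp hy f hfP).symm
    exact hcomm ⟨y, hyC⟩ (Subgroup.mem_centralizer_iff.mp hy p hp).symm
  obtain ⟨w, hwn, hwc, hwall⟩ := a5_five_norm w0 hw1 hw5
  obtain ⟨s, hs⟩ := hφs w
  have himg : ∀ q : C, (q : G) ∈ (P : Subgroup G) → φ q ∈ Subgroup.zpowers w0 := by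
    intro q hq
    refine (inPowFive_iff hw5).mp ?_
    have h2 : w0 * w0 ≠ 1 := fun e => hw1 (by
      have : w0 * w0 * w0 * w0 * w0 = w0 := by rw [e, one_mul, e, one_mul]
      rwa [this] at hw5)
    rcases a5_cent_prime w0 h2 (φ q) (by
      rw [hw0, ← map_mul, ← map_mul]; exact congrArg φ (Subtype.ext (hab _ hq _ hp))) with e | e | e | e | e <;>
      simp [inPowFive, e]
  have hsN : (s : G) ∈ Subgroup.normalizer ((P : Subgroup G) : Set G) := by
    refine norm_of_conj_mem fun q hq => ?_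
    refine hpre (s * ⟨q, hPC hq⟩ * s⁻¹) ?_
    obtain ⟨i, hi⟩ := Subgroup.mem_zpowers_iff.mp (himg ⟨q, hPC hq⟩ hq)
    rw [map_mul, map_mul, map_inv, hs, ← hi, ← conj_zpow, hwc]
    exact Subgroup.zpow_mem _ (by
      repeat first
        | exact Subgroup.mem_zpowers _
        | refine Subgroup.mul_mem _ ?_ (Subgroup.mem_zpowers w0)) i
  have hsP : (s : G) ∉ (P : Subgroup G) := fun e => by
    have := (inPowFive_iff hw5).mpr (himg s e)
    rw [hs, hwn] at this
    exact Bool.noConfusion this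
  set NC := Subgroup.normalizer ((P : Subgroup G) : Set G) ⊓ C with hNC
  have hPNC : (P : Subgroup G) ≤ NC := le_inf Subgroup.le_normalizer hPC
  have hidx : ((P : Subgroup G).subgroupOf NC).index = 2 := by
    refine Subgroup.index_eq_two_iff.mpr ⟨⟨s, Subgroup.mem_inf.2 ⟨hsN, s.2⟩⟩, fun b => ?_⟩
    show Xor' ((b : G) * s ∈ (P : Subgroup G)) ((b : G) ∈ (P : Subgroup G))
    by_cases hb : (b : G) ∈ (P : Subgroup G)
    · exact Or.inr ⟨hb, fun e => hsP (((P : Subgroup G).mul_mem_cancel_left hb).mp e)⟩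
    refine Or.inl ⟨?_, hb⟩
    set bC : C := ⟨b, (Subgroup.mem_inf.mp b.2).2⟩ with hbC
    have h1 : φ bC * w0 * (φ bC)⁻¹ ∈ Subgroup.zpowers w0 := by
      rw [hw0, ← map_inv, ← map_mul, ← map_mul]
      exact himg _ ((Subgroup.mem_normalizer_iff.mp (Subgroup.mem_inf.mp b.2).1 p).mp hp)
    have h2 := hwall (φ bC) ((inPowFive_iff hw5).mpr h1)
    rw [Bool.or_eq_true] at h2
    rcases h2 with e | e
    · exact absurd (hpre bC ((inPowFive_iff hw5).mp e)) hb
    · exact hpre (bC * s) (by rw [map_mul, hs]; exact (inPowFive_iff hw5).mp e)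
  have := ((P : Subgroup G).subgroupOf NC).card_mul_index
  rw [hidx, Nat.card_congr (Subgroup.subgroupOfEquivOfLe hPNC).toEquiv, h25] at this
  exact this.symm

/-- The centralizer of an element of order five in the involution centralizer. -/
theorem cent_five_z [Finite G] (h : Setting z Q) {k : G} (hk : k ∈ Subgroup.centralizer ({z} : Set G))
    (hk5 : orderOf k = 5) (P : Sylow 5 G) (hkP : k ∈ (P : Subgroup G))
    (hCP : Subgroup.centralizer ((P : Subgroup G) : Set G) = P) :
    Nat.card (Subgroup.centralizer ({k} : Set G)) = 50 ∧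
      Subgroup.centralizer ({k} : Set G) ≤ Subgroup.normalizer ((P : Subgroup G) : Set G) := by
  classical
  haveI : Fact (Nat.Prime 2) := ⟨Nat.prime_two⟩
  haveI : Fact (Nat.Prime 5) := ⟨by norm_num⟩
  have hG := order_eq_j2 h
  obtain ⟨h25, hab⟩ := sylow_five_card hG P
  obtain ⟨M⟩ := h.toCore.model
  set X := Subgroup.centralizer ({k} : Set G) with hX
  have hzX : z ∈ X := Subgroup.mem_centralizer_singleton_iff.mpr (h.toCore.cz hk).symm
  have hkX : k ∈ X := Subgroup.mem_centralizer_singleton_iff.mpr rfl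
  have hk1 : k ^ 5 = 1 := hk5 ▸ pow_orderOf_eq_one k
  have hcz : ∀ y ∈ X, y * z = z * y → ∃ i : ℕ, y = k ^ i ∨ y = k ^ i * z := by
    intro y hy hyz
    set kC : Subgroup.centralizer ({z} : Set G) := ⟨k, hk⟩
    set yC : Subgroup.centralizer ({z} : Set G) := ⟨y, Subgroup.mem_centralizer_singleton_iff.mpr hyz⟩
    have hk0 : k * k * k * k * k = 1 := by simpa [pow_succ] using hk1
    have hc5 : M.ptA kC * M.ptA kC * M.ptA kC * M.ptA kC * M.ptA kC = 1 := by
      simp only [← map_mul]
      rw [show kC * kC * kC * kC * kC = 1 from Subtype.ext hk0, map_one]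
    have hc2 : M.ptA kC * M.ptA kC ≠ 1 := fun e => by
      rw [← map_mul, M.ptA_ker] at e
      obtain ⟨j, hj⟩ := IsPGroup.iff_orderOf.mp h.toCore.card_two_pow ⟨_, e⟩
      rw [Subgroup.orderOf_mk] at hj
      have h5 : orderOf (k * k) = 5 := by rw [← pow_two, (show orderOf k |>.Coprime 2 by rw [hk5]; norm_num).orderOf_pow, hk5]
      change orderOf (k * k) = 2 ^ j at hj
      rw [h5] at hj
      have : 5 ∣ 2 := Nat.Prime.dvd_of_dvd_pow (by norm_num) (dvd_of_eq hj)
      omega
    have hmem : M.ptA yC ∈ Subgroup.zpowers (M.ptA kC) := by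
      refine (inPowFive_iff hc5).mp ?_
      rcases a5_cent_prime _ hc2 (M.ptA yC) (by
        rw [← map_mul, ← map_mul]
        exact congrArg M.ptA (Subtype.ext (Subgroup.mem_centralizer_singleton_iff.mp hy))) with e | e | e | e | e <;>
        simp [inPowFive, e]
    obtain ⟨i, hi⟩ : ∃ i : ℕ, M.ptA kC ^ i = M.ptA yC := inPowFive_iff.mem_zpowers_iff_exists_nat_pow _ hmem
    have hq : (k ^ i)⁻¹ * y ∈ Q := (M.ptA_ker ((kC ^ i)⁻¹ * yC)).mp (by
      rw [map_mul, map_inv, map_pow, hi, inv_mul_cancel])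
    refine ⟨i, ?_⟩
    rcases h.toCore.fix_five hk hk5 hq (((Commute.refl k).pow_right i).inv_right.mul_right
      (show Commute k y from (Subgroup.mem_centralizer_singleton_iff.mp hy).symm)).eq with e | e
    · exact Or.inl (inv_mul_eq_one.mp e).symm
    · exact Or.inr (inv_mul_eq_iff_eq_mul.mp e)
  -- the Sylow two-subgroup of the centralizer
  set zX : X := ⟨z, hzX⟩
  have hzX2 : orderOf zX = 2 := by rw [Subgroup.orderOf_mk, h.hz]
  obtain ⟨P2, hP2⟩ := (show IsPGroup 2 (Subgroup.zpowers zX) from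
    IsPGroup.of_card (n := 1) (by rw [Nat.card_zpowers, hzX2, pow_one])).exists_le_sylow
  have hP2eq : (P2 : Subgroup X) = Subgroup.zpowers zX := by
    by_contra hne
    have hlt : (Subgroup.zpowers zX).subgroupOf P2 < ⊤ :=
      lt_top_iff_ne_top.mpr fun e => hne (le_antisymm (Subgroup.subgroupOf_eq_top.mp e) hP2)
    obtain ⟨⟨n, hnP⟩, hnN, hnS⟩ :=
      SetLike.exists_of_lt (Group.normalizerCondition_of_isNilpotent (h := P2.2.isNilpotent) _ hlt)
    refine hnS ?_
    show n ∈ Subgroup.zpowers zX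
    have hfix : n * zX * n⁻¹ ∈ Subgroup.zpowers zX :=
      (Subgroup.mem_normalizer_iff.mp hnN ⟨zX, hP2 (Subgroup.mem_zpowers _)⟩).mp (Subgroup.mem_zpowers zX)
    obtain ⟨j, hj⟩ := Subgroup.mem_zpowers_iff.mp hfix
    have hj1 : n * zX * n⁻¹ = zX := by
      rw [← hj]
      rcases Int.even_or_odd' j with ⟨m, rfl | rfl⟩
      · exfalso
        rw [zpow_mul, zpow_two, show zX * zX = 1 from Subtype.ext h.z_sq, one_zpow, eq_comm, mul_inv_eq_one,
          mul_eq_left] at hj
        rw [hj, orderOf_one] at hzX2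
        omega
      · rw [zpow_add, zpow_mul, zpow_two, show zX * zX = 1 from Subtype.ext h.z_sq, one_zpow, one_mul, zpow_one]
    obtain ⟨i, hi⟩ := hcz n n.2 (congrArg Subtype.val (mul_inv_eq_iff_eq_mul.mp hj1))
    obtain ⟨l, hl⟩ := IsPGroup.iff_orderOf.mp P2.2 ⟨n, hnP⟩
    rw [Subgroup.orderOf_mk, ← Subgroup.orderOf_coe] at hl
    have hki : k ^ i = 1 := by
      refine orderOf_eq_one_iff.mp (Nat.eq_one_of_dvd_coprimes
        (show Nat.Coprime 5 (2 ^ (l + 1)) from Nat.Coprime.pow_right _ (by norm_num))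
        (hk5 ▸ orderOf_pow_dvd i) (orderOf_dvd_of_pow_eq_one ?_))
      have hcomm : Commute (k ^ i) z := (show Commute k z from h.toCore.cz hk).pow_left i
      have hz2 : z ^ 2 ^ (l + 1) = 1 := by rw [pow_succ', pow_mul, pow_two, h.z_sq, one_pow]
      have hn2 : (n : G) ^ 2 ^ (l + 1) = 1 := by
        rw [pow_succ, pow_mul, ← hl, pow_orderOf_eq_one, one_pow]
      rcases hi with e | e
      · rw [← e]; exact hn2
      · rwa [e, hcomm.mul_pow, hz2, mul_one] at hn2
    rcases hi with e | e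
    · rw [show n = 1 from Subtype.ext (e.trans hki)]; exact one_mem _
    · rw [show n = zX from Subtype.ext (e.trans (by rw [hki, one_mul]))]; exact Subgroup.mem_zpowers _
  have hP2N : Subgroup.normalizer ((P2 : Subgroup X) : Set X) ≤ Subgroup.centralizer ((P2 : Subgroup X) : Set X) := by
    rw [hP2eq]
    intro n hn
    have hconj := (Subgroup.mem_normalizer_iff.mp hn zX).mp (Subgroup.mem_zpowers _)
    obtain ⟨j, hj⟩ := Subgroup.mem_zpowers_iff.mp hconj
    have hj1 : n * zX * n⁻¹ = zX := by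
      rw [← hj]
      rcases Int.even_or_odd' j with ⟨m, rfl | rfl⟩
      · exfalso
        rw [zpow_mul, zpow_two, show zX * zX = 1 from Subtype.ext h.z_sq, one_zpow, eq_comm, mul_inv_eq_one,
          mul_eq_left] at hj
        rw [hj, orderOf_one] at hzX2
        omega
      · rw [zpow_add, zpow_mul, zpow_two, show zX * zX = 1 from Subtype.ext h.z_sq, one_zpow, one_mul, zpow_one]
    refine Subgroup.mem_centralizer_iff.mpr fun b hb => ?_
    obtain ⟨l, rfl⟩ := Subgroup.mem_zpowers_iff.mp hb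
    exact (((show Commute n zX from mul_inv_eq_iff_eq_mul.mp hj1).zpow_right l).eq).symm
  set O := (MonoidHom.transferSylow P2 hP2N).ker with hO
  have hcompl := MonoidHom.ker_transferSylow_isComplement' P2 hP2N
  have hOidx : O.index = 2 := by
    rw [hcompl.symm.index_eq_card, hP2eq, Nat.card_zpowers, hzX2]
  have hOodd : ∀ o ∈ O, orderOf o ≠ 2 := fun o ho e =>
    MonoidHom.not_dvd_card_ker_transferSylow P2 hP2N ((dvd_of_eq e.symm).trans (Subgroup.orderOf_dvd_natCard _ ho))
  have hOmem : ∀ {y : X}, y ^ 25 = 1 → y ∈ O := fun {y} hy => by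
    have h2 := Subgroup.mul_self_mem_of_index_two hOidx y
    have := pow_mem h2 13
    rwa [← pow_two, ← pow_mul, show 2 * 13 = 25 + 1 from rfl, pow_succ, hy, one_mul] at this
  set F : Subgroup O := ((Subgroup.zpowers k).subgroupOf X).subgroupOf O with hF
  have hFmem : ∀ {o : O}, o ∈ F ↔ ((o : X) : G) ∈ Subgroup.zpowers k := fun {o} => Iff.rfl
  have hFc : ∀ (w : O), w ∈ F → ∀ y ∈ X, y * ((w : X) : G) = ((w : X) : G) * y := fun w hw y hy => by
    obtain ⟨i, hi⟩ := Subgroup.mem_zpowers_iff.mp (hFmem.mp hw)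
    rw [← hi]
    exact ((show Commute y k from Subgroup.mem_centralizer_singleton_iff.mp hy).zpow_right i).eq
  haveI : F.Normal := ⟨fun w hw y => hFmem.mpr (by
    push_cast
    rw [hFc w hw _ (y : X).2, mul_inv_cancel_right]
    exact hFmem.mp hw)⟩
  have hOn : O.Normal := inferInstance
  let β : O →* O := MonoidHom.mk' (fun o => ⟨zX * o * zX⁻¹, hOn.conj_mem o o.2 zX⟩)
    fun o o' => Subtype.ext (conj_mul).symm
  have hβF : F ≤ F.comap β := fun w hw => hFmem.mpr (by
    show z * ((w : X) : G) * z⁻¹ ∈ _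
    rw [hFc w hw z hzX, mul_inv_cancel_right]
    exact hFmem.mp hw)
  set βq : O ⧸ F →* O ⧸ F := QuotientGroup.map F F β hβF with hβq
  have hinvo : Function.Involutive βq := fun w => by
    induction w using QuotientGroup.induction_on with
    | H o =>
      rw [hβq, QuotientGroup.map_mk, QuotientGroup.map_mk]
      refine congrArg _ (Subtype.ext (Subtype.ext ?_))
      show z * (z * ((o : X) : G) * z⁻¹) * z⁻¹ = ((o : X) : G)
      rw [inv_eq_of_mul_eq_one_right h.z_sq, show z * (z * ((o : X) : G) * z) * z = z * z * ((o : X) : G) * (z * z) by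
        simp only [mul_assoc], h.z_sq, one_mul, mul_one]
  have hfpf : MonoidHom.FixedPointFree βq := fun w hw => by
    induction w using QuotientGroup.induction_on with
    | H o =>
      rw [hβq, QuotientGroup.map_mk, QuotientGroup.eq, hFmem] at hw
      rw [QuotientGroup.eq_one_iff, hFmem]
      set y := ((o : X) : G) with hy
      change (z * y * z⁻¹)⁻¹ * y ∈ _ at hw
      obtain ⟨i, hi⟩ := Subgroup.mem_zpowers_iff.mp hw
      have hzk : Commute z (k ^ i) := (show Commute z k from (h.toCore.cz hk).symm).zpow_right i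
      have hyk : Commute y (k ^ i) := (show Commute y k from Subgroup.mem_centralizer_singleton_iff.mp (o : X).2).zpow_right i
      have e1 : y = z * y * z⁻¹ * k ^ i := by rw [hi, mul_inv_cancel_left]
      have e2 : z * y * z⁻¹ = y * k ^ i := by
        conv_lhs => rw [e1]
        rw [show z * (z * y * z⁻¹ * k ^ i) * z⁻¹ = z * z * y * z⁻¹ * (k ^ i * z⁻¹) by group, h.z_sq, one_mul,
          ← hzk.inv_left.eq, show y * z⁻¹ * (z⁻¹ * k ^ i) = y * (z * z)⁻¹ * k ^ i by group, h.z_sq, inv_one, mul_one]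
      have e3 : k ^ i = 1 := by
        have h2 : k ^ i * k ^ i = 1 := by
          rw [e2, mul_assoc] at e1
          exact mul_eq_left.mp e1.symm
        rw [← zpow_add] at h2
        have hd := orderOf_dvd_iff_zpow_eq_one.mpr h2
        rw [hk5] at hd
        refine orderOf_dvd_iff_zpow_eq_one.mp ?_
        rw [hk5]
        omega
      rw [e3, mul_one] at e2
      obtain ⟨n, hn | hn⟩ := hcz y (o : X).2 (mul_inv_eq_iff_eq_mul.mp e2).symm
      · rw [hn]; exact pow_mem (Subgroup.mem_zpowers k) n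
      · exfalso
        have hz' : zX ∈ O := by
          have hkO : (⟨k, hkX⟩ : X) ∈ O := hOmem (Subtype.ext (by
            push_cast
            rw [show 25 = 5 * 5 from rfl, pow_mul, hk1, one_pow]))
          have : (⟨k, hkX⟩ : X) ^ n * zX ∈ O := by
            convert o.2 using 1
            exact Subtype.ext (by push_cast; exact hn.symm)
          exact (O.mul_mem_cancel_left (pow_mem hkO n)).mp this
        exact hOodd zX hz' hzX2
  have hinvq := hfpf.coe_eq_inv_of_involutive hinvo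
  -- the Sylow subgroup for five is normal in the centralizer
  have hPX : (P : Subgroup G) ≤ X := fun y hy => Subgroup.mem_centralizer_singleton_iff.mpr (hab _ hy _ hkP)
  have hkle : Subgroup.zpowers k ≤ (P : Subgroup G) := Subgroup.zpowers_le.mpr hkP
  have hp25 : ∀ p ∈ (P : Subgroup G), p ^ 25 = 1 := fun p hp =>
    orderOf_dvd_iff_pow_eq_one.mp (h25 ▸ Subgroup.orderOf_dvd_natCard _ hp)
  have hpO : ∀ p (hp : p ∈ (P : Subgroup G)), (⟨p, hPX hp⟩ : X) ∈ O := fun p hp =>
    hOmem (Subtype.ext (by push_cast; exact hp25 p hp))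
  have hcom : ∀ (o : O) (p : G) (hp : p ∈ (P : Subgroup G)),
      ((o : X) : G) * p * ((o : X) : G)⁻¹ * p⁻¹ ∈ Subgroup.zpowers k := by
    intro o p hp
    have e := (hfpf.commute_all_of_involutive hinvo (QuotientGroup.mk o)
      (QuotientGroup.mk (⟨_, hpO p hp⟩ : O))).eq
    have e' : ((o * ⟨_, hpO p hp⟩ * o⁻¹ * (⟨_, hpO p hp⟩ : O)⁻¹ : O) : O ⧸ F) = 1 := by
      rw [QuotientGroup.mk_mul, QuotientGroup.mk_mul, QuotientGroup.mk_mul, QuotientGroup.mk_inv, QuotientGroup.mk_inv,
        e, mul_inv_cancel_right, mul_inv_cancel]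
    exact hFmem.mp ((QuotientGroup.eq_one_iff _).mp e')
  have hnormO : ∀ o : O, ((o : X) : G) ∈ Subgroup.normalizer ((P : Subgroup G) : Set G) := fun o =>
    norm_of_conj_mem fun p hp => by
      have := (P : Subgroup G).mul_mem (hkle (hcom o p hp)) hp
      rwa [inv_mul_cancel_right] at this
  have hnormz : z ∈ Subgroup.normalizer ((P : Subgroup G) : Set G) := norm_of_conj_mem fun p hp => by
    have e := congrFun hinvq (QuotientGroup.mk (⟨_, hpO p hp⟩ : O))
    rw [hβq, QuotientGroup.map_mk, ← QuotientGroup.mk_inv, QuotientGroup.eq, hFmem] at e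
    change (z * p * z⁻¹)⁻¹ * p⁻¹ ∈ _ at e
    have := (P : Subgroup G).mul_mem ((P : Subgroup G).mul_mem (inv_mem hp) (inv_mem (hkle e))) (one_mem _)
    rwa [mul_one, show p⁻¹ * ((z * p * z⁻¹)⁻¹ * p⁻¹)⁻¹ = z * p * z⁻¹ by group] at this
  have hOP : ∀ o : O, ((o : X) : G) ∈ (P : Subgroup G) := by
    intro o
    set y := ((o : X) : G) with hy
    have hy5 : y ^ 5 ∈ (P : Subgroup G) := by
      rw [← hCP]
      refine Subgroup.mem_centralizer_iff.mpr fun p hp => ?_
      obtain ⟨i, hi⟩ := Subgroup.mem_zpowers_iff.mp (hcom o p hp)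
      have hyk : Commute y (k ^ i) := (show Commute y k from Subgroup.mem_centralizer_singleton_iff.mp (o : X).2).zpow_right i
      have hind : ∀ n : ℕ, y ^ n * p * (y ^ n)⁻¹ = (k ^ i) ^ n * p := by
        intro n
        induction n with
        | zero => simp
        | succ n ih =>
          rw [pow_succ' y, show y * y ^ n * p * (y * y ^ n)⁻¹ = y * (y ^ n * p * (y ^ n)⁻¹) * y⁻¹ by group, ih,
            show y * ((k ^ i) ^ n * p) * y⁻¹ = (y * (k ^ i) ^ n * y⁻¹) * (y * p * y⁻¹ * p⁻¹) * p by group, ← hi,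
            (hyk.pow_right n).eq, mul_inv_cancel_right, ← pow_succ]
      have h5 := hind 5
      rw [← zpow_natCast (k ^ i) 5, ← zpow_mul, mul_comm, zpow_mul, zpow_natCast, hk1, one_zpow, one_mul] at h5
      exact (mul_inv_eq_iff_eq_mul.mp h5).symm
    have hyP : IsPGroup 5 (Subgroup.zpowers y) := by
      have h125 : y ^ 125 = 1 := by
        rw [show 125 = 5 * 25 from rfl, pow_mul]
        exact hp25 _ hy5
      obtain ⟨j, -, hj⟩ := (Nat.dvd_prime_pow (show Nat.Prime 5 by norm_num)).mp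
        (show orderOf y ∣ 5 ^ 3 from orderOf_dvd_of_pow_eq_one (by simpa using h125))
      exact IsPGroup.of_card (n := j) (by rw [Nat.card_zpowers, hj])
    have hsup := hyP.to_sup_of_normal_right' P.2 (Subgroup.zpowers_le.mpr (hnormO o))
    rw [← P.3 hsup le_sup_right]
    exact Subgroup.mem_sup_left (Subgroup.mem_zpowers y)
  constructor
  · have := O.card_mul_index
    rw [hOidx] at this
    rw [← this, show Nat.card O = 25 from ?_]
    rw [← h25]
    exact Nat.card_congr
      { toFun := fun o => ⟨_, hOP o⟩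
        invFun := fun p => ⟨_, hpO p p.2⟩
        left_inv := fun o => rfl
        right_inv := fun p => rfl }
  · intro y hy
    obtain ⟨⟨o, s⟩, e⟩ := hcompl.2 ⟨y, hy⟩
    have e' : ((o : X) : G) * ((s : X) : G) = y := congrArg Subtype.val e
    rw [← e']
    refine mul_mem (hnormO o) ?_
    have hs : (s : X) ∈ Subgroup.zpowers zX := by rw [← hP2eq]; exact s.2
    obtain ⟨j, hj⟩ := Subgroup.mem_zpowers_iff.mp hs
    rw [← hj]
    push_cast
    exact zpow_mem hnormz j

set_option maxHeartbeats 1000000 in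
/-- The Sylow five-structure. -/
theorem five_main [Finite G] (h : Setting z Q) (P : Sylow 5 G) :
    Subgroup.centralizer ((P : Subgroup G) : Set G) = P ∧ Nat.card P = 25 ∧
      Nat.card (Subgroup.normalizer ((P : Subgroup G) : Set G)) = 300 ∧
      ∃ X Y : Subgroup G, Nat.card X = 5 ∧ Nat.card Y = 5 ∧ (∀ g : G, X.map (MulAut.conj g).toMonoidHom ≠ Y) ∧
        ∀ W : Subgroup G, Nat.card W = 5 →
          ∃ g : G, W.map (MulAut.conj g).toMonoidHom = X ∨ W.map (MulAut.conj g).toMonoidHom = Y := by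
  classical
  haveI : Fact (Nat.Prime 5) := ⟨by norm_num⟩
  haveI : Fact (Nat.Prime 3) := ⟨Nat.prime_three⟩
  obtain ⟨t, x, σ, r, g⟩ := h.exists_good
  obtain ⟨K, c⟩ := g.exists_comp h
  obtain ⟨a, R⟩ := g.exists_rot h c
  have hG := order_eq_j2 h
  have hcentall : ∀ S : Sylow 5 G, Subgroup.centralizer ((S : Subgroup G) : Set G) = S := fun S => by
    obtain ⟨f, hfS, hf, -, φ, hφs, hφk⟩ := five_f g h c R S
    exact (five_local hG S hfS hf φ hφs hφk).1
  refine ⟨hcentall P, (sylow_five_card hG P).1, ?_⟩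
  obtain ⟨k, hk, hk5⟩ := h.toCore.exists_five
  obtain ⟨S, hS⟩ := (show IsPGroup 5 (Subgroup.zpowers k) from
    IsPGroup.of_card (n := 1) (by rw [Nat.card_zpowers, hk5, pow_one])).exists_le_sylow
  have hkS : k ∈ (S : Subgroup G) := hS (Subgroup.mem_zpowers k)
  obtain ⟨hS25, -⟩ := sylow_five_card hG S
  obtain ⟨f, hfS, hf, hfz, φ, hφs, hφk⟩ := five_f g h c R S
  obtain ⟨hCS, hNf⟩ := five_local hG S hfS hf φ hφs hφk
  obtain ⟨hCk, hCkN⟩ := cent_five_z h hk hk5 S hkS hCS
  set N := Subgroup.normalizer ((S : Subgroup G) : Set G) with hN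
  have hkz : z ∈ Subgroup.centralizer ({k} : Set G) :=
    Subgroup.mem_centralizer_singleton_iff.mpr (h.toCore.cz hk).symm
  have hsep : ∀ (y : G) (i j : ℕ), i % 5 ≠ 0 → y * k ^ i * y⁻¹ ≠ f ^ j := by
    intro y i j hi e
    have hfj : orderOf (f ^ j) = 5 := by
      rw [← e]
      refine (orderOf_injective (MulAut.conj y).toMonoidHom (MulAut.conj y).injective _).trans ?_
      rw [Nat.Coprime.orderOf_pow (by rw [hk5]; exact (Nat.Prime.coprime_iff_not_dvd (by norm_num)).mpr (by omega)), hk5]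
    have hj : ¬ 5 ∣ j := fun hd => by
      rw [orderOf_dvd_iff_pow_eq_one.mp (hf ▸ hd), orderOf_one] at hfj
      omega
    obtain ⟨m, hm⟩ := exists_pow_eq_self_of_coprime (x := f) (n := j)
      (by rw [hf]; exact ((Nat.Prime.coprime_iff_not_dvd (by norm_num)).mpr hj).symm)
    refine hfz (y * z * y⁻¹) ((orderOf_injective (MulAut.conj y).toMonoidHom (MulAut.conj y).injective z).trans h.hz) ?_
      (isConj_iff.mpr ⟨y⁻¹, by group⟩)
    have hc : Commute (y * z * y⁻¹) (f ^ j) := by
      rw [← e]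
      show y * z * y⁻¹ * (y * k ^ i * y⁻¹) = y * k ^ i * y⁻¹ * (y * z * y⁻¹)
      rw [conj_mul, conj_mul, ((show Commute z k from (h.toCore.cz hk).symm).pow_right i).eq]
    have := (hc.pow_right m).eq
    rwa [hm] at this
  have hkinf : N ⊓ Subgroup.centralizer ({k} : Set G) = Subgroup.centralizer ({k} : Set G) :=
    inf_eq_right.mpr hCkN
  have hsub : ∀ e ∈ (S : Subgroup G), orderOf e = 5 →
      (Set.range fun n : N => (n : G) * e * (n : G)⁻¹) ⊆ ((S : Subgroup G) : Set G) \ {1} := by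
    rintro e he he5 _ ⟨n, rfl⟩
    refine ⟨(Subgroup.mem_normalizer_iff.mp n.2 e).mp he, fun e1 => ?_⟩
    rw [Set.mem_singleton_iff, mul_inv_eq_one, mul_eq_left] at e1
    rw [e1, orderOf_one] at he5
    omega
  have ok := conj_orbit_card N k
  have of' := conj_orbit_card N f
  rw [hkinf, hCk] at ok
  rw [hNf] at of'
  have hdisj : Disjoint (Set.range fun n : N => (n : G) * k * (n : G)⁻¹) (Set.range fun n : N => (n : G) * f * (n : G)⁻¹) := by
    rw [Set.disjoint_left]
    rintro _ ⟨n, rfl⟩ ⟨n', e⟩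
    refine hsep ((n' : G)⁻¹ * n) 1 1 (by norm_num) ?_
    change (n' : G) * f * (n' : G)⁻¹ = (n : G) * k * (n : G)⁻¹ at e
    rw [pow_one, pow_one, show (n' : G)⁻¹ * n * k * ((n' : G)⁻¹ * n)⁻¹ = (n' : G)⁻¹ * ((n : G) * k * (n : G)⁻¹) * n' by group, ← e]
    group
  have hbound : Nat.card (Set.range fun n : N => (n : G) * k * (n : G)⁻¹) +
      Nat.card (Set.range fun n : N => (n : G) * f * (n : G)⁻¹) ≤ 24 := by
    rw [Nat.card_coe_set_eq, Nat.card_coe_set_eq, ← Set.ncard_union_eq hdisj]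
    refine (Set.ncard_le_ncard (Set.union_subset (hsub k hkS hk5) (hsub f hfS hf))).trans (le_of_eq ?_)
    rw [Set.ncard_sdiff_singleton_of_mem (one_mem (S : Subgroup G)), ← Nat.card_coe_set_eq]
    show Nat.card S - 1 = 24
    rw [hS25]
  set m := Nat.card (Set.range fun n : N => (n : G) * k * (n : G)⁻¹) with hm
  have hmf : Nat.card (Set.range fun n : N => (n : G) * f * (n : G)⁻¹) = m := by omega
  have hidx := N.card_mul_index
  rw [hG] at hidx
  have hmod : N.index % 5 = 1 := by
    have h1 := card_sylow_modEq_one 5 G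
    rw [S.card_eq_index_normalizer] at h1
    exact h1
  rw [hmf] at hbound
  have hm6 : m = 6 := by
    have hm0 : m ≠ 0 := fun e => by rw [e, zero_mul] at ok; exact absurd ok.symm Nat.card_pos.ne'
    have hm1 : m ≠ 1 := fun e => by
      have hNle : N ⊓ Subgroup.centralizer ({f} : Set G) = N :=
        Subgroup.eq_of_le_of_card_ge inf_le_left (by rw [hNf, ← ok, e, one_mul])
      have hzN : z ∈ N := hCkN hkz
      rw [← hNle] at hzN
      exact hfz z h.hz (Subgroup.mem_centralizer_singleton_iff.mp (Subgroup.mem_inf.mp hzN).2) (IsConj.refl z)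
    rw [← ok] at hidx
    have hm12 : m ≤ 12 := by omega
    interval_cases m <;> omega
  have hN300 : Nat.card N = 300 := by rw [← ok, hm6]
  refine ⟨?_, Subgroup.zpowers k, Subgroup.zpowers f, by rw [Nat.card_zpowers, hk5], by rw [Nat.card_zpowers, hf], ?_, ?_⟩
  · have e1 := (Subgroup.normalizer ((P : Subgroup G) : Set G)).card_mul_index
    have hPi : (Subgroup.normalizer ((P : Subgroup G) : Set G)).index = N.index :=
      P.card_eq_index_normalizer.symm.trans S.card_eq_index_normalizer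
    rw [hN300] at hidx
    have hp : N.index = 2016 := by omega
    rw [hPi, hp, hG] at e1
    omega
  · intro y e
    have : y * k * y⁻¹ ∈ Subgroup.zpowers f := by
      rw [← e]; exact ⟨k, Subgroup.mem_zpowers k, rfl⟩
    obtain ⟨j, hj⟩ : ∃ j : ℕ, f ^ j = y * k * y⁻¹ := by
      simpa [Submonoid.mem_powers_iff] using mem_powers_iff_mem_zpowers.mpr this
    exact hsep y 1 j (by norm_num) (by rw [pow_one]; exact hj.symm)
  · obtain ⟨d, hd⟩ := exists_prime_orderOf_dvd_card' (G := N) 3 (by rw [hN300]; norm_num)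
    rw [← Subgroup.orderOf_coe] at hd
    have hd3 : (d : G) * d * d = 1 := by rw [← pow_three', ← hd, pow_orderOf_eq_one]
    let Φ : G → Fin 3 × Fin 4 → G := fun e p => (d : G) ^ (p.1 : ℕ) * e ^ ((p.2 : ℕ) + 1) * ((d : G) ^ (p.1 : ℕ))⁻¹
    have hΦmem : ∀ e ∈ (S : Subgroup G), orderOf e = 5 → ∀ p, Φ e p ∈ ((S : Subgroup G) : Set G) \ {1} := by
      intro e he he5 p
      refine ⟨(Subgroup.mem_normalizer_iff.mp (pow_mem d.2 _) _).mp (pow_mem he _), fun e1 => ?_⟩
      rw [Set.mem_singleton_iff, mul_inv_eq_one, mul_eq_left] at e1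
      have := Nat.le_of_dvd (Nat.succ_pos _) (orderOf_dvd_of_pow_eq_one e1)
      rw [he5] at this
      omega
    have hinj : ∀ e, orderOf e = 5 → ¬ 3 ∣ Nat.card (N ⊓ Subgroup.centralizer ({e} : Set G) : Subgroup G) →
        Function.Injective (Φ e) := by
      intro e he5 h3
      have hnofix : ∀ i m : ℕ, i % 3 ≠ 0 → ∀ l : ℕ, l % 5 ≠ 0 → (d : G) ^ i * e ^ l * ((d : G) ^ i)⁻¹ ≠ e ^ m := by
        intro i m hi l hl eq
        obtain ⟨j, hj⟩ := exists_pow_eq_self_of_coprime (x := e) (n := l)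
          (by rw [he5]; exact ((Nat.Prime.coprime_iff_not_dvd (by norm_num)).mpr (by omega)).symm)
        have h1 : (d : G) ^ i * e * ((d : G) ^ i)⁻¹ = e ^ (m * j) := by
          conv_lhs => rw [← hj]
          rw [← conj_pow, eq, ← pow_mul]
        have hc := fix_of_three (by rw [← pow_three', ← pow_mul, mul_comm, pow_mul, pow_three', hd3, one_pow]) he5 h1
        refine h3 ?_
        obtain ⟨n, hn⟩ := exists_pow_eq_self_of_coprime (x := (d : G)) (n := i)
          (by rw [hd]; exact ((Nat.Prime.coprime_iff_not_dvd Nat.prime_three).mpr (by omega)).symm)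
        have hde : (d : G) * e = e * d := by
          have := ((show Commute ((d : G) ^ i) e from hc).pow_left n).eq
          rwa [hn] at this
        exact (dvd_of_eq hd.symm).trans (Subgroup.orderOf_dvd_natCard _
          (Subgroup.mem_inf.2 ⟨d.2, Subgroup.mem_centralizer_singleton_iff.mpr hde⟩))
      intro p q eq
      change (d : G) ^ (p.1 : ℕ) * e ^ ((p.2 : ℕ) + 1) * ((d : G) ^ (p.1 : ℕ))⁻¹ =
        (d : G) ^ (q.1 : ℕ) * e ^ ((q.2 : ℕ) + 1) * ((d : G) ^ (q.1 : ℕ))⁻¹ at eq
      have h1 : p.1 = q.1 := by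
        by_contra hne
        have hne' : (p.1 : ℕ) ≠ q.1 := fun e' => hne (Fin.ext e')
        have := p.1.isLt
        have := q.1.isLt
        have := p.2.isLt
        refine hnofix ((3 - q.1) + p.1) ((q.2 : ℕ) + 1) (by omega) ((p.2 : ℕ) + 1) (by omega) ?_
        have hd' : (d : G) ^ (3 - (q.1 : ℕ)) * (d : G) ^ (q.1 : ℕ) = 1 := by
          rw [← pow_add, Nat.sub_add_cancel (by omega), pow_three', hd3]
        have hd'' : (d : G) ^ (3 - (q.1 : ℕ)) = ((d : G) ^ (q.1 : ℕ))⁻¹ := eq_inv_of_mul_eq_one_left hd'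
        rw [pow_add, hd'']
        calc _ = ((d : G) ^ (q.1 : ℕ))⁻¹ * ((d : G) ^ (p.1 : ℕ) * e ^ ((p.2 : ℕ) + 1) * ((d : G) ^ (p.1 : ℕ))⁻¹) *
              (d : G) ^ (q.1 : ℕ) := by group
          _ = _ := by rw [eq]; group
      rw [h1] at eq
      have h2 := mul_left_cancel (mul_right_cancel eq)
      rw [pow_eq_pow_iff_modEq, he5, Nat.ModEq] at h2
      have := p.2.isLt
      have := q.2.isLt
      exact Prod.ext h1 (Fin.ext (by omega))
    have hk3 : ¬ 3 ∣ Nat.card (N ⊓ Subgroup.centralizer ({k} : Set G) : Subgroup G) := by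
      rw [hkinf, hCk]; norm_num
    have hf3 : ¬ 3 ∣ Nat.card (N ⊓ Subgroup.centralizer ({f} : Set G) : Subgroup G) := by rw [hNf]; norm_num
    have hΦdisj : Disjoint (Set.range (Φ k)) (Set.range (Φ f)) := by
      rw [Set.disjoint_left]
      rintro _ ⟨p, rfl⟩ ⟨q, eq⟩
      have := p.2.isLt
      refine hsep (((d : G) ^ (q.1 : ℕ))⁻¹ * (d : G) ^ (p.1 : ℕ)) ((p.2 : ℕ) + 1) ((q.2 : ℕ) + 1) (by omega) ?_
      change (d : G) ^ (q.1 : ℕ) * f ^ ((q.2 : ℕ) + 1) * ((d : G) ^ (q.1 : ℕ))⁻¹ =
        (d : G) ^ (p.1 : ℕ) * k ^ ((p.2 : ℕ) + 1) * ((d : G) ^ (p.1 : ℕ))⁻¹ at eq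
      calc _ = ((d : G) ^ (q.1 : ℕ))⁻¹ * ((d : G) ^ (p.1 : ℕ) * k ^ ((p.2 : ℕ) + 1) * ((d : G) ^ (p.1 : ℕ))⁻¹) *
            (d : G) ^ (q.1 : ℕ) := by group
        _ = _ := by rw [← eq]; group
    have hcover : Set.range (Φ k) ∪ Set.range (Φ f) = ((S : Subgroup G) : Set G) \ {1} := by
      refine Set.eq_of_subset_of_ncard_le (Set.union_subset ?_ ?_) ?_
      · rintro _ ⟨p, rfl⟩; exact hΦmem k hkS hk5 p
      · rintro _ ⟨p, rfl⟩; exact hΦmem f hfS hf p
      · rw [Set.ncard_union_eq hΦdisj, Set.ncard_range_of_injective (hinj k hk5 hk3),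
          Set.ncard_range_of_injective (hinj f hf hf3), Set.ncard_sdiff_singleton_of_mem (one_mem (S : Subgroup G)),
          ← Nat.card_coe_set_eq]
        show Nat.card S - 1 ≤ _
        rw [hS25]
        simp
    intro W hW
    obtain ⟨T, hT⟩ := (show IsPGroup 5 W from IsPGroup.of_card (n := 1) (by rw [hW, pow_one])).exists_le_sylow
    obtain ⟨y, hy⟩ := MulAction.exists_smul_eq G T S
    set W' := W.map (MulAut.conj y).toMonoidHom with hW'
    have hW'5 : Nat.card W' = 5 := by
      rw [hW', ← Nat.card_congr (Subgroup.equivMapOfInjective W _ (MulAut.conj y).injective).toEquiv, hW]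
    have hW'S : W' ≤ (S : Subgroup G) := by
      rw [← hy, Sylow.coe_subgroup_smul]
      exact Subgroup.map_mono hT
    obtain ⟨w, hwW, hw1⟩ := W'.bot_or_exists_ne_one.resolve_left (fun e => by
      rw [e, Subgroup.card_bot] at hW'5; omega)
    have hwo : orderOf w = 5 := ((Nat.prime_five).eq_one_or_self_of_dvd _
      (hW'5 ▸ Subgroup.orderOf_dvd_natCard _ hwW)).resolve_left (fun e => hw1 (orderOf_eq_one_iff.mp e))
    have hwgen : Subgroup.zpowers w = W' :=
      Subgroup.eq_of_le_of_card_ge (Subgroup.zpowers_le.mpr hwW) (by rw [Nat.card_zpowers, hwo, hW'5])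
    have hfin : ∀ e p, orderOf e = 5 → Φ e p = w → ∃ g' : G, W.map (MulAut.conj g').toMonoidHom = Subgroup.zpowers e := by
      intro e p he5 hp
      refine ⟨((d : G) ^ (p.1 : ℕ))⁻¹ * y, ?_⟩
      have hcomp : W.map (MulAut.conj (((d : G) ^ (p.1 : ℕ))⁻¹ * y)).toMonoidHom =
          W'.map (MulAut.conj ((d : G) ^ (p.1 : ℕ))⁻¹).toMonoidHom := by
        rw [hW', Subgroup.map_map]
        congr 1
        ext s
        simp [mul_assoc]
      rw [hcomp, ← hwgen, MonoidHom.map_zpowers]
      refine Subgroup.eq_of_le_of_card_ge (Subgroup.zpowers_le.mpr ?_) ?_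
      · rw [← hp]
        show ((d : G) ^ (p.1 : ℕ))⁻¹ * ((d : G) ^ (p.1 : ℕ) * e ^ ((p.2 : ℕ) + 1) * ((d : G) ^ (p.1 : ℕ))⁻¹) *
          (((d : G) ^ (p.1 : ℕ))⁻¹)⁻¹ ∈ _
        rw [show ∀ u v : G, u⁻¹ * (u * v * u⁻¹) * u⁻¹⁻¹ = v from fun u v => by group]
        exact pow_mem (Subgroup.mem_zpowers e) _
      · rw [Nat.card_zpowers, Nat.card_zpowers, he5, orderOf_injective _ (MulAut.conj _).injective, hwo]
    have hwmem : w ∈ Set.range (Φ k) ∪ Set.range (Φ f) := by
      rw [hcover]; exact ⟨hW'S hwW, hw1⟩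
    rcases hwmem with ⟨p, hp⟩ | ⟨p, hp⟩
    · obtain ⟨g', hg'⟩ := hfin k p hk5 hp; exact ⟨g', Or.inl hg'⟩
    · obtain ⟨g', hg'⟩ := hfin f p hf hp; exact ⟨g', Or.inr hg'⟩

end Cfsg.Agent.Invol.HJ
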