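import Cfsg.Agent.Lib.Invol.HJ.Turn

/-!
# A good representative of the second class of involutions
-/

set_option autoImplicit false
set_option linter.unusedSectionVars false
set_option linter.style.haveILetI false

namespace Cfsg.Agent.Invol.HJ

open Cfsg

variable {G : Type*} [Group G] {z : G} {Q : Subgroup G}

/-- An involution outside `Q` with a three-element centralizing it and turning the four group. -/
structure Good (z : G) (Q : Subgroup G) (t x σ r : G) : Prop where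
  tC : t ∈ Subgroup.centralizer ({z} : Set G)
  t2 : t * t = 1
  tQ : t ∉ Q
  L : LocalData z Q t x σ
  rt : r * t = t * r
  r9 : r ^ 9 = 1
  rz : r * z * r⁻¹ = x
  rx : r * x * r⁻¹ = z * x
  rS : ∀ s ∈ Subgroup.centralizer ({z} : Set G) ⊓ Subgroup.centralizer ({t} : Set G),
    r * s * r⁻¹ ∈ Subgroup.centralizer ({z} : Set G) ⊓ Subgroup.centralizer ({t} : Set G)
  ru : σ * t * σ⁻¹ * (r * (σ * t * σ⁻¹) * r⁻¹) ∈ Q

theorem inD_mul {x d e : G} (h : Core z Q) (hx : x ∈ nonCentralInvol z Q) (hd : InD z x d) (he : InD z x e) :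
    InD z x (d * e) := by
  have hxz : x * z = z * x := h.zq hx.1
  have hzz := h.z_sq
  have hxx := hx.2.1
  have h1 : z * x * z = x := by rw [mul_assoc, hxz, ← mul_assoc, hzz, one_mul]
  have h2 : z * x * x = z := by rw [mul_assoc, hxx, mul_one]
  have h3 : z * x * (z * x) = 1 := by rw [← mul_assoc, h1, hxx]
  have h4 : x * (z * x) = z := by rw [← mul_assoc, hxz, h2]
  have h5 : z * (z * x) = x := by rw [← mul_assoc, hzz, one_mul]
  rcases hd with rfl | rfl | rfl | rfl <;> rcases he with rfl | rfl | rfl | rfl <;>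
    simp [InD, hzz, hxx, h1, h2, h3, h4, h5, hxz]

theorem inD_turn {x r d : G} (h1 : r * z * r⁻¹ = x) (h2 : r * x * r⁻¹ = z * x) (h3 : r * (z * x) * r⁻¹ = z)
    (hd : InD z x d) : InD z x (r * d * r⁻¹) := by
  rcases hd with rfl | rfl | rfl | rfl
  · exact Or.inl (by group)
  · exact Or.inr (Or.inr (Or.inl h1))
  · exact Or.inr (Or.inr (Or.inr h2))
  · exact Or.inr (Or.inl h3)

theorem Good.rzx {t x σ r : G} (g : Good z Q t x σ r) (h : Core z Q) : r * (z * x) * r⁻¹ = z := by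
  rw [← conj_mul, g.rz, g.rx, ← mul_assoc, h.zq g.L.xX.1, mul_assoc, g.L.xX.2.1, mul_one]

namespace Setting

/-- `C(z,y)` is carried to `C(z,ryr⁻¹)`. -/
theorem turn_map [Finite G] (h : Setting z Q) {x r y : G} (hx : x ∈ nonCentralInvol z Q)
    (h1 : r * z * r⁻¹ = x) (h3 : r * (z * x) * r⁻¹ = z) (hy : y ∈ Subgroup.centralizer ({z} : Set G)) (hy2 : y * y = 1)
    (hyQ : y ∉ Q) (hyx : y * x = x * y) :
    (r * y * r⁻¹ ∈ Subgroup.centralizer ({z} : Set G) ∧ r * y * r⁻¹ * (r * y * r⁻¹) = 1 ∧ r * y * r⁻¹ ∉ Q ∧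
        r * y * r⁻¹ * x = x * (r * y * r⁻¹)) ∧
      (Subgroup.centralizer ({z} : Set G) ⊓ Subgroup.centralizer ({y} : Set G)).map (MulAut.conj r).toMonoidHom
        = Subgroup.centralizer ({z} : Set G) ⊓ Subgroup.centralizer ({r * y * r⁻¹} : Set G) := by
  set y' := r * y * r⁻¹ with hy'
  have hyz : y * z = z * y := h.cz hy
  have hy'C : y' ∈ Subgroup.centralizer ({z} : Set G) := Subgroup.mem_centralizer_singleton_iff.mpr (by
    conv_lhs => rw [← h3]
    conv_rhs => rw [← h3]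
    rw [hy', conj_mul, conj_mul, inD_comm hyz hyx (Or.inr (Or.inr (Or.inr rfl)))])
  have hy'2 : y' * y' = 1 := by rw [hy', conj_mul, hy2, mul_one, mul_inv_cancel]
  have hy'Q : y' ∉ Q := fun e => h.outside_not_conj hy hy2 hyQ
    ((isConj_iff.mpr ⟨r, hy'.symm⟩).trans (h.conj_z_of_mem_Q e (orderOf_two_iff'.mpr ⟨hy'2, fun e' => hyQ (by
      rw [show y = r⁻¹ * y' * r by rw [hy']; group, e']; simp)⟩)))
  have hy'x : y' * x = x * y' := by rw [hy', ← h1, conj_mul, conj_mul, hyz]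
  refine ⟨⟨hy'C, hy'2, hy'Q, hy'x⟩, ?_⟩
  obtain ⟨x', σ', L'⟩ := local_data h.toCore hy'C hy'2 hy'Q
  have hxD : InD z x' x := (L'.memQ x hx.1).mp hy'x.symm
  rw [← h.cent_pair L' hy'C hy'2 hy'Q hxD hx.2.2.1]
  ext w
  simp only [Subgroup.mem_map, Subgroup.mem_inf, Subgroup.mem_centralizer_singleton_iff, MulEquiv.coe_toMonoidHom,
    MulAut.conj_apply]
  constructor
  · rintro ⟨c, ⟨e1, e2⟩, rfl⟩
    exact ⟨by rw [← h1, conj_mul, conj_mul, e1], by rw [hy', conj_mul, conj_mul, e2]⟩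
  · rintro ⟨e1, e2⟩
    refine ⟨r⁻¹ * w * r, ⟨?_, ?_⟩, by group⟩
    · rw [← h1] at e1
      simpa [mul_assoc] using congrArg (fun u => r⁻¹ * u * r) e1
    · rw [hy'] at e2
      simpa [mul_assoc] using congrArg (fun u => r⁻¹ * u * r) e2

/-- A turning element normalizing `C(z,t)`. -/
theorem exists_norm_cycle [Finite G] (h : Setting z Q) {t x σ : G} (L : LocalData z Q t x σ)
    (htC : t ∈ Subgroup.centralizer ({z} : Set G)) (ht2 : t * t = 1) (htQ : t ∉ Q) :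
    ∃ r : G, r * z * r⁻¹ = x ∧ r * x * r⁻¹ = z * x ∧ r * (z * x) * r⁻¹ = z ∧
      (Subgroup.centralizer ({z} : Set G) ⊓ Subgroup.centralizer ({t} : Set G)).map (MulAut.conj r).toMonoidHom
        = Subgroup.centralizer ({z} : Set G) ⊓ Subgroup.centralizer ({t} : Set G) := by
  classical
  letI := Fintype.ofFinite G
  have hx := L.xX
  obtain ⟨r, h1, h2, h3⟩ := h.exists_cycle hx
  let S : G → Subgroup G := fun y => Subgroup.centralizer ({z} : Set G) ⊓ Subgroup.centralizer ({y} : Set G)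
  let P : G → Prop := fun y => y ∈ Subgroup.centralizer ({z} : Set G) ∧ y * y = 1 ∧ y ∉ Q ∧ y * x = x * y
  have hself : ∀ {y}, P y → y ∈ S y := fun hy => Subgroup.mem_inf.2 ⟨hy.1, Subgroup.mem_centralizer_singleton_iff.mpr rfl⟩
  have hxS : ∀ {y}, P y → x ∈ S y := fun hy => Subgroup.mem_inf.2
    ⟨h.le_C hx.1, Subgroup.mem_centralizer_singleton_iff.mpr hy.2.2.2.symm⟩
  have hPt : P t := ⟨htC, ht2, htQ, L.tx⟩
  have hstep : ∀ {y}, P y → P (r * y * r⁻¹) ∧ (S y).map (MulAut.conj r).toMonoidHom = S (r * y * r⁻¹) := fun hy =>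
    h.turn_map hx h1 h3 hy.1 hy.2.1 hy.2.2.1 hy.2.2.2
  obtain ⟨hP2, hS2⟩ := hstep hPt
  obtain ⟨hP3, hS3⟩ := hstep hP2
  set y2 := r * t * r⁻¹
  set y3 := r * y2 * r⁻¹
  have heq : ∀ {y w}, P y → P w → w ∈ S y → S w = S y := by
    intro y w hy hw hwy
    obtain ⟨x', σ', L'⟩ := local_data h.toCore hy.1 hy.2.1 hy.2.2.1
    exact h.cent_eq_of_mem L' hy.1 hy.2.1 hwy hw.2.2.1
  by_cases c1 : y2 ∈ S t
  · exact ⟨r, h1, h2, h3, hS2.trans (heq hPt hP2 c1)⟩
  by_cases c2 : y3 ∈ S t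
  · refine ⟨(r * r)⁻¹, ?_, ?_, ?_, ?_⟩
    · calc (r * r)⁻¹ * z * (r * r)⁻¹⁻¹ = (r * r)⁻¹ * (r * (r * x * r⁻¹) * r⁻¹) * (r * r) := by rw [h2, h3, inv_inv]
        _ = x := by group
    · calc (r * r)⁻¹ * x * (r * r)⁻¹⁻¹ = (r * r)⁻¹ * (r * (r * (z * x) * r⁻¹) * r⁻¹) * (r * r) := by rw [h3, h1, inv_inv]
        _ = z * x := by group
    · calc (r * r)⁻¹ * (z * x) * (r * r)⁻¹⁻¹ = (r * r)⁻¹ * (r * (r * z * r⁻¹) * r⁻¹) * (r * r) := by rw [h1, h2, inv_inv]
        _ = z := by group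
    · have hrr : (S t).map (MulAut.conj (r * r)).toMonoidHom = S t := by
        rw [show (MulAut.conj (r * r)).toMonoidHom = (MulAut.conj r).toMonoidHom.comp (MulAut.conj r).toMonoidHom by
          ext w; simp [mul_assoc], ← Subgroup.map_map, hS2, hS3, heq hPt hP3 c2]
      show (S t).map _ = S t
      conv_lhs => rw [← hrr]
      rw [Subgroup.map_map]
      refine le_antisymm ?_ ?_
      · rintro _ ⟨w, hw, rfl⟩
        simpa [MonoidHom.comp_apply, mul_assoc] using hw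
      · intro w hw
        exact ⟨w, hw, by simp [MonoidHom.comp_apply, mul_assoc]⟩
  exfalso
  have c3 : y3 ∉ S y2 := fun c3 => by
    refine c1 ?_
    have e : (S t).map (MulAut.conj r).toMonoidHom = (S y2).map (MulAut.conj r).toMonoidHom := by
      rw [hS2, hS3, heq hP2 hP3 c3]
    exact (Subgroup.map_injective (MulAut.conj r).injective e).symm ▸ hself hP2
  let F : G → Finset G := fun y => Finset.univ.filter fun w => w ∈ S y ∧ w ∉ Q
  have hF12 : ∀ {y}, P y → 12 ≤ (F y).card := by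
    intro y hy
    obtain ⟨x', σ', L'⟩ := local_data h.toCore hy.1 hy.2.1 hy.2.2.1
    have h16 : (Finset.univ.filter fun w => w ∈ S y).card = 16 := by
      rw [← Fintype.card_subtype, ← Nat.card_eq_fintype_card]
      exact L'.card_sixteen h.toCore hy.1 hy.2.1
    have h4 : (Finset.univ.filter fun w => w ∈ S y ∧ w ∈ Q).card ≤ 4 := by
      refine le_trans (Finset.card_le_card fun w hw => ?_) (Finset.card_le_four (a := 1) (b := z) (c := x') (d := z * x'))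
      obtain ⟨-, hwS, hwQ⟩ := Finset.mem_filter.mp hw
      simpa [InD] using (L'.memQ w hwQ).mp (Subgroup.mem_centralizer_singleton_iff.mp (Subgroup.mem_inf.mp hwS).2)
    have := Finset.card_filter_add_card_filter_not (s := Finset.univ.filter fun w => w ∈ S y) (fun w => w ∈ Q)
    rw [Finset.filter_filter, Finset.filter_filter, h16] at this
    show 12 ≤ (Finset.univ.filter fun w => w ∈ S y ∧ w ∉ Q).card
    omega
  have hFP : ∀ {y}, P y → ∀ w ∈ F y, P w := by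
    intro y hy w hw
    obtain ⟨-, hwS, hwQ⟩ := Finset.mem_filter.mp hw
    obtain ⟨x', σ', L'⟩ := local_data h.toCore hy.1 hy.2.1 hy.2.2.1
    exact ⟨(Subgroup.mem_inf.mp hwS).1, (L'.abelian h.toCore hy.1 hy.2.1 hwS hwS).2, hwQ,
      (L'.abelian h.toCore hy.1 hy.2.1 hwS (hxS hy)).1⟩
  have hdis : ∀ {a b}, P a → P b → b ∉ S a → Disjoint (F a) (F b) := by
    intro a b ha hb hne
    rw [Finset.disjoint_left]
    intro w hwa hwb
    refine hne ?_
    rw [← heq ha (hFP ha w hwa) (Finset.mem_filter.mp hwa).2.1, heq hb (hFP ha w hwa) (Finset.mem_filter.mp hwb).2.1]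
    exact hself hb
  have htot := h.toCore.card_commuting_outside hx (F t ∪ F y2 ∪ F y3) (fun w hw => by
    simp only [Finset.mem_union] at hw
    rcases hw with (hw | hw) | hw
    exacts [hFP hPt w hw, hFP hP2 w hw, hFP hP3 w hw])
  rw [Finset.card_union_of_disjoint (Finset.disjoint_union_left.mpr ⟨hdis hPt hP3 c2, hdis hP2 hP3 c3⟩),
    Finset.card_union_of_disjoint (hdis hPt hP2 c1)] at htot
  have := hF12 hPt
  have := hF12 hP2
  have := hF12 hP3
  omega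

theorem local_change [Finite G] (h : Setting z Q) {t x σ e : G} (L : LocalData z Q t x σ)
    (htC : t ∈ Subgroup.centralizer ({z} : Set G)) (ht2 : t * t = 1) (htQ : t ∉ Q) (he : InD z x e) :
    e * t ∈ Subgroup.centralizer ({z} : Set G) ∧ e * t * (e * t) = 1 ∧ e * t ∉ Q ∧ LocalData z Q (e * t) x σ ∧
      Subgroup.centralizer ({z} : Set G) ⊓ Subgroup.centralizer ({e * t} : Set G)
        = Subgroup.centralizer ({z} : Set G) ⊓ Subgroup.centralizer ({t} : Set G) := by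
  have heS := h.mem_inf_of_inD L.xX htC L.tx he
  have htS : t ∈ Subgroup.centralizer ({z} : Set G) ⊓ Subgroup.centralizer ({t} : Set G) :=
    Subgroup.mem_inf.2 ⟨htC, Subgroup.mem_centralizer_singleton_iff.mpr rfl⟩
  have hetS := mul_mem heS htS
  have hQ' : e * t ∉ Q := fun e' => htQ ((Q.mul_mem_cancel_left (inD_Q L.xX h.toCore he)).mp e')
  have hC := (Subgroup.mem_inf.mp hetS).1
  have heq := h.cent_eq_of_mem L htC ht2 hetS hQ'
  have hut : σ * t * σ⁻¹ ∈ Subgroup.centralizer ({z} : Set G) ⊓ Subgroup.centralizer ({t} : Set G) :=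
    Subgroup.mem_inf.2 ⟨L.u_mem_C htC, L.σt⟩
  have hσe : σ * e = e * σ := inD_comm (h.cz L.σC) L.σx he
  have hu' : σ * (e * t) * σ⁻¹ = e * (σ * t * σ⁻¹) := by rw [← mul_assoc σ, hσe]; group
  have hee : e * e = 1 := inD_sq L.xX h.toCore he
  have hte : t * e = e * t := inD_comm (h.cz htC) L.tx he
  refine ⟨hC, (L.abelian h.toCore htC ht2 hetS hetS).2, hQ', ⟨L.xX, ?_, L.σC, L.σ3, L.σx, ?_, ?_, ?_, ?_⟩, heq⟩
  · exact (L.abelian h.toCore htC ht2 hetS (h.mem_inf_of_inD L.xX htC L.tx (Or.inr (Or.inr (Or.inl rfl))))).1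
  · refine Subgroup.mem_centralizer_singleton_iff.mpr ?_
    rw [hu']
    exact (L.abelian h.toCore htC ht2 (mul_mem heS hut) hetS).1
  · rw [hu', show e * t * (e * (σ * t * σ⁻¹)) = t * (σ * t * σ⁻¹) by
      rw [← mul_assoc, mul_assoc e t e, hte, ← mul_assoc e e, hee, one_mul]]
    exact L.σne
  · intro w hw
    refine ⟨fun hc => ?_, fun hd => (L.abelian h.toCore htC ht2 (h.mem_inf_of_inD L.xX htC L.tx hd) hetS).1⟩
    have hwS : w ∈ Subgroup.centralizer ({z} : Set G) ⊓ Subgroup.centralizer ({e * t} : Set G) :=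
      Subgroup.mem_inf.2 ⟨h.le_C hw, Subgroup.mem_centralizer_singleton_iff.mpr hc⟩
    rw [heq] at hwS
    exact (L.memQ w hw).mp (Subgroup.mem_centralizer_singleton_iff.mp (Subgroup.mem_inf.mp hwS).2)
  · intro c hc hct
    have hcS : c ∈ Subgroup.centralizer ({z} : Set G) ⊓ Subgroup.centralizer ({e * t} : Set G) :=
      Subgroup.mem_inf.2 ⟨hc, Subgroup.mem_centralizer_singleton_iff.mpr hct⟩
    rw [heq] at hcS
    obtain ⟨d, hd, hc'⟩ := L.span c hc (Subgroup.mem_centralizer_singleton_iff.mp (Subgroup.mem_inf.mp hcS).2)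
    rw [hu']
    rcases hc' with hc' | hc' | hc' | hc'
    · exact ⟨d, hd, Or.inl hc'⟩
    · refine ⟨d * e, inD_mul h.toCore L.xX hd he, Or.inr (Or.inl ?_)⟩
      rw [hc', mul_assoc d e, ← mul_assoc e e, hee, one_mul]
    · refine ⟨d * e, inD_mul h.toCore L.xX hd he, Or.inr (Or.inr (Or.inl ?_))⟩
      rw [hc', mul_assoc d e, ← mul_assoc e e, hee, one_mul]
    · refine ⟨d, hd, Or.inr (Or.inr (Or.inr ?_))⟩
      rw [hc', ← mul_assoc (e * t), mul_assoc e t e, hte, ← mul_assoc e e, hee, one_mul]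

/-- Cases for an element of `C(z,t)` outside `Q`. -/
theorem span_out [Finite G] (h : Setting z Q) {t x σ w : G} (L : LocalData z Q t x σ)
    (htC : t ∈ Subgroup.centralizer ({z} : Set G))
    (hw : w ∈ Subgroup.centralizer ({z} : Set G) ⊓ Subgroup.centralizer ({t} : Set G)) (hwQ : w ∉ Q) :
    ∃ d, InD z x d ∧ (w = d * t ∨ w = d * (σ * t * σ⁻¹) ∨ w = d * (t * (σ * t * σ⁻¹))) := by
  obtain ⟨d, hd, e⟩ := L.span w (Subgroup.mem_inf.mp hw).1 (Subgroup.mem_centralizer_singleton_iff.mp (Subgroup.mem_inf.mp hw).2)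
  rcases e with e | e | e | e
  · exact absurd (e ▸ inD_Q L.xX h.toCore hd) hwQ
  · exact ⟨d, hd, Or.inl e⟩
  · exact ⟨d, hd, Or.inr (Or.inl e)⟩
  · exact ⟨d, hd, Or.inr (Or.inr e)⟩

/-- `σ` rotates the cosets of the four group in `C(z,t)`. -/
theorem sigma_rotate [Finite G] (h : Setting z Q) {t x σ : G} (L : LocalData z Q t x σ)
    (htC : t ∈ Subgroup.centralizer ({z} : Set G)) (ht2 : t * t = 1) (htQ : t ∉ Q) :
    (∀ s ∈ Subgroup.centralizer ({z} : Set G) ⊓ Subgroup.centralizer ({t} : Set G),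
      σ * s * σ⁻¹ ∈ Subgroup.centralizer ({z} : Set G) ⊓ Subgroup.centralizer ({t} : Set G)) ∧
    ∃ d, InD z x d ∧ σ * (σ * t * σ⁻¹) * σ⁻¹ = d * (t * (σ * t * σ⁻¹)) := by
  set u := σ * t * σ⁻¹ with hu
  have huC := L.u_mem_C htC
  have huQ : u ∉ Q := fun e => htQ (by
    have := h.norm _ (inv_mem L.σC) _ e
    simpa [hu, mul_assoc] using this)
  have huS : u ∈ Subgroup.centralizer ({z} : Set G) ⊓ Subgroup.centralizer ({t} : Set G) := Subgroup.mem_inf.2 ⟨huC, L.σt⟩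
  have heq := h.cent_eq_of_mem L htC ht2 huS huQ
  have hpres : ∀ s ∈ Subgroup.centralizer ({z} : Set G) ⊓ Subgroup.centralizer ({t} : Set G),
      σ * s * σ⁻¹ ∈ Subgroup.centralizer ({z} : Set G) ⊓ Subgroup.centralizer ({t} : Set G) := by
    intro s hs
    rw [← heq]
    obtain ⟨h1, h2⟩ := Subgroup.mem_inf.mp hs
    exact Subgroup.mem_inf.2 ⟨mul_mem (mul_mem L.σC h1) (inv_mem L.σC), Subgroup.mem_centralizer_singleton_iff.mpr (by
      rw [hu, conj_mul, conj_mul, Subgroup.mem_centralizer_singleton_iff.mp h2])⟩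
  refine ⟨hpres, ?_⟩
  set v := σ * u * σ⁻¹ with hv
  have hσv : σ * v * σ⁻¹ = t := by
    rw [hv, hu, show σ * (σ * (σ * t * σ⁻¹) * σ⁻¹) * σ⁻¹ = (σ * σ * σ) * t * (σ * σ * σ)⁻¹ by group, L.σ3]
    group
  have hvQ : v ∉ Q := fun e => htQ (hσv ▸ h.norm σ L.σC v e)
  have hfix : ∀ {d}, InD z x d → σ * d * σ⁻¹ = d := fun hd => by
    rw [inD_comm (h.cz L.σC) L.σx hd, mul_inv_cancel_right]
  have hbad : ∀ {a b : G}, InD z x a → InD z x b → a * t ≠ b * u := by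
    intro a b ha hb e
    refine L.σne ?_
    have e1 : u = b⁻¹ * a * t := by rw [mul_assoc, e, inv_mul_cancel_left]
    rw [← hu, e1, ← mul_assoc, mul_assoc t]
    have htq := h.norm t htC _ (Q.mul_mem (Q.inv_mem (inD_Q L.xX h.toCore hb)) (inD_Q L.xX h.toCore ha))
    rwa [inv_eq_of_mul_eq_one_right ht2, mul_assoc t] at htq
  obtain ⟨d, hd, e | e | e⟩ := h.span_out L htC (hpres u huS) hvQ
  · exfalso
    rw [← hv] at e
    have : t = d * u := by rw [← hσv, e, ← conj_mul, hfix hd, ← hu]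
    exact hbad (Or.inl rfl) hd (by rwa [one_mul])
  · exfalso
    rw [← hv] at e
    have : t = d * v := by rw [← hσv, e, ← conj_mul, hfix hd, ← hv, e]
    rw [e, ← mul_assoc, inD_sq L.xX h.toCore hd, one_mul] at this
    exact hbad (Or.inl rfl) (Or.inl rfl) (by rw [one_mul, one_mul]; exact this)
  · exact ⟨d, hd, e⟩

/-- The good representative exists. -/
theorem exists_good [Finite G] (h : Setting z Q) : ∃ t x σ r, Good z Q t x σ r := by
  obtain ⟨t, htC, ht2, htQ, -⟩ := h.exists_outside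
  obtain ⟨x, σ, L⟩ := local_data h.toCore htC ht2 htQ
  obtain ⟨r, r1z, r1x, r1zx, hrS⟩ := h.exists_norm_cycle L htC ht2 htQ
  obtain ⟨hσS, dv, hdv, hσu⟩ := h.sigma_rotate L htC ht2 htQ
  set S := Subgroup.centralizer ({z} : Set G) ⊓ Subgroup.centralizer ({t} : Set G) with hS
  set u := σ * t * σ⁻¹ with hu
  have hx := L.xX
  have hrS' : ∀ s ∈ S, r * s * r⁻¹ ∈ S := fun s hs => hrS ▸ ⟨s, hs, rfl⟩
  have htS : t ∈ S := Subgroup.mem_inf.2 ⟨htC, Subgroup.mem_centralizer_singleton_iff.mpr rfl⟩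
  have huS : u ∈ S := Subgroup.mem_inf.2 ⟨L.u_mem_C htC, L.σt⟩
  have hD : ∀ {d}, InD z x d → d ∈ S := fun hd => h.mem_inf_of_inD hx htC L.tx hd
  have hab : ∀ {a b}, a ∈ S → b ∈ S → a * b = b * a ∧ a * a = 1 := fun ha hb => L.abelian h.toCore htC ht2 ha hb
  have hσd : ∀ {d}, InD z x d → σ * d * σ⁻¹ = d := fun hd => by
    rw [inD_comm (h.cz L.σC) L.σx hd, mul_inv_cancel_right]
  -- adjust so that the coset of `t` is fixed
  have hrt : r * t * r⁻¹ ∉ Q := by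
    intro e
    refine h.outside_not_conj htC ht2 htQ ((isConj_iff.mpr ⟨r, rfl⟩).trans (h.conj_z_of_mem_Q e ?_))
    exact orderOf_two_iff'.mpr ⟨by rw [conj_mul, ht2, mul_one, mul_inv_cancel], fun e' => htQ (by
      rw [mul_inv_eq_one, mul_eq_left] at e'; rw [e']; exact Q.one_mem)⟩
  obtain ⟨r1, e1z, e1x, e1zx, e1S, d0, hd0, e1t⟩ : ∃ r1 : G, r1 * z * r1⁻¹ = x ∧ r1 * x * r1⁻¹ = z * x ∧
      r1 * (z * x) * r1⁻¹ = z ∧ (∀ s ∈ S, r1 * s * r1⁻¹ ∈ S) ∧ ∃ d, InD z x d ∧ r1 * t * r1⁻¹ = d * t := by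
    have hpre : ∀ c : G, (∀ s ∈ S, c * s * c⁻¹ ∈ S) → c * z * c⁻¹ = z → c * x * c⁻¹ = x →
        (c * r) * z * (c * r)⁻¹ = x ∧ (c * r) * x * (c * r)⁻¹ = z * x ∧ (c * r) * (z * x) * (c * r)⁻¹ = z ∧
          (∀ s ∈ S, (c * r) * s * (c * r)⁻¹ ∈ S) := by
      intro c hcS hcz hcx
      have key : ∀ w : G, c * r * w * (c * r)⁻¹ = c * (r * w * r⁻¹) * c⁻¹ := fun w => by group
      refine ⟨by rw [key, r1z, hcx], by rw [key, r1x, ← conj_mul, hcz, hcx], by rw [key, r1zx, hcz], fun s hs => ?_⟩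
      rw [key]
      exact hcS _ (hrS' s hs)
    obtain ⟨d, hd, e | e | e⟩ := h.span_out L htC (hrS' t htS) hrt
    · exact ⟨r, r1z, r1x, r1zx, hrS', d, hd, e⟩
    · have hσ2S : ∀ s ∈ S, σ * σ * s * (σ * σ)⁻¹ ∈ S := fun s hs => by
        have := hσS _ (hσS s hs)
        rwa [show σ * (σ * s * σ⁻¹) * σ⁻¹ = σ * σ * s * (σ * σ)⁻¹ by group] at this
      have key : ∀ w : G, σ * σ * w * (σ * σ)⁻¹ = σ * (σ * w * σ⁻¹) * σ⁻¹ := fun w => by group
      obtain ⟨a, b, c, k⟩ := hpre (σ * σ) hσ2S (by rw [key, hσd (Or.inr (Or.inl rfl)), hσd (Or.inr (Or.inl rfl))])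
        (by rw [key, hσd (Or.inr (Or.inr (Or.inl rfl))), hσd (Or.inr (Or.inr (Or.inl rfl)))])
      refine ⟨_, a, b, c, k, d, hd, ?_⟩
      calc σ * σ * r * t * (σ * σ * r)⁻¹ = σ * σ * (r * t * r⁻¹) * (σ * σ)⁻¹ := by group
        _ = (σ * (σ * d * σ⁻¹) * σ⁻¹) * (σ * σ * σ * t * (σ * σ * σ)⁻¹) := by rw [e]; group
        _ = d * t := by rw [hσd hd, hσd hd, L.σ3]; group
    · obtain ⟨a, b, c, k⟩ := hpre σ hσS (hσd (Or.inr (Or.inl rfl))) (hσd (Or.inr (Or.inr (Or.inl rfl))))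
      refine ⟨_, a, b, c, k, d * dv, inD_mul h.toCore hx hd hdv, ?_⟩
      calc σ * r * t * (σ * r)⁻¹ = σ * (r * t * r⁻¹) * σ⁻¹ := by group
        _ = (σ * d * σ⁻¹) * ((σ * t * σ⁻¹) * (σ * u * σ⁻¹)) := by rw [e, hu]; group
        _ = d * (u * (dv * (t * u))) := by rw [hσd hd, hσu]
        _ = d * dv * t := by
          rw [(hab huS (mul_mem (hD hdv) (mul_mem htS huS))).1, mul_assoc, mul_assoc t u u, (hab huS huS).2, mul_one,
            mul_assoc]
  -- a fixed element in the coset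
  set e0 := r1 * d0 * r1⁻¹ with he0
  have he0D : InD z x e0 := inD_turn e1z e1x e1zx hd0
  have hfixt : r1 * (e0 * t) * r1⁻¹ = e0 * t := by
    rw [← conj_mul, e1t, ← mul_assoc]
    congr 1
    have hzx : z * x * z = x := by rw [mul_assoc, h.zq hx.1, ← mul_assoc, h.z_sq, one_mul]
    rw [he0]
    rcases hd0 with rfl | rfl | rfl | rfl
    · group
    · rw [e1z, e1x, hzx]
    · rw [e1x, e1zx]
    · rw [e1zx, e1z, ← mul_assoc, h.zq hx.1, mul_assoc, hx.2.1, mul_one]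
  obtain ⟨ht'C, ht'2, ht'Q, L', hS'⟩ := h.local_change L htC ht2 htQ he0D
  set t' := e0 * t with ht'
  -- make the order a power of three
  have hr3z : r1 * r1 * r1 * z = z * (r1 * r1 * r1) := by
    apply mul_inv_eq_iff_eq_mul.mp
    calc r1 * r1 * r1 * z * (r1 * r1 * r1)⁻¹ = r1 * (r1 * (r1 * z * r1⁻¹) * r1⁻¹) * r1⁻¹ := by group
      _ = z := by rw [e1z, e1x, e1zx]
  have hr3x : r1 * r1 * r1 * x = x * (r1 * r1 * r1) := by
    apply mul_inv_eq_iff_eq_mul.mp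
    calc r1 * r1 * r1 * x * (r1 * r1 * r1)⁻¹ = r1 * (r1 * (r1 * x * r1⁻¹) * r1⁻¹) * r1⁻¹ := by group
      _ = x := by rw [e1x, e1zx, e1z]
  have h24 := h.toCore.pow_twentyfour (Subgroup.mem_centralizer_singleton_iff.mpr hr3z) hx hr3x
  set r2 := r1 ^ 16 with hr2
  have h9 : r2 ^ 9 = 1 := by
    rw [hr2, ← pow_mul, show 16 * 9 = (3 * 24) * 2 by rfl, pow_mul, pow_mul, pow_three', h24, one_pow]
  have h15 : ∀ w : G, r1 * r1 * r1 * w = w * (r1 * r1 * r1) → r2 * w * r2⁻¹ = r1 * w * r1⁻¹ := by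
    intro w hw
    have hc : Commute ((r1 * r1 * r1) ^ 5) w := (show Commute (r1 * r1 * r1) w from hw).pow_left 5
    rw [hr2, show (16 : ℕ) = 1 + 3 * 5 from rfl, pow_add, pow_one, pow_mul, pow_three',
      mul_inv_rev, mul_assoc r1, hc.eq]
    group
  have h2S : ∀ s ∈ S, r2 * s * r2⁻¹ ∈ S := by
    have : ∀ n : ℕ, ∀ s ∈ S, r1 ^ n * s * (r1 ^ n)⁻¹ ∈ S := by
      intro n
      induction n with
      | zero => intro s hs; simpa using hs
      | succ n ih =>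
        intro s hs
        have := e1S _ (ih s hs)
        rwa [show r1 * (r1 ^ n * s * (r1 ^ n)⁻¹) * r1⁻¹ = r1 ^ (n + 1) * s * (r1 ^ (n + 1))⁻¹ by
          rw [pow_succ' r1 n]; group] at this
    exact this 16
  have h2t : r2 * t' * r2⁻¹ = t' := by
    rw [h15 t' ((Commute.mul_left (Commute.mul_left (show Commute r1 t' from mul_inv_eq_iff_eq_mul.mp hfixt)
      (show Commute r1 t' from mul_inv_eq_iff_eq_mul.mp hfixt)) (show Commute r1 t' from mul_inv_eq_iff_eq_mul.mp hfixt)).eq)]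
    exact hfixt
  have h2z : r2 * z * r2⁻¹ = x := (h15 z hr3z).trans e1z
  have h2x : r2 * x * r2⁻¹ = z * x := (h15 x hr3x).trans e1x
  have h2zx : r2 * (z * x) * r2⁻¹ = z := by
    rw [← conj_mul, h2z, h2x, ← mul_assoc, h.zq hx.1, mul_assoc, hx.2.1, mul_one]
  refine ⟨t', x, σ, r2, ⟨ht'C, ht'2, ht'Q, L', mul_inv_eq_iff_eq_mul.mp h2t, h9, h2z, h2x, by rw [hS']; exact h2S, ?_⟩⟩
  -- the second coset is fixed
  set u' := σ * t' * σ⁻¹ with hu'
  have hu'S : u' ∈ S := by rw [hS, ← hS']; exact Subgroup.mem_inf.2 ⟨L'.u_mem_C ht'C, L'.σt⟩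
  have ht'S : t' ∈ S := by rw [hS, ← hS']; exact Subgroup.mem_inf.2 ⟨ht'C, Subgroup.mem_centralizer_singleton_iff.mpr rfl⟩
  have hu'Q : u' ∉ Q := fun e => ht'Q (by
    have := h.norm _ (inv_mem L.σC) _ e
    simpa [hu', mul_assoc] using this)
  have hwQ : r2 * u' * r2⁻¹ ∉ Q := fun e => h.outside_not_conj (L'.u_mem_C ht'C) (hab hu'S hu'S).2 hu'Q
    ((isConj_iff.mpr ⟨r2, rfl⟩).trans (h.conj_z_of_mem_Q e (orderOf_two_iff'.mpr
      ⟨by rw [conj_mul, (hab hu'S hu'S).2, mul_one, mul_inv_cancel], fun e' => hu'Q (by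
        rw [mul_inv_eq_one, mul_eq_left] at e'; rw [show u' = 1 from e']; exact Q.one_mem)⟩)))
  have hDq : ∀ {d}, InD z x d → d ∈ Q := fun hd => inD_Q hx h.toCore hd
  obtain ⟨d, hd, e | e | e⟩ := h.span_out L' ht'C (hS' ▸ h2S u' hu'S) hwQ
  · exfalso
    set d' := r2⁻¹ * d * r2
    have hd'2 : InD z x (r2 * (r2 * d * r2⁻¹) * r2⁻¹) := inD_turn h2z h2x h2zx (inD_turn h2z h2x h2zx hd)
    have hcube : r2 * (r2 * (r2 * d * r2⁻¹) * r2⁻¹) * r2⁻¹ = d := by
      rcases hd with rfl | rfl | rfl | rfl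
      · group
      · rw [h2z, h2x, h2zx]
      · rw [h2x, h2zx, h2z]
      · rw [h2zx, h2z, h2x]
    have hu'eq : u' = r2 * (r2 * d * r2⁻¹) * r2⁻¹ * t' := by
      have e' : r2 * u' * r2⁻¹ = r2 * (r2 * (r2 * d * r2⁻¹) * r2⁻¹ * t') * r2⁻¹ := by
        rw [e, ← conj_mul (a := r2 * (r2 * d * r2⁻¹) * r2⁻¹), hcube, h2t]
      exact mul_left_cancel (mul_right_cancel e')
    refine L'.σne ?_
    rw [← hu', hu'eq, ← mul_assoc, (hab ht'S (hD hd'2)).1, mul_assoc, ht'2, mul_one]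
    exact hDq hd'2
  · rw [e, (hab hu'S (mul_mem (hD hd) hu'S)).1, mul_assoc, (hab hu'S hu'S).2, mul_one]
    exact hDq hd
  · exfalso
    have h2 : ∀ n : ℕ, ∃ a, InD z x a ∧ r2 ^ (2 * n) * u' * (r2 ^ (2 * n))⁻¹ = a * u' := by
      intro n
      induction n with
      | zero => exact ⟨1, Or.inl rfl, by simp⟩
      | succ n ih =>
        obtain ⟨a, ha, ea⟩ := ih
        refine ⟨r2 * (r2 * a * r2⁻¹) * r2⁻¹ * (r2 * d * r2⁻¹ * d),
          inD_mul h.toCore hx (inD_turn h2z h2x h2zx (inD_turn h2z h2x h2zx ha))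
            (inD_mul h.toCore hx (inD_turn h2z h2x h2zx hd) hd), ?_⟩
        calc r2 ^ (2 * (n + 1)) * u' * (r2 ^ (2 * (n + 1)))⁻¹
            = r2 * (r2 * (r2 ^ (2 * n) * u' * (r2 ^ (2 * n))⁻¹) * r2⁻¹) * r2⁻¹ := by
              rw [show 2 * (n + 1) = 2 * n + 1 + 1 by ring, pow_succ', pow_succ']; group
          _ = r2 * (r2 * a * r2⁻¹) * r2⁻¹ * ((r2 * d * r2⁻¹) * ((r2 * t' * r2⁻¹) * (r2 * u' * r2⁻¹))) := by
              rw [ea, show r2 * (a * u') * r2⁻¹ = r2 * a * r2⁻¹ * (r2 * u' * r2⁻¹) by group]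
              conv_lhs => rw [e]
              simp only [hu']
              group
          _ = r2 * (r2 * a * r2⁻¹) * r2⁻¹ * (r2 * d * r2⁻¹ * d) * u' := by
              rw [h2t, e]
              have hc : t' * (d * (t' * u')) = d * u' := by
                rw [← mul_assoc t' d, (hab ht'S (hD hd)).1, mul_assoc, ← mul_assoc t', ht'2, one_mul]
              rw [hc]
              simp only [mul_assoc]
    obtain ⟨a, ha, ea⟩ := h2 4
    have hfin : r2 * (a * u') * r2⁻¹ = u' := by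
      rw [← ea, show r2 * (r2 ^ (2 * 4) * u' * (r2 ^ (2 * 4))⁻¹) * r2⁻¹ = r2 ^ 9 * u' * (r2 ^ 9)⁻¹ by
        rw [show (9 : ℕ) = 2 * 4 + 1 from rfl, pow_succ' r2 (2 * 4)]; group, h9]
      group
    rw [← conj_mul, e, ← mul_assoc, ← mul_assoc, mul_eq_right] at hfin
    refine ht'Q ?_
    have : t' = (r2 * a * r2⁻¹ * d)⁻¹ := eq_inv_of_mul_eq_one_right hfin
    rw [this]
    exact Q.inv_mem (Q.mul_mem (hDq (inD_turn h2z h2x h2zx ha)) (hDq hd))

end Setting

end Cfsg.Agent.Invol.HJ
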