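import Cfsg.Agent.Lib.Invol.HJ.NormV

/-!
# Centralizers in a group of Hall-Janko type
-/

set_option autoImplicit false
set_option linter.unusedSectionVars false
set_option linter.style.haveILetI false

namespace Cfsg.Agent.Invol.HJ

open Cfsg

variable {G : Type*} [Group G]

theorem cent_conj (c w : G) : (Subgroup.centralizer ({w} : Set G)).map (MulAut.conj c).toMonoidHom
    = Subgroup.centralizer ({c * w * c⁻¹} : Set G) := by
  ext u
  simp only [Subgroup.mem_map, Subgroup.mem_centralizer_singleton_iff, MulEquiv.coe_toMonoidHom, MulAut.conj_apply]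
  constructor
  · rintro ⟨v, hv, rfl⟩
    rw [conj_mul, conj_mul, hv]
  · intro hu
    refine ⟨c⁻¹ * u * c, ?_, by group⟩
    simpa [mul_assoc] using congrArg (fun y => c⁻¹ * y * c) hu

theorem norm_conj (c : G) (H : Subgroup G) : (Subgroup.normalizer (H : Set G)).map (MulAut.conj c).toMonoidHom
    = Subgroup.normalizer ((H.map (MulAut.conj c).toMonoidHom : Subgroup G) : Set G) := by
  have hmem : ∀ u, u ∈ H.map (MulAut.conj c).toMonoidHom ↔ c⁻¹ * u * c ∈ H := fun u => by
    constructor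
    · rintro ⟨v, hv, rfl⟩
      simpa [mul_assoc] using hv
    · intro hu
      exact ⟨_, hu, by simp [mul_assoc]⟩
  ext n
  constructor
  · rintro ⟨m, hm, rfl⟩
    refine Subgroup.mem_normalizer_iff.mpr fun u => ?_
    rw [hmem, hmem, Subgroup.mem_normalizer_iff.mp hm]
    simp [mul_assoc]
  · intro hn
    refine ⟨c⁻¹ * n * c, Subgroup.mem_normalizer_iff.mpr fun u => ?_, by simp [mul_assoc]⟩
    have := Subgroup.mem_normalizer_iff.mp hn (c * u * c⁻¹)
    rw [hmem, hmem] at this
    simpa [mul_assoc] using this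

theorem second_centralizer [Finite G] {z : G} {Q : Subgroup G} (h : Setting z Q) {t : G} (ht : orderOf t = 2)
    (htz : ¬ IsConj t z) :
    Nonempty (↥(Subgroup.centralizer ({t} : Set G)) ≃* (Multiplicative (ZMod 2) × Multiplicative (ZMod 2)) × alternatingGroup (Fin 5)) ∧
      Nonempty (↥(Subgroup.normalizer (((pCore 2 ↥(Subgroup.centralizer ({t} : Set G))).map
        (Subgroup.subtype (Subgroup.centralizer ({t} : Set G))) : Subgroup G) : Set G)) ≃* alternatingGroup (Fin 4) × alternatingGroup (Fin 5)) := by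
  obtain ⟨t0, x, σ, r, g⟩ := h.exists_good
  obtain ⟨K, c⟩ := g.exists_comp h
  have ht0 : orderOf t0 = 2 := orderOf_two_iff'.mpr ⟨g.t2, fun e => g.tQ (e ▸ Q.one_mem)⟩
  obtain ⟨a, rfl⟩ := isConj_iff.mp (h.conj_of_not ht0 ht (h.outside_not_conj g.tC g.t2 g.tQ) htz)
  let e1 := ((Subgroup.centralizer ({t0} : Set G)).equivMapOfInjective _ (MulAut.conj a).injective).trans
    (MulEquiv.subgroupCongr (cent_conj a t0))
  obtain ⟨i1⟩ := g.cent_iso h c
  refine ⟨⟨e1.symm.trans i1⟩, ?_⟩
  have hV : ((pCore 2 ↥(Subgroup.centralizer ({a * t0 * a⁻¹} : Set G))).map (Subgroup.subtype _))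
      = (vfix z t0 r).map (MulAut.conj a).toMonoidHom := by
    rw [← g.pCore_eq h c]
    apply le_antisymm
    · rintro _ ⟨n, hn, rfl⟩
      haveI := Cfsg.Agent.Grp.pCore_isNormal (p := 2) (G := ↥(Subgroup.centralizer ({a * t0 * a⁻¹} : Set G)))
      have hle : (pCore 2 ↥(Subgroup.centralizer ({a * t0 * a⁻¹} : Set G))).map e1.symm.toMonoidHom
          ≤ pCore 2 ↥(Subgroup.centralizer ({t0} : Set G)) :=
        Cfsg.Agent.Grp.le_pCore (Subgroup.Normal.map inferInstance _ e1.symm.surjective) (Cfsg.Agent.Grp.pCore_isPGroup.map _)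
      exact ⟨(e1.symm n : G), ⟨e1.symm n, hle ⟨n, hn, rfl⟩, rfl⟩, congrArg Subtype.val (e1.apply_symm_apply n)⟩
    · rintro _ ⟨_, ⟨n, hn, rfl⟩, rfl⟩
      haveI := Cfsg.Agent.Grp.pCore_isNormal (p := 2) (G := ↥(Subgroup.centralizer ({t0} : Set G)))
      have hle : (pCore 2 ↥(Subgroup.centralizer ({t0} : Set G))).map e1.toMonoidHom
          ≤ pCore 2 ↥(Subgroup.centralizer ({a * t0 * a⁻¹} : Set G)) :=
        Cfsg.Agent.Grp.le_pCore (Subgroup.Normal.map inferInstance _ e1.surjective) (Cfsg.Agent.Grp.pCore_isPGroup.map _)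
      exact ⟨e1 n, hle ⟨n, hn, rfl⟩, rfl⟩
  rw [hV]
  obtain ⟨i2⟩ := g.norm_iso h c
  exact ⟨(((Subgroup.normalizer (vfix z t0 r : Set G)).equivMapOfInjective _ (MulAut.conj a).injective).trans
    (MulEquiv.subgroupCongr (norm_conj a (vfix z t0 r)))).symm.trans i2⟩

end Cfsg.Agent.Invol.HJ
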