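import Cfsg.Agent.Lib.Invol.HJ.Sphere

/-!
# Five points and the even vectors
-/

set_option autoImplicit false
set_option linter.unusedSectionVars false
set_option linter.style.haveILetI false

namespace Cfsg.Agent.Invol.HJ

open Cfsg

variable {G : Type*} [Group G]

/-- The vector with weight four missing the point `i`. -/
def ev (i : Fin 5) : Fin 5 → ZMod 2 := fun j => if j = i then 0 else 1

/-- The five pairs of noncentral involutions as points. -/
structure Model (z : G) (Q : Subgroup G) where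
  a : Fin 5 → G
  mem : ∀ i, a i ∈ nonCentralInvol z Q
  cover : ∀ x ∈ nonCentralInvol z Q, ∃ i, x = a i ∨ x = z * a i
  anti : ∀ i j, i ≠ j → a i * a j ≠ a j * a i
  pt : Subgroup.centralizer ({z} : Set G) →* Equiv.Perm (Fin 5)
  pt_spec : ∀ (c : Subgroup.centralizer ({z} : Set G)) i, (c : G) * a i * (c : G)⁻¹ = a (pt c i) ∨ (c : G) * a i * (c : G)⁻¹ = z * a (pt c i)
  pt_range : pt.range = alternatingGroup (Fin 5)
  pt_ker : ∀ c : Subgroup.centralizer ({z} : Set G), pt c = 1 ↔ (c : G) ∈ Q

theorem Core.labels [Finite G] {z : G} {Q : Subgroup G} (h : Core z Q) :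
    ∃ a : Fin 5 → G, (∀ i, a i ∈ nonCentralInvol z Q) ∧
      (∀ x ∈ nonCentralInvol z Q, ∃ i, x = a i ∨ x = z * a i) ∧ (∀ i j, i ≠ j → a i * a j ≠ a j * a i) := by
  classical
  letI := Fintype.ofFinite G
  obtain ⟨h10, hpair⟩ := h.ten
  let X : Finset G := Finset.univ.filter fun x => x ∈ nonCentralInvol z Q
  have hX : X.card = 10 := by rw [← h10, ← Fintype.card_subtype, ← Nat.card_eq_fintype_card]
  let pr : G → Finset G := fun x => {x, z * x}
  have hpr : ∀ x y : G, pr x = pr y ↔ y = x ∨ y = z * x := by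
    intro x y
    constructor
    · intro e
      have : y ∈ pr x := e ▸ Finset.mem_insert_self _ _
      simpa [pr] using this
    · rintro (rfl | rfl)
      · rfl
      · simp only [pr, ← mul_assoc, h.z_sq, one_mul]; exact Finset.pair_comm _ _
  let P := X.image pr
  have hP : P.card = 5 := by
    have hs := Finset.card_eq_sum_card_image pr X
    have hf : ∀ b ∈ P, (X.filter fun x => pr x = b).card = 2 := by
      intro b hb
      obtain ⟨x, hx, rfl⟩ := Finset.mem_image.mp hb
      have hx' := (Finset.mem_filter.mp hx).2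
      have hne : x ≠ z * x := fun e => h.ne_one (mul_eq_right.mp e.symm)
      rw [show (X.filter fun y => pr y = pr x) = {x, z * x} from ?_, Finset.card_pair hne]
      ext y
      simp only [X, Finset.mem_filter, Finset.mem_univ, true_and, Finset.mem_insert, Finset.mem_singleton]
      constructor
      · exact fun e => (hpr x y).mp e.2.symm
      · rintro (rfl | rfl)
        · exact ⟨hx', rfl⟩
        · exact ⟨h.zmul_mem hx', ((hpr _ _).mpr (Or.inr rfl)).symm⟩
    rw [Finset.sum_congr rfl hf, Finset.sum_const, hX, smul_eq_mul] at hs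
    change 10 = P.card * 2 at hs
    omega
  let e : Fin 5 ≃ P := (P.equivFinOfCardEq hP).symm
  have hch : ∀ i, ∃ x ∈ X, pr x = (e i).1 := fun i => Finset.mem_image.mp (e i).2
  choose a haX hae using hch
  have hmem : ∀ i, a i ∈ nonCentralInvol z Q := fun i => (Finset.mem_filter.mp (haX i)).2
  refine ⟨a, hmem, fun x hx => ?_, fun i j hij hc => hij ?_⟩
  · have hxP : pr x ∈ P := Finset.mem_image_of_mem _ (Finset.mem_filter.mpr ⟨Finset.mem_univ _, hx⟩)
    refine ⟨e.symm ⟨_, hxP⟩, ?_⟩
    rw [← hpr, hae, Equiv.apply_symm_apply]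
  · have := (hpr (a i) (a j)).mpr (hpair _ (hmem i) _ (hmem j) hc)
    rw [hae, hae] at this
    exact e.injective (Subtype.ext this)

theorem Core.model [Finite G] {z : G} {Q : Subgroup G} (h : Core z Q) : Nonempty (Model z Q) := by
  classical
  obtain ⟨a, hmem, hcov, hanti⟩ := h.labels
  have hz2 := h.z_sq
  have huniq : ∀ i j, (a i = a j ∨ a i = z * a j) → i = j := by
    intro i j e
    by_contra hij
    refine hanti i j hij ?_
    rcases e with e | e
    · rw [e]
    · rw [e, mul_assoc, ← mul_assoc (a j) z (a j), h.zq (hmem j).1, mul_assoc z]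
  have hex : ∀ (c : Subgroup.centralizer ({z} : Set G)) (i : Fin 5),
      ∃ j, (c : G) * a i * (c : G)⁻¹ = a j ∨ (c : G) * a i * (c : G)⁻¹ = z * a j := fun c i =>
    hcov _ (h.invol_conj c.2 (hmem i))
  choose p hp using hex
  have hu : ∀ (x : G) i j, (x = a i ∨ x = z * a i) → (x = a j ∨ x = z * a j) → i = j := by
    intro x i j h1 h2
    refine huniq i j ?_
    rcases h1 with rfl | rfl <;> rcases h2 with h2 | h2
    · exact Or.inl h2
    · exact Or.inr h2
    · exact Or.inr (by rw [← h2, ← mul_assoc, hz2, one_mul])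
    · exact Or.inl (mul_left_cancel h2)
  have hp1 : ∀ i, p 1 i = i := fun i => hu _ _ _ (hp 1 i) (Or.inl (by simp))
  have hpm : ∀ c d i, p (c * d) i = p c (p d i) := by
    intro c d i
    refine hu _ _ _ (hp (c * d) i) ?_
    have e : ((c * d : Subgroup.centralizer ({z} : Set G)) : G) * a i * ((c * d : Subgroup.centralizer ({z} : Set G)) : G)⁻¹
        = (c : G) * ((d : G) * a i * (d : G)⁻¹) * (c : G)⁻¹ := by push_cast; group
    rw [e]
    rcases hp d i with e1 | e1 <;> rw [e1]
    · exact hp c _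
    · rw [← mul_assoc, h.cz c.2, mul_assoc z (c : G), mul_assoc z]
      rcases hp c (p d i) with e2 | e2 <;> rw [e2]
      · exact Or.inr rfl
      · exact Or.inl (by rw [← mul_assoc, hz2, one_mul])
  let pt : Subgroup.centralizer ({z} : Set G) →* Equiv.Perm (Fin 5) :=
    { toFun := fun c => ⟨p c, p c⁻¹, fun i => by rw [← hpm, inv_mul_cancel, hp1], fun i => by rw [← hpm, mul_inv_cancel, hp1]⟩
      map_one' := Equiv.ext hp1
      map_mul' := fun c d => Equiv.ext (hpm c d) }
  have hspec : ∀ (c : Subgroup.centralizer ({z} : Set G)) i, (c : G) * a i * (c : G)⁻¹ = a (pt c i) ∨ (c : G) * a i * (c : G)⁻¹ = z * a (pt c i) := hp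
  obtain ⟨π, hs, hk⟩ := h.quot
  have hQker : ∀ c, π c = 1 → pt c = 1 := by
    intro c hc
    refine Equiv.ext fun i => hu ((c : G) * a i * (c : G)⁻¹) _ i (hspec c i) ?_
    rcases h.comm _ ((hk c).mp hc) _ (hmem i).1 with e | e
    · exact Or.inl (by rw [e, mul_inv_cancel_right])
    · exact Or.inr (by rw [e, ← mul_assoc z, mul_inv_cancel_right])
  have hker : ∀ c, pt c = 1 → (c : G) ∈ Q := by
    intro c hc
    by_contra hcQ
    haveI : (pt.ker.map π).Normal := Subgroup.Normal.map inferInstance π hs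
    haveI : IsSimpleGroup (alternatingGroup (Fin 5)) := alternatingGroup.isSimpleGroup (by simp)
    rcases IsSimpleGroup.eq_bot_or_eq_top_of_normal (pt.ker.map π) inferInstance with e | e
    · exact hcQ ((hk c).mp ((Subgroup.mem_bot).mp (e ▸ Subgroup.mem_map_of_mem π (show c ∈ pt.ker from hc))))
    · have hall : ∀ d, pt d = 1 := by
        intro d
        obtain ⟨d', hd', hdd⟩ := Subgroup.mem_map.mp (e.symm ▸ Subgroup.mem_top (π d) : π d ∈ pt.ker.map π)
        have h1 : pt (d'⁻¹ * d) = 1 := hQker _ (by rw [map_mul, map_inv, hdd, inv_mul_cancel])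
        rwa [map_mul, map_inv, MonoidHom.mem_ker.mp hd', inv_one, one_mul] at h1
      obtain ⟨f, hf, hf5⟩ := h.exists_five
      have hfa : f * a 0 * f⁻¹ = a 0 ∨ f * a 0 * f⁻¹ = z * a 0 := by
        have := hspec ⟨f, hf⟩ 0
        rwa [hall] at this
      obtain ⟨h0, -, h1, hz⟩ := hmem 0
      refine (h.fix_five hf hf5 h0 ?_).elim h1 hz
      have h2 : f * (f * a 0 * f⁻¹) * f⁻¹ = a 0 := by
        rcases hfa with e | e <;> rw [e]
        · rw [e]
        · rw [← mul_assoc, h.cz hf, mul_assoc z f, mul_assoc z, e, ← mul_assoc, hz2, one_mul]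
      have hcm : Commute (f ^ 2) (a 0) := by
        show f ^ 2 * a 0 = a 0 * f ^ 2
        conv_rhs => rw [← h2]
        simp [pow_two, mul_assoc]
      have h6 := (hcm.pow_left 3).eq
      have h5 : f ^ 5 = 1 := hf5 ▸ pow_orderOf_eq_one f
      rwa [← pow_mul, show 2 * 3 = 5 + 1 by norm_num, pow_succ, h5, one_mul] at h6
  have hker' : ∀ c : Subgroup.centralizer ({z} : Set G), pt c = 1 ↔ (c : G) ∈ Q := fun c => ⟨hker c, fun hq => hQker c ((hk c).mpr hq)⟩
  refine ⟨⟨a, hmem, hcov, hanti, pt, hspec, Equiv.Perm.eq_alternatingGroup_of_index_eq_two ?_, hker'⟩⟩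
  have hKk : pt.ker = π.ker := Subgroup.ext fun c => (hker' c).trans (hk c).symm
  have h60 : Nat.card pt.range = 60 := by
    rw [← Nat.card_congr (QuotientGroup.quotientKerEquivRange pt).toEquiv]
    rw [Nat.card_congr (QuotientGroup.quotientMulEquivOfEq hKk).toEquiv,
      Nat.card_congr (QuotientGroup.quotientKerEquivOfSurjective π hs).toEquiv, nat_card_alternatingGroup, Nat.card_fin]
    rfl
  have hi := pt.range.card_mul_index
  rw [h60, Nat.card_perm, Nat.card_fin, show (5 : ℕ).factorial = 120 from rfl] at hi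
  omega

theorem ev_words_injective : Function.Injective (fun b : Fin 4 → ZMod 2 => fun j => ∑ i : Fin 4, b i * ev i.castSucc j) := by
  decide +kernel

theorem ev_words_even : ∀ b : Fin 4 → ZMod 2, ∑ j, (∑ i : Fin 4, b i * ev i.castSucc j) = 0 := by decide +kernel

namespace Model

variable {z : G} {Q : Subgroup G}

/-- The vector of an element of `Q`. -/
noncomputable def vec (M : Model z Q) (q : G) : Fin 5 → ZMod 2 :=
  fun i => @ite _ (q * M.a i = M.a i * q) (Classical.propDecidable _) 0 1

theorem vec_eq_zero (M : Model z Q) {q : G} {i : Fin 5} : M.vec q i = 0 ↔ q * M.a i = M.a i * q := by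
  unfold vec; split <;> simp_all

theorem vec_z (M : Model z Q) (h : Core z Q) : M.vec z = 0 :=
  funext fun i => M.vec_eq_zero.mpr (h.zq (M.mem i).1).symm

theorem vec_one (M : Model z Q) : M.vec 1 = 0 :=
  funext fun i => M.vec_eq_zero.mpr (by simp)

theorem vec_a (M : Model z Q) (j : Fin 5) : M.vec (M.a j) = ev j := by
  funext i
  unfold vec ev
  by_cases e : i = j
  · subst e; simp
  · rw [if_neg e, if_neg (M.anti j i (Ne.symm e))]

theorem vec_mul (M : Model z Q) (h : Core z Q) {q r : G} (hq : q ∈ Q) (hr : r ∈ Q) :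
    M.vec (q * r) = M.vec q + M.vec r := by
  funext i
  have ha := (M.mem i).1
  have key : q * r * M.a i = q * (r * M.a i) := mul_assoc _ _ _
  show _ = M.vec q i + M.vec r i
  by_cases h1 : q * M.a i = M.a i * q <;> by_cases h2 : r * M.a i = M.a i * r
  · rw [M.vec_eq_zero.mpr h1, M.vec_eq_zero.mpr h2, add_zero, M.vec_eq_zero]
    rw [key, h2, ← mul_assoc, h1, mul_assoc]
  · have e : q * r * M.a i = z * (M.a i * (q * r)) := by
      rw [key, (h.comm r hr _ ha).resolve_left h2, ← mul_assoc, h.zq hq, mul_assoc z, ← mul_assoc q, h1, mul_assoc (M.a i)]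
    simp only [vec, if_pos h1, if_neg h2, zero_add]
    rw [if_neg]
    exact fun e' => h.ne_one (mul_eq_right.mp (e.symm.trans e'))
  · have e : q * r * M.a i = z * (M.a i * (q * r)) := by
      rw [key, h2, ← mul_assoc, (h.comm q hq _ ha).resolve_left h1]
      simp only [mul_assoc]
    simp only [vec, if_neg h1, if_pos h2, add_zero]
    rw [if_neg]
    exact fun e' => h.ne_one (mul_eq_right.mp (e.symm.trans e'))
  · have e : q * r * M.a i = M.a i * (q * r) := by
      rw [key, (h.comm r hr _ ha).resolve_left h2, ← mul_assoc, h.zq hq, mul_assoc z, ← mul_assoc q,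
        (h.comm q hq _ ha).resolve_left h1]
      simp only [← mul_assoc, h.z_sq, one_mul]
    simp only [vec, if_neg h1, if_neg h2, if_pos e]
    decide

/-- The vectors as a homomorphism. -/
noncomputable def vecHom (M : Model z Q) (h : Core z Q) : Q →* Multiplicative (Fin 5 → ZMod 2) where
  toFun q := Multiplicative.ofAdd (M.vec q)
  map_one' := by simp [M.vec_one]
  map_mul' q r := by simp [M.vec_mul h q.2 r.2]

theorem vec_basic [Finite G] (M : Model z Q) (h : Core z Q) :
    (∀ q ∈ Q, ∑ i, M.vec q i = 0) ∧ (∀ q ∈ Q, M.vec q = 0 → q = 1 ∨ q = z) := by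
  classical
  let f := M.vecHom h
  let word : (Fin 4 → ZMod 2) → Multiplicative (Fin 5 → ZMod 2) :=
    fun b => Multiplicative.ofAdd (fun j => ∑ i : Fin 4, b i * ev i.castSucc j)
  have hword : ∀ b, word b ∈ f.range := by
    intro b
    have hb : ∀ i : Fin 4, Multiplicative.ofAdd (fun j => b i * ev i.castSucc j) ∈ f.range := by
      intro i
      rcases (show ∀ c : ZMod 2, c = 0 ∨ c = 1 by decide) (b i) with e | e <;> simp only [e, zero_mul, one_mul]
      · exact one_mem _
      · exact ⟨⟨M.a i.castSucc, (M.mem _).1⟩, congrArg Multiplicative.ofAdd (M.vec_a _)⟩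
    have : word b = ∏ i : Fin 4, Multiplicative.ofAdd (fun j => b i * ev i.castSucc j) := by
      rw [← ofAdd_sum]
      refine congrArg Multiplicative.ofAdd (funext fun j => ?_)
      rw [Finset.sum_apply]
    rw [this]
    exact prod_mem fun i _ => hb i
  have hinj : Function.Injective word := fun b c e => ev_words_injective (Multiplicative.ofAdd.injective e)
  have h16 : 16 ≤ Nat.card f.range := by
    have := Nat.card_le_card_of_injective (fun b => (⟨word b, hword b⟩ : f.range)) fun b c e => hinj (congrArg Subtype.val e)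
    simpa [Nat.card_eq_fintype_card] using this
  have hzk : (⟨z, h.mem_z⟩ : Q) ∈ f.ker := congrArg Multiplicative.ofAdd (M.vec_z h)
  have h2 : 2 ≤ Nat.card f.ker := by
    have := Nat.card_le_card_of_injective (fun b : Bool => if b then (⟨_, hzk⟩ : f.ker) else 1) (by
      intro b c e
      cases b <;> cases c <;> first | rfl | (simp [Subtype.ext_iff, h.ne_one, Ne.symm h.ne_one] at e))
    simpa using this
  have hmul : Nat.card f.range * Nat.card f.ker = 32 := by
    rw [← Nat.card_congr (QuotientGroup.quotientKerEquivRange f).toEquiv, ← Subgroup.card_eq_card_quotient_mul_card_subgroup, h.card_Q]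
  have hr : Nat.card f.range = 16 := by
    have : Nat.card f.range * 2 ≤ 32 := hmul ▸ Nat.mul_le_mul_left _ h2
    omega
  have hk : Nat.card f.ker = 2 := by rw [hr] at hmul; omega
  constructor
  · intro q hq
    have hb : Function.Bijective (fun b => (⟨word b, hword b⟩ : f.range)) :=
      Function.Injective.bijective_of_nat_card_le (fun b c e => hinj (congrArg Subtype.val e))
        (by rw [hr]; simp [Nat.card_eq_fintype_card])
    obtain ⟨b, hb⟩ := hb.2 ⟨f ⟨q, hq⟩, _, rfl⟩
    have e : M.vec q = fun j => ∑ i : Fin 4, b i * ev i.castSucc j :=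
      (Multiplicative.ofAdd.injective (congrArg Subtype.val hb)).symm
    rw [e]
    exact ev_words_even b
  · intro q hq hv
    by_contra hcon
    push Not at hcon
    haveI := Fintype.ofFinite f.ker
    have hqk : (⟨q, hq⟩ : Q) ∈ f.ker := congrArg Multiplicative.ofAdd hv
    have h3 : ({1, ⟨_, hzk⟩, ⟨_, hqk⟩} : Finset f.ker).card ≤ 2 :=
      (Finset.card_le_univ _).trans (by rw [← Nat.card_eq_fintype_card, hk])
    rw [Finset.card_insert_of_notMem (by simp [Subtype.ext_iff, Ne.symm h.ne_one, Ne.symm hcon.1]),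
      Finset.card_pair (by simp [Subtype.ext_iff, Ne.symm hcon.2])] at h3
    omega

theorem vec_even [Finite G] (M : Model z Q) (h : Core z Q) {q : G} (hq : q ∈ Q) : ∑ i, M.vec q i = 0 :=
  (M.vec_basic h).1 q hq

theorem vec_inv (M : Model z Q) (h : Core z Q) {q : G} (hq : q ∈ Q) : M.vec q⁻¹ = M.vec q := by
  have := M.vec_mul h (Q.inv_mem hq) hq
  rw [inv_mul_cancel, M.vec_one] at this
  funext i
  have h1 := (congrFun this i).symm
  exact (show ∀ c d : ZMod 2, c + d = 0 → c = d by decide) _ _ h1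

theorem vec_inj [Finite G] (M : Model z Q) (h : Core z Q) {q r : G} (hq : q ∈ Q) (hr : r ∈ Q)
    (e : M.vec q = M.vec r) : r = q ∨ r = z * q := by
  have h0 : M.vec (r * q⁻¹) = 0 := by
    rw [M.vec_mul h hr (Q.inv_mem hq), M.vec_inv h hq, e]
    exact funext fun i => (show ∀ c : ZMod 2, c + c = 0 by decide) _
  rcases (M.vec_basic h).2 _ (Q.mul_mem hr (Q.inv_mem hq)) h0 with e' | e'
  · exact Or.inl (mul_inv_eq_one.mp e')
  · exact Or.inr (mul_inv_eq_iff_eq_mul.mp e')

theorem sq_iff [Finite G] (M : Model z Q) (h : Core z Q) {q : G} (hq : q ∈ Q) :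
    q * q = 1 ↔ M.vec q = 0 ∨ ∃ i, M.vec q = ev i := by
  constructor
  · intro h2
    by_cases h1 : q = 1
    · exact Or.inl (h1 ▸ M.vec_one)
    by_cases hz : q = z
    · exact Or.inl (hz ▸ M.vec_z h)
    obtain ⟨i, e | e⟩ := M.cover q ⟨hq, h2, h1, hz⟩
    · exact Or.inr ⟨i, e ▸ M.vec_a i⟩
    · exact Or.inr ⟨i, by rw [e, M.vec_mul h h.mem_z (M.mem i).1, M.vec_z h, zero_add, M.vec_a]⟩
  · rintro (e | ⟨i, e⟩)
    · rcases (M.vec_basic h).2 q hq e with rfl | rfl
      · simp
      · exact h.z_sq
    · rcases M.vec_inj h (M.mem i).1 hq (by rw [M.vec_a, e]) with e' | e'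
      · rw [e']; exact (M.mem i).2.1
      · rw [e']; exact (h.zmul_mem (M.mem i)).2.1

theorem vec_conj (M : Model z Q) (h : Core z Q) (c : Subgroup.centralizer ({z} : Set G)) {q : G} (hq : q ∈ Q) (i : Fin 5) :
    M.vec ((c : G) * q * (c : G)⁻¹) (M.pt c i) = M.vec q i := by
  have hiff : (c : G) * q * (c : G)⁻¹ * M.a (M.pt c i) = M.a (M.pt c i) * ((c : G) * q * (c : G)⁻¹) ↔
      q * M.a i = M.a i * q := by
    have e1 : (c : G) * q * (c : G)⁻¹ * ((c : G) * M.a i * (c : G)⁻¹) = (c : G) * M.a i * (c : G)⁻¹ * ((c : G) * q * (c : G)⁻¹)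
        ↔ q * M.a i = M.a i * q := by rw [conj_mul, conj_mul, mul_left_inj, mul_right_inj]
    rcases M.pt_spec c i with e | e <;> rw [e] at e1
    · exact e1
    · rwa [← mul_assoc _ z, h.zq (h.norm c c.2 q hq), mul_assoc z, mul_assoc z, mul_right_inj] at e1
  classical
  simp only [vec]
  congr 1
  exact propext hiff

end Model

end Cfsg.Agent.Invol.HJ
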