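import Cfsg.Agent.Lib.Invol.HJ.Order

/-!
# Centralizers of elements of odd prime order in the simple factor of `C(t)`
-/

set_option autoImplicit false
set_option linter.unusedSectionVars false
set_option linter.style.haveILetI false

namespace Cfsg.Agent.Invol.HJ

open Cfsg

variable {G : Type*} [Group G] {z : G} {Q : Subgroup G} {t x σ r a : G} {K : Subgroup G}

/-- An element of order three turning `V` and centralizing the simple factor. -/
structure Rot (z t x r a : G) (K : Subgroup G) : Prop where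
  a3 : a * a * a = 1
  at' : a * t ≠ t * a
  az : a * z = z * a
  ax : a * x = x * a
  aV : ∀ v ∈ vfix z t r, a * v * a⁻¹ ∈ vfix z t r
  aK : ∀ k ∈ K, a * k = k * a
  orb : ∀ v ∈ vfix z t r, v ≠ 1 → ∃ i : ℕ, a ^ i * t * (a ^ i)⁻¹ = v
  dec : ∀ n ∈ Subgroup.normalizer (vfix z t r : Set G), ∃ i : ℕ, (a ^ i)⁻¹ * n ∈ Subgroup.centralizer ({t} : Set G)
  aN : a ∈ Subgroup.normalizer (vfix z t r : Set G)

theorem Good.exists_rot [Finite G] (g : Good z Q t x σ r) (h : Setting z Q) (c : Comp z t x r K) :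
    ∃ a, Rot z t x r a K := by
  classical
  letI := Fintype.ofFinite G
  set N := Subgroup.normalizer (vfix z t r : Set G) with hN
  set M := Subgroup.centralizer ({t} : Set G) with hM
  obtain ⟨a, ha3, hat, haz, hax, har, haV⟩ := g.exists_turn_V h
  have hNmem : ∀ {n : G}, n ∈ N ↔ ∀ v, v ∈ vfix z t r ↔ n * v * n⁻¹ ∈ vfix z t r := Subgroup.mem_normalizer_iff
  have hainv : a⁻¹ = a * a := inv_eq_of_mul_eq_one_right (by rw [← mul_assoc]; exact ha3)
  have haN : a ∈ N := hNmem.mpr fun v => by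
    refine ⟨haV v, fun hv => ?_⟩
    have := haV _ (haV _ hv)
    rwa [show a * (a * (a * v * a⁻¹) * a⁻¹) * a⁻¹ = (a * a * a) * v * (a * a * a)⁻¹ by group, ha3, one_mul, inv_one,
      mul_one] at this
  have hNM : ∀ n ∈ N, ∀ m ∈ M, n * m * n⁻¹ ∈ M := by
    intro n hn m hm
    refine Subgroup.mem_centralizer_singleton_iff.mpr ?_
    have ht' : n⁻¹ * t * n ∈ vfix z t r := by
      refine (hNmem.mp hn _).mpr ?_
      rw [show n * (n⁻¹ * t * n) * n⁻¹ = t by group]
      exact g.t_mem_V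
    have := congrArg (fun u => n * u * n⁻¹) (g.V_central h c hm ht')
    simpa [mul_assoc] using this
  have hKN : ∀ n ∈ N, ∀ k ∈ K, n * k * n⁻¹ ∈ K := fun n hn k hk => g.conj_K h c (hNM n hn) hk
  -- `a` centralizes the complement
  have haK : ∀ k ∈ K, a * k = k * a := fun k hk => g.cent_K_of_fix h c (hKN a haN)
    (fun b hb => by have := hKN a⁻¹ (inv_mem haN) b hb; rwa [inv_inv] at this) haz hax har hk
  -- the orbit of `t`
  have horb : ∀ v ∈ vfix z t r, v ≠ 1 → ∃ i : ℕ, a ^ i * t * (a ^ i)⁻¹ = v := by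
    set o1 := a * t * a⁻¹ with ho1
    set o2 := a * o1 * a⁻¹ with ho2
    have ho3 : a * o2 * a⁻¹ = t := by
      rw [ho2, ho1, show a * (a * (a * t * a⁻¹) * a⁻¹) * a⁻¹ = (a * a * a) * t * (a * a * a)⁻¹ by group, ha3]
      group
    have h01 : o1 ≠ t := fun e => hat (mul_inv_eq_iff_eq_mul.mp e)
    have h02 : o2 ≠ t := fun e => h01 (by
      calc o1 = a * o2 * a⁻¹ := by rw [e]
        _ = t := ho3)
    have h12 : o2 ≠ o1 := fun e => h01 (mul_left_cancel (mul_right_cancel e))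
    have ht1 : t ≠ 1 := fun e => g.tQ (e ▸ Q.one_mem)
    have hone : ∀ {w : G}, w ≠ 1 → a * w * a⁻¹ ≠ 1 := fun hw e => hw (by rwa [mul_inv_eq_one, mul_eq_left] at e)
    intro v hv hv1
    by_contra hcon
    push Not at hcon
    have e0 : v ≠ t := fun e => hcon 0 (by rw [e]; simp)
    have e1 : v ≠ o1 := fun e => hcon 1 (by rw [e, ho1, pow_one])
    have e2 : v ≠ o2 := fun e => hcon 2 (by rw [e, ho2, ho1, pow_two]; group)
    haveI := Fintype.ofFinite (vfix z t r)
    have hV1 : o1 ∈ vfix z t r := haV t g.t_mem_V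
    have hV2 : o2 ∈ vfix z t r := haV o1 hV1
    have h5 : ({1, ⟨t, g.t_mem_V⟩, ⟨o1, hV1⟩, ⟨o2, hV2⟩, ⟨v, hv⟩} : Finset (vfix z t r)).card ≤ 4 :=
      (Finset.card_le_univ _).trans (by rw [← Nat.card_eq_fintype_card, g.card_V h])
    rw [Finset.card_insert_of_notMem (by simp [Subtype.ext_iff, Ne.symm ht1, Ne.symm (hone ht1), Ne.symm (hone (hone ht1)), ho1, ho2, Ne.symm hv1]),
      Finset.card_insert_of_notMem (by simp [Subtype.ext_iff, Ne.symm h01, Ne.symm h02, Ne.symm e0]),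
      Finset.card_insert_of_notMem (by simp [Subtype.ext_iff, Ne.symm h12, Ne.symm e1]),
      Finset.card_pair (by simp [Subtype.ext_iff, Ne.symm e2])] at h5
    omega
  have hNdec : ∀ n ∈ N, ∃ i : ℕ, (a ^ i)⁻¹ * n ∈ M := by
    intro n hn
    obtain ⟨i, hi⟩ := horb _ ((hNmem.mp hn t).mp g.t_mem_V) fun e => g.tQ (by
      rw [mul_inv_eq_one, mul_eq_left] at e; rw [e]; exact Q.one_mem)
    refine ⟨i, Subgroup.mem_centralizer_singleton_iff.mpr (mul_inv_eq_iff_eq_mul.mp ?_)⟩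
    calc (a ^ i)⁻¹ * n * t * ((a ^ i)⁻¹ * n)⁻¹ = (a ^ i)⁻¹ * (n * t * n⁻¹) * a ^ i := by group
      _ = t := by rw [← hi]; group
  exact ⟨a, ha3, hat, haz, hax, haV, haK, horb, hNdec, haN⟩

theorem a5_cent_prime : ∀ c : alternatingGroup (Fin 5), c * c ≠ 1 → ∀ g : alternatingGroup (Fin 5), g * c = c * g →
    g = 1 ∨ g = c ∨ g = c * c ∨ g = c * c * c ∨ g = c * c * c * c := by decide +kernel

theorem a5_inverter : ∀ c : alternatingGroup (Fin 5), c * c ≠ 1 →
    ∃ w : alternatingGroup (Fin 5), w ≠ 1 ∧ w * w = 1 ∧ w * c * w⁻¹ = c⁻¹ := by decide +kernel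

theorem a5_three_cases : ∀ c d : alternatingGroup (Fin 5), c ≠ 1 → c * c * c = 1 → d ≠ 1 → d * d * d = 1 →
    ∃ g : alternatingGroup (Fin 5), g * c * g⁻¹ = d := by decide +kernel

/-- Centralizer of an involution outside a central cyclic subgroup, modulo that subgroup: twelve or sixty. -/
theorem quot_four [Finite G] {p : ℕ} [Fact p.Prime] (hp2 : p ≠ 2) {c t : G} (hc : orderOf c = p) (ht : orderOf t = 2)
    (V : Subgroup G) (hV4 : Nat.card V = 4) (hV2 : ∀ v ∈ V, v * v = 1) (htV : t ∈ V)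
    (hVc : V ≤ Subgroup.centralizer ({c} : Set G))
    (hCt : ∀ y ∈ Subgroup.centralizer ({c} : Set G), y * t = t * y → ∃ v ∈ V, ∃ i : ℕ, y = v * c ^ i)
    (hN : ∀ n ∈ Subgroup.centralizer ({c} : Set G), n ∈ Subgroup.normalizer (V : Set G) → (∃ k, orderOf n = 2 ^ k) → n ∈ V)
    (hfus : ∀ v ∈ V, v ≠ 1 → ∃ y ∈ Subgroup.centralizer ({c} : Set G), y * t * y⁻¹ = v) :
    (Nat.card (Subgroup.centralizer ({c} : Set G)) = 12 * p ∨ Nat.card (Subgroup.centralizer ({c} : Set G)) = 60 * p) ∧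
      (∀ u ∈ Subgroup.centralizer ({c} : Set G), orderOf u = 2 →
        ∃ y ∈ Subgroup.centralizer ({c} : Set G), y * t * y⁻¹ = u) ∧
      (Nat.card (Subgroup.centralizer ({c} : Set G)) = 60 * p →
        ∃ φ : Subgroup.centralizer ({c} : Set G) →* alternatingGroup (Fin 5), Function.Surjective φ ∧
          ∀ y, φ y = 1 ↔ (y : G) ∈ Subgroup.zpowers c) := by
  classical
  haveI : Fact (Nat.Prime 2) := ⟨Nat.prime_two⟩
  set X := Subgroup.centralizer ({c} : Set G) with hX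
  have hcX : c ∈ X := Subgroup.mem_centralizer_singleton_iff.mpr rfl
  have hcp : c ^ p = 1 := hc ▸ pow_orderOf_eq_one c
  have hpodd : Odd p := (Fact.out : p.Prime).odd_of_ne_two hp2
  -- the four group is a Sylow subgroup
  have hV' : IsPGroup 2 (V.subgroupOf X) := IsPGroup.of_card (n := 2) (by
    rw [Nat.card_congr (Subgroup.subgroupOfEquivOfLe hVc).toEquiv, hV4]; norm_num)
  obtain ⟨P, hP⟩ := hV'.exists_le_sylow
  have hPV : (P : Subgroup X) = V.subgroupOf X := by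
    by_contra hne
    have hlt : (V.subgroupOf X).subgroupOf P < ⊤ :=
      lt_top_iff_ne_top.mpr fun e => hne (le_antisymm (Subgroup.subgroupOf_eq_top.mp e) hP)
    obtain ⟨⟨n, hnP⟩, hnN, hnS⟩ := SetLike.exists_of_lt (Group.normalizerCondition_of_isNilpotent (h := P.2.isNilpotent) _ hlt)
    refine hnS (hN n.1 n.2 ?_ ?_)
    · refine Subgroup.mem_normalizer_iff.mpr fun s => ⟨fun hs => ?_, fun hs => ?_⟩
      · exact (Subgroup.mem_normalizer_iff.mp hnN ⟨⟨s, hVc hs⟩, hP hs⟩).mp hs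
      · have hsX : s ∈ X := by
          have := X.mul_mem (X.mul_mem (X.inv_mem n.2) (hVc hs)) n.2
          simpa [mul_assoc] using this
        have hsP : (⟨s, hsX⟩ : X) ∈ (P : Subgroup X) := by
          have h1 : n * ⟨s, hsX⟩ * n⁻¹ ∈ (P : Subgroup X) := hP hs
          have := Subgroup.mul_mem _ (Subgroup.mul_mem _ (Subgroup.inv_mem _ hnP) h1) hnP
          simpa [mul_assoc] using this
        exact (Subgroup.mem_normalizer_iff.mp hnN ⟨⟨s, hsX⟩, hsP⟩).mpr hs
    · obtain ⟨k, hk⟩ := IsPGroup.iff_orderOf.mp P.2 ⟨n, hnP⟩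
      exact ⟨k, by rw [← hk, Subgroup.orderOf_mk, Subgroup.orderOf_coe]⟩
  have hinv : ∀ u ∈ X, orderOf u = 2 → ∃ y ∈ X, y * t * y⁻¹ = u := by
    intro u hu huo
    have hup : IsPGroup 2 (Subgroup.zpowers (⟨u, hu⟩ : X)) :=
      IsPGroup.of_card (n := 1) (by rw [Nat.card_zpowers, Subgroup.orderOf_mk, huo, pow_one])
    obtain ⟨R, hR⟩ := hup.exists_le_sylow
    obtain ⟨m, hm⟩ := MulAction.exists_smul_eq X R P
    have hmem : m * ⟨u, hu⟩ * m⁻¹ ∈ (P : Subgroup X) := by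
      rw [← hm, Sylow.coe_subgroup_smul]
      exact ⟨⟨u, hu⟩, hR (Subgroup.mem_zpowers _), rfl⟩
    rw [hPV, Subgroup.mem_subgroupOf] at hmem
    push_cast at hmem
    obtain ⟨y, hy, e⟩ := hfus _ hmem fun e => (sq_of_two huo).2 (by rwa [mul_inv_eq_one, mul_eq_left] at e)
    refine ⟨(m : G)⁻¹ * y, X.mul_mem (X.inv_mem m.2) hy, ?_⟩
    rw [show (m : G)⁻¹ * y * t * ((m : G)⁻¹ * y)⁻¹ = (m : G)⁻¹ * (y * t * y⁻¹) * m by group, e]
    group
  -- the quotient by the central subgroup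
  set F := (Subgroup.zpowers c).subgroupOf X with hF
  haveI hFn : F.Normal := ⟨fun w hw y => by
    obtain ⟨i, hi⟩ := Subgroup.mem_zpowers_iff.mp (show (w : G) ∈ Subgroup.zpowers c from hw)
    show (y : G) * w * (y : G)⁻¹ ∈ Subgroup.zpowers c
    rw [← hi, ((show Commute (y : G) c from Subgroup.mem_centralizer_singleton_iff.mp y.2).zpow_right i).eq,
      mul_inv_cancel_right]
    exact Subgroup.zpow_mem _ (Subgroup.mem_zpowers c) i⟩
  have hFp : Nat.card F = p := by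
    rw [hF, Nat.card_congr (Subgroup.subgroupOfEquivOfLe (Subgroup.zpowers_le.mpr hcX)).toEquiv, Nat.card_zpowers, hc]
  have hFodd : ∀ {y : G}, y ∈ Subgroup.zpowers c → y * y = 1 → y = 1 := by
    intro y hy h2
    refine orderOf_eq_one_iff.mp (Nat.eq_one_of_dvd_coprimes (Nat.coprime_two_left.mpr hpodd)
      (orderOf_dvd_of_pow_eq_one (by rw [pow_two]; exact h2)) ?_)
    exact hc ▸ Nat.card_zpowers c ▸ Subgroup.orderOf_dvd_natCard _ hy
  set π := QuotientGroup.mk' F with hπ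
  have hπ1 : ∀ {y : X}, π y = 1 ↔ (y : G) ∈ Subgroup.zpowers c := fun {y} => by
    rw [hπ, QuotientGroup.mk'_apply, QuotientGroup.eq_one_iff, hF, Subgroup.mem_subgroupOf]
  set tX : X := ⟨t, hVc htV⟩
  have htc : ∀ {y : G}, y ∈ Subgroup.zpowers c → t * y = y * t := fun {y} hy => by
    obtain ⟨i, rfl⟩ := Subgroup.mem_zpowers_iff.mp hy
    exact ((show Commute t c from Subgroup.mem_centralizer_singleton_iff.mp (hVc htV)).zpow_right i).eq
  have ht1 : orderOf (π tX) = 2 := by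
    refine orderOf_two_iff'.mpr ⟨by rw [← map_mul, show tX * tX = 1 from Subtype.ext (hV2 t htV), map_one], fun e => ?_⟩
    exact (sq_of_two ht).2 (hFodd (hπ1.mp e) (hV2 t htV))
  have hcent : ∀ w : X ⧸ F, w ∈ Subgroup.centralizer ({π tX} : Set (X ⧸ F)) → ∃ v, ∃ hv : v ∈ V, π ⟨v, hVc hv⟩ = w := by
    intro w hw
    obtain ⟨y, rfl⟩ : ∃ y, π y = w := QuotientGroup.mk'_surjective F w
    have e : π (y * tX * y⁻¹ * tX⁻¹) = 1 := by
      rw [map_mul, map_mul, map_mul, map_inv, map_inv, Subgroup.mem_centralizer_singleton_iff.mp hw]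
      group
    have hf := hπ1.mp e
    push_cast at hf
    have hyt : (y : G) * t * (y : G)⁻¹ * t⁻¹ = 1 := by
      refine hFodd hf ?_
      set f := (y : G) * t * (y : G)⁻¹ * t⁻¹ with hfdef
      have hft : f * t = (y : G) * t * (y : G)⁻¹ := by rw [hfdef, inv_mul_cancel_right]
      have h2 : f * t * (f * t) = 1 := by rw [hft, conj_mul, hV2 t htV, mul_one, mul_inv_cancel]
      rwa [mul_assoc, ← mul_assoc t f t, htc hf, mul_assoc f t t, hV2 t htV, mul_one] at h2
    obtain ⟨v, hv, i, hi⟩ := hCt y y.2 (mul_inv_eq_iff_eq_mul.mp (mul_inv_eq_one.mp hyt))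
    refine ⟨v, hv, ?_⟩
    rw [show y = ⟨v, hVc hv⟩ * (⟨c, hcX⟩ : X) ^ i from Subtype.ext (by push_cast; exact hi), map_mul,
      show π ((⟨c, hcX⟩ : X) ^ i) = 1 from hπ1.mpr (pow_mem (Subgroup.mem_zpowers c) i), mul_one]
  have hVmem : ∀ (v : G) (hv : v ∈ V), π ⟨v, hVc hv⟩ ∈ Subgroup.centralizer ({π tX} : Set (X ⧸ F)) := fun v hv => by
    refine Subgroup.mem_centralizer_singleton_iff.mpr ?_
    rw [← map_mul, ← map_mul]
    refine congrArg π (Subtype.ext ?_)
    have hvt := hV2 (v * t) (V.mul_mem hv htV)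
    show v * t = t * v
    have := inv_eq_of_mul_eq_one_right hvt
    rw [mul_inv_rev, inv_eq_of_mul_eq_one_right (hV2 t htV), inv_eq_of_mul_eq_one_right (hV2 v hv)] at this
    exact this.symm
  have h4 : Nat.card (Subgroup.centralizer ({π tX} : Set (X ⧸ F))) = 4 := by
    rw [← hV4]
    refine (Nat.card_congr (Equiv.ofBijective (fun v : V => (⟨π ⟨v, hVc v.2⟩, hVmem v v.2⟩ :
      Subgroup.centralizer ({π tX} : Set (X ⧸ F)))) ⟨fun v w e => ?_, fun w => ?_⟩)).symm
    · have e' : π ((⟨(v : G), hVc v.2⟩ : X)⁻¹ * ⟨(w : G), hVc w.2⟩) = 1 := by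
        have e2 : π ⟨(v : G), hVc v.2⟩ = π ⟨(w : G), hVc w.2⟩ := congrArg Subtype.val e
        rw [map_mul, map_inv, e2, inv_mul_cancel]
      have := hFodd (hπ1.mp e') (by push_cast; exact hV2 _ (V.mul_mem (V.inv_mem v.2) w.2))
      push_cast at this
      exact Subtype.ext (inv_mul_eq_one.mp this)
    · obtain ⟨v, hv, e⟩ := hcent w w.2
      exact ⟨⟨v, hv⟩, Subtype.ext e⟩
  have hexp : ∀ w ∈ Subgroup.centralizer ({π tX} : Set (X ⧸ F)), w * w = 1 := by
    intro w hw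
    obtain ⟨v, hv, rfl⟩ := hcent w hw
    rw [← map_mul, show (⟨v, hVc hv⟩ : X) * ⟨v, hVc hv⟩ = 1 from Subtype.ext (hV2 v hv), map_one]
  have hone : ∀ w : X ⧸ F, orderOf w = 2 → IsConj (π tX) w := by
    intro w hw
    obtain ⟨y, rfl⟩ : ∃ y, π y = w := QuotientGroup.mk'_surjective F w
    obtain ⟨m, hm⟩ := hpodd
    set u : X := y ^ p with hu
    have hy2 : ((y * y : X) : G) ∈ Subgroup.zpowers c := hπ1.mp (by rw [map_mul]; exact (sq_of_two hw).1)
    have hπu : π u = π y := by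
      rw [hu, map_pow, hm, pow_succ, pow_mul, pow_two, (sq_of_two hw).1, one_pow, one_mul]
    have hu2 : (u : G) * u = 1 := by
      obtain ⟨i, hi⟩ := Subgroup.mem_zpowers_iff.mp hy2
      rw [hu]; push_cast
      rw [← (Commute.refl (y : G)).mul_pow, show (y : G) * y = c ^ i from hi.symm, ← zpow_natCast (c ^ i) p, ← zpow_mul,
        mul_comm i, zpow_mul, zpow_natCast, hcp, one_zpow]
    have hu1 : (u : G) ≠ 1 := fun e => (sq_of_two hw).2 (by
      rw [← hπu, show u = 1 from Subtype.ext e, map_one])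
    obtain ⟨k, hk, e⟩ := hinv u u.2 (orderOf_two_iff'.mpr ⟨hu2, hu1⟩)
    refine isConj_iff.mpr ⟨π ⟨k, hk⟩, ?_⟩
    rw [← map_inv, ← map_mul, ← map_mul, ← hπu]
    exact congrArg π (Subtype.ext e)
  have hcard : Nat.card X = Nat.card (X ⧸ F) * p := by rw [Subgroup.card_eq_card_quotient_mul_card_subgroup F, hFp]
  refine ⟨?_, hinv, fun h60 => ?_⟩
  · rcases V4Order.order_eq (π tX) ht1 h4 hexp hone with e | e
    · exact Or.inl (by rw [hcard, e])
    · exact Or.inr (by rw [hcard, e])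
  · have h60' : Nat.card (X ⧸ F) = 60 := by
      rw [hcard] at h60
      exact Nat.eq_of_mul_eq_mul_right (Fact.out : p.Prime).pos h60
    haveI := V4Order.simple_of_sixty ht1 h4 hexp hone h60'
    obtain ⟨e⟩ := Cfsg.Agent.Fus.alternating_five_of_card h60'
    refine ⟨e.toMonoidHom.comp π, e.surjective.comp (QuotientGroup.mk'_surjective F), fun y => ?_⟩
    show e (π y) = 1 ↔ _
    rw [MulEquiv.map_eq_one_iff]
    exact hπ1

namespace Good

/-- `C(c) ∩ C(t) = V × ⟨c⟩`. -/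
theorem cent_in_t [Finite G] (g : Good z Q t x σ r) (h : Setting z Q) (c : Comp z t x r K) {d y : G} (hd : d ∈ K)
    (hd2 : d * d ≠ 1) (hy : y ∈ Subgroup.centralizer ({t} : Set G)) (hyd : y * d = d * y) :
    ∃ v ∈ vfix z t r, ∃ i : ℕ, y = v * d ^ i := by
  obtain ⟨e⟩ := g.iso_K h c
  obtain ⟨v, hv, hk⟩ := c.prod y hy
  have hvd : Commute v d := g.V_cent_K h c hv hd
  have hcomm : (⟨v * y, hk⟩ : K) * ⟨d, hd⟩ = ⟨d, hd⟩ * ⟨v * y, hk⟩ := Subtype.ext (hvd.mul_left hyd).eq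
  have hne : e ⟨d, hd⟩ * e ⟨d, hd⟩ ≠ 1 := fun e' => hd2 (by
    rw [← map_mul, e.map_eq_one_iff] at e'
    exact congrArg Subtype.val e')
  have hm : ∃ i : ℕ, e ⟨v * y, hk⟩ = e ⟨d, hd⟩ ^ i := by
    rcases a5_cent_prime _ hne (e ⟨v * y, hk⟩) (by rw [← map_mul, hcomm, map_mul]) with e' | e' | e' | e' | e'
    · exact ⟨0, by rw [e', pow_zero]⟩
    · exact ⟨1, by rw [e', pow_one]⟩
    · exact ⟨2, by rw [e']; simp [pow_succ]⟩
    · exact ⟨3, by rw [e']; simp [pow_succ, mul_assoc]⟩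
    · exact ⟨4, by rw [e']; simp [pow_succ, mul_assoc]⟩
  obtain ⟨i, hi⟩ := hm
  rw [← map_pow] at hi
  refine ⟨v⁻¹, inv_mem hv, i, ?_⟩
  have := congrArg Subtype.val (e.injective hi)
  push_cast at this
  rw [← this, inv_mul_cancel_left]

/-- The centralizer of an element of odd prime order in the simple factor. -/
theorem cent_odd [Finite G] (g : Good z Q t x σ r) (h : Setting z Q) (c : Comp z t x r K) (R : Rot z t x r a K)
    {p : ℕ} [Fact p.Prime] (hp2 : p ≠ 2) {d : G} (hd : d ∈ K) (hdp : orderOf d = p) :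
    (Nat.card (Subgroup.centralizer ({d} : Set G)) = 12 * p ∨ Nat.card (Subgroup.centralizer ({d} : Set G)) = 60 * p) ∧
      (∀ u ∈ Subgroup.centralizer ({d} : Set G), orderOf u = 2 →
        ∃ y ∈ Subgroup.centralizer ({d} : Set G), y * t * y⁻¹ = u) ∧
      (Nat.card (Subgroup.centralizer ({d} : Set G)) = 60 * p →
        ∃ φ : Subgroup.centralizer ({d} : Set G) →* alternatingGroup (Fin 5), Function.Surjective φ ∧
          ∀ y, φ y = 1 ↔ (y : G) ∈ Subgroup.zpowers d) := by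
  have hd2 : d * d ≠ 1 := fun e => by
    have := orderOf_dvd_of_pow_eq_one (show d ^ 2 = 1 by rw [pow_two, e])
    rw [hdp, Nat.prime_dvd_prime_iff_eq Fact.out Nat.prime_two] at this
    exact hp2 this
  have hVd : vfix z t r ≤ Subgroup.centralizer ({d} : Set G) := fun v hv =>
    Subgroup.mem_centralizer_singleton_iff.mpr (g.V_cent_K h c hv hd)
  have ha : a ∈ Subgroup.centralizer ({d} : Set G) := Subgroup.mem_centralizer_singleton_iff.mpr (R.aK d hd)
  refine quot_four hp2 hdp (orderOf_two_iff'.mpr ⟨g.t2, fun e => g.tQ (e ▸ Q.one_mem)⟩) (vfix z t r) (g.card_V h)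
    (fun v hv => g.sq h.toCore (Subgroup.mem_inf.mp hv).1) g.t_mem_V hVd ?_ ?_ ?_
  · intro y hy hyt
    exact g.cent_in_t h c hd hd2 (Subgroup.mem_centralizer_singleton_iff.mpr hyt) (Subgroup.mem_centralizer_singleton_iff.mp hy)
  · intro n hnX hnN hk
    obtain ⟨k, hk⟩ := hk
    obtain ⟨i, hi⟩ := R.dec n hnN
    have hiX : (a ^ i)⁻¹ * n ∈ Subgroup.centralizer ({d} : Set G) := mul_mem (inv_mem (pow_mem ha i)) hnX
    obtain ⟨v, hv, j, hj⟩ := g.cent_in_t h c hd hd2 hi (Subgroup.mem_centralizer_singleton_iff.mp hiX)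
    have hconj : ∀ w ∈ vfix z t r, n * w * n⁻¹ = a ^ i * w * (a ^ i)⁻¹ := fun w hw => by
      have hc := g.V_central h c hi hw
      calc n * w * n⁻¹ = a ^ i * (((a ^ i)⁻¹ * n) * w * ((a ^ i)⁻¹ * n)⁻¹) * (a ^ i)⁻¹ := by group
        _ = a ^ i * w * (a ^ i)⁻¹ := by rw [hc, mul_inv_cancel_right]
    have hV : ∀ m : ℕ, a ^ m * t * (a ^ m)⁻¹ ∈ vfix z t r := by
      intro m
      induction m with
      | zero => simpa using g.t_mem_V
      | succ m ih =>
        have := R.aV _ ih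
        rwa [show a * (a ^ m * t * (a ^ m)⁻¹) * a⁻¹ = a ^ (m + 1) * t * (a ^ (m + 1))⁻¹ by rw [pow_succ' a m]; group] at this
    have hpw : ∀ m : ℕ, n ^ m * t * (n ^ m)⁻¹ = a ^ (i * m) * t * (a ^ (i * m))⁻¹ := by
      intro m
      induction m with
      | zero => simp
      | succ m ih =>
        rw [pow_succ' n m, show n * n ^ m * t * (n * n ^ m)⁻¹ = n * (n ^ m * t * (n ^ m)⁻¹) * n⁻¹ by group, ih, hconj _ (hV _),
          show i * (m + 1) = i + i * m by ring, pow_add a i (i * m)]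
        group
    have hi3 : a ^ i = 1 := by
      haveI : Fact (Nat.Prime 3) := ⟨Nat.prime_three⟩
      have ha1 : a ≠ 1 := fun e => R.at' (by rw [e, one_mul, mul_one])
      have hao : orderOf a = 3 := orderOf_eq_prime (by rw [pow_three', R.a3]) ha1
      have e1 : a ^ (i * 2 ^ k) * t * (a ^ (i * 2 ^ k))⁻¹ = t := by rw [← hpw, ← hk, pow_orderOf_eq_one]; group
      by_contra hne
      have h3 : ¬ 3 ∣ i * 2 ^ k := by
        intro h3
        rcases (Nat.Prime.dvd_mul Nat.prime_three).mp h3 with h3 | h3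
        · exact hne (orderOf_dvd_iff_pow_eq_one.mp (hao ▸ h3))
        · exact absurd (Nat.prime_three.dvd_of_dvd_pow h3) (by norm_num)
      obtain ⟨m, hm⟩ := exists_pow_eq_self_of_coprime (x := a) (n := i * 2 ^ k)
        (by rw [hao]; exact ((Nat.Prime.coprime_iff_not_dvd Nat.prime_three).mpr h3).symm)
      have hc : Commute (a ^ (i * 2 ^ k)) t := mul_inv_eq_iff_eq_mul.mp e1
      exact R.at' (by have := (hc.pow_left m).eq; rwa [hm] at this)
    rw [hi3, inv_one, one_mul] at hj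
    have hn_p : n ^ p = v ^ p := by
      rw [hj, (show Commute v (d ^ j) from (show Commute v d from g.V_cent_K h c hv hd).pow_right j).mul_pow,
        ← pow_mul, mul_comm j, pow_mul, show d ^ p = 1 from hdp ▸ pow_orderOf_eq_one d, one_pow, mul_one]
    obtain ⟨m, hm⟩ := exists_pow_eq_self_of_coprime (x := n) (n := p)
      (by rw [hk]; exact Nat.Coprime.pow_right _ ((Nat.coprime_two_left.mpr ((Fact.out : p.Prime).odd_of_ne_two hp2)).symm))
    rw [← hm, hn_p]
    exact pow_mem (pow_mem hv p) m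
  · intro v hv hv1
    obtain ⟨i, hi⟩ := R.orb v hv hv1
    exact ⟨a ^ i, pow_mem ha i, hi⟩

end Good

end Cfsg.Agent.Invol.HJ
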