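import Cfsg.Agent.Lib.Invol.HJ.Main

/-!
# The order of a group of Hall-Janko type
-/

set_option autoImplicit false
set_option linter.unusedSectionVars false
set_option linter.style.haveILetI false

namespace Cfsg.Agent.Invol.HJ

open Cfsg

variable {G : Type*} [Group G] {z : G} {Q : Subgroup G} {t x σ r : G} {K : Subgroup G}

namespace Good

/-- The conjugates of `z` in `C(t)` lie in the simple factor. -/
theorem zclass_K [Finite G] (g : Good z Q t x σ r) (h : Setting z Q) (c : Comp z t x r K) {w : G}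
    (hw : w ∈ Subgroup.centralizer ({t} : Set G)) (hwz : IsConj z w) : w ∈ K := by
  have hw2 : w * w = 1 := by
    obtain ⟨k, rfl⟩ := isConj_iff.mp hwz
    rw [conj_mul, h.z_sq, mul_one, mul_inv_cancel]
  obtain ⟨v, hv, hk⟩ := c.prod w hw
  by_contra hwK
  have hv1 : v ≠ 1 := fun e => hwK (by rwa [e, one_mul] at hk)
  have hcv : Commute v w := (g.V_central h c hw hv).symm
  have hk2 : v * w * (v * w) = 1 := by
    rw [← pow_two, hcv.mul_pow, pow_two, pow_two, g.sq h.toCore (Subgroup.mem_inf.mp hv).1, hw2, one_mul]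
  have hvQ : v ∉ Q := fun e => hv1 (g.V_Q h.toCore hv e)
  have hvinv : v⁻¹ = v := inv_eq_of_mul_eq_one_right (g.sq h.toCore (Subgroup.mem_inf.mp hv).1)
  by_cases hk1 : v * w = 1
  · have e : w = v := by rw [eq_inv_of_mul_eq_one_right hk1, hvinv]
    exact hvQ (h.mem_Q_of_conj (Subgroup.mem_inf.mp (Subgroup.mem_inf.mp hv).1).1 (e ▸ hwz).symm)
  · obtain ⟨k, hkK, e⟩ := g.invol_K h c hk (orderOf_two_iff'.mpr ⟨hk2, hk1⟩)
    have e2 : k * w * k⁻¹ = v * z := by
      rw [← e, show v * (k * (v * w) * k⁻¹) = v * (k * v) * w * k⁻¹ by group, ← g.V_cent_K h c hv hkK, ← mul_assoc v v k,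
        g.sq h.toCore (Subgroup.mem_inf.mp hv).1, one_mul]
    have hvz : v * z ∈ Subgroup.centralizer ({z} : Set G) :=
      mul_mem (Subgroup.mem_inf.mp (Subgroup.mem_inf.mp hv).1).1 h.z_mem_C
    exact hvQ ((Q.mul_mem_cancel_right h.mem_z).mp
      (h.mem_Q_of_conj hvz (e2 ▸ hwz.trans (isConj_iff.mpr ⟨k, rfl⟩)).symm))

set_option maxHeartbeats 1000000 in
/-- `a_{ztt} = 195`. -/
theorem aCount_t [Finite G] (g : Good z Q t x σ r) (h : Setting z Q) (c : Comp z t x r K) :
    S3313.aCount z t t = 195 := by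
  classical
  letI := Fintype.ofFinite G
  haveI : Fact (Nat.Prime 5) := ⟨by norm_num⟩
  haveI : Fact (Nat.Prime 3) := ⟨Nat.prime_three⟩
  obtain ⟨eB⟩ := g.iso_K h c
  have ht : orderOf t = 2 := orderOf_two_iff'.mpr ⟨g.t2, fun e => g.tQ (e ▸ Q.one_mem)⟩
  have hz := h.hz
  have htt := g.t2
  have htz : ¬ IsConj t z := h.outside_not_conj g.tC g.t2 g.tQ
  have ht1 : t ≠ 1 := fun e => g.tQ (e ▸ Q.one_mem)
  set V := vfix z t r with hVdef
  set B := K with hBdef
  set D := Subgroup.centralizer ({t} : Set G) with hDdef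
  have htV : t ∈ V := g.t_mem_V
  have hVle : V ≤ D := g.V_le
  have hBle : B ≤ D := c.le
  have hVBc : ∀ v ∈ V, ∀ b ∈ B, v * b = b * v := fun v hv b hb => g.V_cent_K h c hv hb
  have hVB0 : ∀ y, y ∈ V → y ∈ B → y = 1 := c.inf
  have hV2 : ∀ v ∈ V, v ^ 2 = 1 := fun v hv => by rw [pow_two]; exact g.sq h.toCore (Subgroup.mem_inf.mp hv).1
  have hDfac : ∀ d ∈ D, ∃ v ∈ V, ∃ b ∈ B, d = v * b := fun d hd => by
    obtain ⟨v, hv, hk⟩ := c.prod d hd
    exact ⟨v⁻¹, inv_mem hv, v * d, hk, by rw [inv_mul_cancel_left]⟩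
  have hzinB : ∀ y ∈ D, IsConj z y → y ∈ B := fun y hy e => g.zclass_K h c hy e
  have hord2 : ∀ {a : G}, a * a = 1 → a ≠ 1 → orderOf a = 2 := fun h1 h2 => orderOf_two_iff'.mpr ⟨h1, h2⟩
  have hordsq : ∀ {a : G}, orderOf a = 2 → a * a = 1 ∧ a ≠ 1 := fun ha => sq_of_two ha
  have hinv : ∀ {a b : G}, orderOf a = 2 → IsConj a b → orderOf b = 2 := fun {a b} ha hab => by
    obtain ⟨k, rfl⟩ := isConj_iff.mp hab
    exact (orderOf_injective (MulAut.conj k).toMonoidHom (MulAut.conj k).injective a).trans ha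
  have hBz : ∀ y ∈ B, orderOf y = 2 → IsConj y z := fun y hy ho => by
    obtain ⟨k, -, e⟩ := g.invol_K h c hy ho
    exact isConj_iff.mpr ⟨k, e⟩
  have hCt : ∀ y ∈ D, orderOf y = 2 → y ∉ B → IsConj y t := fun y hy ho hyB =>
    h.conj_of_not ho ht (fun e => hyB (hzinB y hy e.symm)) htz
  have htnB : ∀ y, IsConj t y → y ∉ B := fun y e hyB => htz (e.trans (hBz y hyB (hinv ht e)))
  have hBinv : ∀ {a : B}, a ≠ 1 → a * a = 1 → orderOf (a : G) = 2 := fun {a} h1 h2 =>
    hord2 (congrArg Subtype.val h2) fun e => h1 (Subtype.ext e)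
  have hat : S3313.aCount z t t = 195 := by
    obtain ⟨S, hScard, hS⟩ := S3313.a5_pairs'
    rw [← hScard, ← Fintype.card_coe, ← Nat.card_eq_fintype_card, S3313.aCount]
    have key : ∀ p : G × G, IsConj z p.1 ∧ IsConj t p.2 ∧ S3313.vinv p = t → ∃ x b : B,
        (x : G) = p.1 ∧ t * (b : G) = p.2 ∧ (x ≠ 1 ∧ x * x = 1) ∧ b * b = 1 ∧ ¬ (x * b * (x * b) = 1 ∧ x * b ≠ 1) := by
      rintro ⟨x, y⟩ ⟨h1, h2, h3⟩
      obtain ⟨hx2, hx1⟩ := hordsq (hinv hz h1)
      obtain ⟨hy2, hy1⟩ := hordsq (hinv ht h2)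
      have hv : t * (x * y) = x * y * t := by
        rw [← h3]; exact ((Commute.refl (x * y)).pow_left _).eq
      have hxv : x * t * x⁻¹ = t := by
        rw [← h3]
        show x * (x * y) ^ _ * x⁻¹ = (x * y) ^ _
        rw [← conj_pow, S3313.conj_involution_product x y hx2 hy2, inv_pow]
        have : S3313.vinv (x, y) * S3313.vinv (x, y) = 1 := by rw [h3, htt]
        exact inv_eq_of_mul_eq_one_right this
      have hxD : x ∈ D := Subgroup.mem_centralizer_singleton_iff.mpr (mul_inv_eq_iff_eq_mul.mp hxv)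
      have hyD : y ∈ D := (D.mul_mem_cancel_left hxD).mp (Subgroup.mem_centralizer_singleton_iff.mpr hv.symm)
      have hxB := hzinB x hxD h1
      obtain ⟨p, hp, b, hb, rfl⟩ := hDfac y hyD
      have hp2 : p * p = 1 := by rw [← pow_two]; exact hV2 p hp
      have hb2 : b * b = 1 := by
        calc b * b = (p * p) * (b * b) := by rw [hp2, one_mul]
          _ = p * (p * b) * b := by simp only [mul_assoc]
          _ = p * (b * p) * b := by rw [hVBc p hp b hb]
          _ = p * b * (p * b) := by simp only [mul_assoc]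
          _ = 1 := hy2
      have hp1 : p ≠ 1 := fun h => htnB _ h2 (by rw [h, one_mul]; exact hb)
      set c := x * b with hc
      have hcB : c ∈ B := B.mul_mem hxB hb
      have hxy : x * (p * b) = p * c := by rw [← mul_assoc, ← hVBc p hp x hxB, mul_assoc]
      have hcpc : Commute p c := hVBc p hp c hcB
      have hpo : orderOf p = 2 := hord2 hp2 hp1
      by_cases hcs : c * c = 1 ∧ c ≠ 1
      · exfalso
        have hpc1 : p * c ≠ 1 := fun h => hcs.2 (hVB0 c (by rw [eq_inv_of_mul_eq_one_right h]; exact V.inv_mem hp) hcB)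
        have ho : orderOf (p * c) = 2 := hord2 (by rw [← pow_two, hcpc.mul_pow, pow_two, pow_two, hp2, hcs.1, one_mul]) hpc1
        have h4 : p * c = t := by
          rw [← h3, show S3313.vinv (x, p * b) = (x * (p * b)) ^ (orderOf (x * (p * b)) / 2) from rfl, hxy, ho]; simp
        exact hcs.2 (hVB0 c (by rw [show c = p⁻¹ * t by rw [← h4, inv_mul_cancel_left]]; exact V.mul_mem (V.inv_mem hp) htV) hcB)
      have hodd : Odd (orderOf c) := by
        by_cases hc1 : c = 1
        · rw [hc1, orderOf_one]; exact odd_one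
        rcases S3313.a5_odd (eB ⟨x, hxB⟩) (by rw [← map_mul, ← map_one eB]; exact congrArg eB (Subtype.ext hx2)) (eB ⟨b, hb⟩)
          (by rw [← map_mul, ← map_one eB]; exact congrArg eB (Subtype.ext hb2)) with h | h | h
        all_goals (rw [← map_mul] at h; simp only [← map_mul, eB.map_eq_one_iff, Subtype.ext_iff, Subgroup.coe_mul, Subgroup.coe_one] at h)
        · exact absurd ⟨h, hc1⟩ hcs
        · rw [orderOf_eq_prime (p := 3) (by simp [pow_succ, hc, h]) hc1]; decide
        · rw [orderOf_eq_prime (p := 5) (by simp [pow_succ, hc, h]) hc1]; decide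
      have hpt : p = t := by
        rw [← h3, show S3313.vinv (x, p * b) = (x * (p * b)) ^ (orderOf (x * (p * b)) / 2) from rfl, hxy,
          hcpc.orderOf_mul_eq_mul_orderOf_of_coprime (by rw [hpo]; exact (Nat.coprime_two_left).mpr hodd), hpo,
          Nat.mul_div_cancel_left _ two_pos, hcpc.mul_pow, pow_orderOf_eq_one, mul_one]
        obtain ⟨m, hm⟩ := hodd
        rw [hm, pow_succ, pow_mul, pow_two, hp2, one_pow, one_mul]
      refine ⟨⟨x, hxB⟩, ⟨b, hb⟩, rfl, by rw [hpt], ⟨fun h => hx1 (congrArg Subtype.val h), Subtype.ext hx2⟩, Subtype.ext hb2, fun h => ?_⟩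
      exact hcs ⟨congrArg Subtype.val h.1, fun e => h.2 (Subtype.ext e)⟩
    have key2 : ∀ x b : B, x ≠ 1 → x * x = 1 → b * b = 1 → ¬ (x * b * (x * b) = 1 ∧ x * b ≠ 1) →
        IsConj z (x : G) ∧ IsConj t (t * (b : G)) ∧ S3313.vinv ((x : G), t * (b : G)) = t := by
      intro x b hx1 hx2 hb2 hcs
      have hx := hBinv hx1 hx2
      have htb : Commute t (b : G) := hVBc t htV b b.2
      have htbB : t * (b : G) ∉ B := fun h => ht1 (hVB0 t htV ((B.mul_mem_cancel_right b.2).mp h))
      have htbo : orderOf (t * (b : G)) = 2 := hord2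
        (by rw [← pow_two, htb.mul_pow, pow_two, pow_two, htt, show (b : G) * b = 1 from congrArg Subtype.val hb2, one_mul])
        (fun h => htbB (h ▸ B.one_mem))
      refine ⟨(hBz x x.2 hx).symm, (hCt _ (D.mul_mem (hVle htV) (hBle b.2)) htbo htbB).symm, ?_⟩
      set c := (x : G) * b with hc
      have hodd : Odd (orderOf c) := by
        by_cases hc1 : c = 1
        · rw [hc1, orderOf_one]; exact odd_one
        rcases S3313.a5_odd (eB x) (by rw [← map_mul, hx2, map_one]) (eB b) (by rw [← map_mul, hb2, map_one]) with h | h | h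
        all_goals simp only [← map_mul, eB.map_eq_one_iff] at h
        · exact absurd ⟨h, fun e => hc1 (congrArg Subtype.val e)⟩ hcs
        all_goals simp only [Subtype.ext_iff, Subgroup.coe_mul, Subgroup.coe_one] at h
        · rw [orderOf_eq_prime (p := 3) (by simp [pow_succ, hc, h]) hc1]; decide
        · rw [orderOf_eq_prime (p := 5) (by simp [pow_succ, hc, h]) hc1]; decide
      have htc : Commute t c := hVBc t htV c (B.mul_mem x.2 b.2)
      show ((x : G) * (t * (b : G))) ^ (orderOf ((x : G) * (t * (b : G))) / 2) = t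
      rw [show (x : G) * (t * (b : G)) = t * c by rw [← mul_assoc, ← hVBc t htV x x.2, mul_assoc],
        htc.orderOf_mul_eq_mul_orderOf_of_coprime (by rw [ht]; exact (Nat.coprime_two_left).mpr hodd), ht,
        Nat.mul_div_cancel_left _ two_pos, htc.mul_pow, pow_orderOf_eq_one, mul_one]
      obtain ⟨m, hm⟩ := hodd
      rw [hm, pow_succ, pow_mul, pow_two, htt, one_pow, one_mul]
    choose fx fb hfx hfb hfp using key
    have hto : ∀ (q : G × G) (hq : IsConj z q.1 ∧ IsConj t q.2 ∧ S3313.vinv q = t), (eB (fx q hq), eB (fb q hq)) ∈ S := by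
      intro q hq
      obtain ⟨⟨h1, h2⟩, h3, h4⟩ := hfp q hq
      refine (hS _).mpr ⟨⟨fun h => h1 (eB.map_eq_one_iff.mp h), by rw [← map_mul, h2, map_one]⟩,
        by rw [← map_mul, h3, map_one], fun h => h4 ?_⟩
      exact ⟨eB.map_eq_one_iff.mp (by rw [map_mul, map_mul]; exact h.1),
        fun e => h.2 (by rw [← map_mul, e, map_one])⟩
    have hfrom : ∀ a b, (a, b) ∈ S → IsConj z ((eB.symm a : B) : G) ∧ IsConj t (t * ((eB.symm b : B) : G)) ∧
        S3313.vinv (((eB.symm a : B) : G), t * ((eB.symm b : B) : G)) = t := by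
      intro a b hab
      obtain ⟨⟨h1, h2⟩, h3, h4⟩ := (hS _).mp hab
      dsimp only at h1 h2 h3 h4
      refine key2 _ _ (fun h => h1 ?_) (by rw [← map_mul, h2, map_one]) (by rw [← map_mul, h3, map_one]) fun h => h4 ?_
      · simpa using congrArg eB h
      · rw [← map_mul, ← map_mul] at h
        exact ⟨eB.symm.map_eq_one_iff.mp h.1, fun e => h.2 (by rw [e, map_one])⟩
    refine Nat.card_congr
      { toFun := fun p => ⟨(eB (fx p.1 p.2), eB (fb p.1 p.2)), hto p.1 p.2⟩
        invFun := fun a => ⟨(((eB.symm a.1.1 : B) : G), t * ((eB.symm a.1.2 : B) : G)), hfrom _ _ a.2⟩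
        left_inv := fun p => Subtype.ext (Prod.ext (by simp [hfx]) (by simp [hfb]))
        right_inv := fun a => ?_ }
    refine Subtype.ext (Prod.ext ?_ ?_)
    · rw [← eB.apply_symm_apply a.1.1]
      exact congrArg eB (Subtype.ext (hfx _ _))
    · rw [← eB.apply_symm_apply a.1.2]
      exact congrArg eB (Subtype.ext (mul_left_cancel (hfb _ _)))
  exact hat

end Good

/-- The order. -/
theorem order_eq_j2 [Finite G] (h : Setting z Q) : Nat.card G = 604800 := by
  obtain ⟨t0, x, σ, r, g⟩ := h.exists_good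
  obtain ⟨K, c⟩ := g.exists_comp h
  have ht : orderOf t0 = 2 := orderOf_two_iff'.mpr ⟨g.t2, fun e => g.tQ (e ▸ Q.one_mem)⟩
  have htn : ¬ IsConj t0 z := h.outside_not_conj g.tC g.t2 g.tQ
  rw [S3313.order_formula z t0 h.hz ht (fun e => htn e.symm) (fun w hw => by
    by_cases e : IsConj w z
    · exact Or.inl e
    · exact Or.inr (h.conj_of_not hw ht e htn)),
    g.card_cent h c, g.card_K h c, h.aCount_z ht htn, g.aCount_t h c, h.toCore.card_C]

end Cfsg.Agent.Invol.HJ
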