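import Cfsg.Agent.Lib.Invol.HJ.Model

/-!
# The involutions of the centralizer outside the extraspecial group
-/

set_option autoImplicit false
set_option linter.unusedSectionVars false
set_option linter.style.haveILetI false

namespace Cfsg.Agent.Invol.HJ

open Cfsg

theorem a5_invol_shape : ∀ σ : alternatingGroup (Fin 5), σ ≠ 1 → σ * σ = 1 → ∃ i j l : Fin 5,
    (σ : Equiv.Perm (Fin 5)) i = i ∧ (∀ k, (σ : Equiv.Perm (Fin 5)) k = k → k = i) ∧ j ≠ i ∧ l ≠ i ∧ l ≠ j ∧
      (σ : Equiv.Perm (Fin 5)) j ≠ l ∧ ev j + ev ((σ : Equiv.Perm (Fin 5)) j) + ev l + ev ((σ : Equiv.Perm (Fin 5)) l) = ev i := by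
  decide +kernel

set_option synthInstance.maxSize 1024 in
theorem a5_invariant_vec : ∀ σ : alternatingGroup (Fin 5), σ ≠ 1 → σ * σ = 1 → ∀ v : Fin 5 → ZMod 2,
    ∑ k, v k = 0 → (∀ k, v ((σ : Equiv.Perm (Fin 5)) k) = v k) →
      v = 0 ∨ (∃ i, (σ : Equiv.Perm (Fin 5)) i = i ∧ v = ev i) ∨
        ∃ j, (σ : Equiv.Perm (Fin 5)) j ≠ j ∧ v = ev j + ev ((σ : Equiv.Perm (Fin 5)) j) := by
  decide +kernel

theorem a5_invariant_count : ∀ σ : alternatingGroup (Fin 5), σ ≠ 1 → σ * σ = 1 →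
    (Finset.univ.filter fun v : Fin 5 → ZMod 2 => ∑ k, v k = 0 ∧ ∀ k, v ((σ : Equiv.Perm (Fin 5)) k) = v k).card ≤ 4 := by
  decide +kernel

theorem a5_point_trans : ∀ i j : Fin 5, ∃ σ : alternatingGroup (Fin 5), (σ : Equiv.Perm (Fin 5)) i = j := by decide +kernel

theorem a5_invol_trans : ∀ a b : alternatingGroup (Fin 5), a ≠ 1 → a * a = 1 → b ≠ 1 → b * b = 1 →
    ∃ c, c * a * c⁻¹ = b := by decide +kernel

variable {G : Type*} [Group G] {z : G} {Q : Subgroup G}

namespace Model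

/-- The point map into the alternating group. -/
def ptA (M : Model z Q) : Subgroup.centralizer ({z} : Set G) →* alternatingGroup (Fin 5) :=
  M.pt.codRestrict _ fun c => M.pt_range ▸ ⟨c, rfl⟩

theorem ptA_coe (M : Model z Q) (c : Subgroup.centralizer ({z} : Set G)) : (M.ptA c : Equiv.Perm (Fin 5)) = M.pt c := rfl

theorem ptA_surjective (M : Model z Q) : Function.Surjective M.ptA := by
  rintro ⟨σ, hσ⟩
  rw [← M.pt_range] at hσ
  obtain ⟨c, hc⟩ := hσ
  exact ⟨c, Subtype.ext hc⟩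

theorem ptA_ker (M : Model z Q) (c : Subgroup.centralizer ({z} : Set G)) : M.ptA c = 1 ↔ (c : G) ∈ Q := by
  rw [← M.pt_ker c, ← ptA_coe, OneMemClass.coe_eq_one]

theorem ptA_invol (M : Model z Q) {y : Subgroup.centralizer ({z} : Set G)} (hy2 : (y : G) * y = 1) (hyQ : (y : G) ∉ Q) :
    M.ptA y ≠ 1 ∧ M.ptA y * M.ptA y = 1 :=
  ⟨fun e => hyQ ((M.ptA_ker y).mp e), by rw [← map_mul, show y * y = 1 from Subtype.ext hy2, map_one]⟩

theorem swap_a (M : Model z Q) (h : Core z Q) (j k : Fin 5) (hkj : k ≠ j) :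
    M.a k * M.a j * (M.a k)⁻¹ = z * M.a j := by
  rw [(h.comm _ (M.mem k).1 _ (M.mem j).1).resolve_left (M.anti k j hkj), ← mul_assoc z, mul_inv_cancel_right]

/-- The noncentral involutions of `Q` form one class of the centralizer. -/
theorem trans_X [Finite G] (M : Model z Q) (h : Core z Q) {x x' : G} (hx : x ∈ nonCentralInvol z Q)
    (hx' : x' ∈ nonCentralInvol z Q) : ∃ c ∈ Subgroup.centralizer ({z} : Set G), c * x * c⁻¹ = x' := by
  obtain ⟨i, hi⟩ := M.cover x hx
  obtain ⟨j, hj⟩ := M.cover x' hx'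
  obtain ⟨σ, hσ⟩ := a5_point_trans i j
  obtain ⟨c, hc⟩ := M.ptA_surjective σ
  have hcx : (c : G) * x * (c : G)⁻¹ = M.a j ∨ (c : G) * x * (c : G)⁻¹ = z * M.a j := by
    have e : M.pt c i = j := by rw [← M.ptA_coe, hc, hσ]
    have := M.pt_spec c i
    rw [e] at this
    rcases hi with rfl | rfl
    · exact this
    · rw [← mul_assoc, h.cz c.2, mul_assoc z (c : G), mul_assoc z]
      rcases this with e1 | e1 <;> rw [e1]
      · exact Or.inr rfl
      · exact Or.inl (by rw [← mul_assoc, h.z_sq, one_mul])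
  obtain ⟨k, hk⟩ : ∃ k, k ≠ j := exists_ne j
  have hk1 := M.swap_a h j k hk
  have hk2 : M.a k * (z * M.a j) * (M.a k)⁻¹ = M.a j := by
    rw [← mul_assoc, h.zq (M.mem k).1, mul_assoc z (M.a k), mul_assoc z, hk1, ← mul_assoc, h.z_sq, one_mul]
  have hkC : M.a k * (c : G) ∈ Subgroup.centralizer ({z} : Set G) := mul_mem (h.le_C (M.mem k).1) c.2
  by_cases e : (c : G) * x * (c : G)⁻¹ = x'
  · exact ⟨c, c.2, e⟩
  refine ⟨_, hkC, ?_⟩
  rw [show M.a k * (c : G) * x * (M.a k * (c : G))⁻¹ = M.a k * ((c : G) * x * (c : G)⁻¹) * (M.a k)⁻¹ by group]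
  rcases hcx with e1 | e1 <;> rcases hj with rfl | rfl <;> rw [e1] at e ⊢
  · exact absurd rfl e
  · exact hk1
  · exact hk2
  · exact absurd rfl e

/-- An involution outside `Q` centralizes the pair of its fixed point. -/
theorem fix_comm [Finite G] (M : Model z Q) (h : Core z Q) {y : Subgroup.centralizer ({z} : Set G)}
    (hy2 : (y : G) * y = 1) (hyQ : (y : G) ∉ Q) {i : Fin 5} (hi : M.pt y i = i) : (y : G) * M.a i = M.a i * y := by
  obtain ⟨h1, h2⟩ := M.ptA_invol hy2 hyQ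
  obtain ⟨i', j, l, hi', huniq, hji, hli, hlj, hjl, hsum⟩ := a5_invol_shape _ h1 h2
  rw [ptA_coe] at hi' huniq hjl hsum
  obtain rfl : i = i' := huniq i hi
  set b := fun k => (y : G) * M.a k * (y : G) with hb
  have hyinv : (y : G)⁻¹ = y := inv_eq_of_mul_eq_one_right hy2
  have hbQ : ∀ k, b k ∈ Q := fun k => by
    have := h.norm y y.2 _ (M.mem k).1
    rwa [hyinv] at this
  have hbv : ∀ k, M.vec (b k) = ev (M.pt y k) := by
    intro k
    have e0 : b k = (y : G) * M.a k * (y : G)⁻¹ := by rw [hyinv]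
    rcases M.pt_spec y k with e | e <;> rw [e0, e]
    · exact M.vec_a _
    · rw [M.vec_mul h h.mem_z (M.mem _).1, M.vec_z h, zero_add, M.vec_a]
  have hne : ∀ k, M.pt y k ≠ k → M.a k * b k = z * (b k * M.a k) := by
    intro k hk
    refine (h.comm _ (M.mem k).1 _ (hbQ k)).resolve_left fun e => ?_
    have := M.vec_eq_zero.mpr e.symm
    rw [hbv, ev, if_neg (Ne.symm hk)] at this
    exact absurd this (by decide)
  set w := M.a j * b j * M.a l * b l with hw
  have hwQ : w ∈ Q := Q.mul_mem (Q.mul_mem (Q.mul_mem (M.mem j).1 (hbQ j)) (M.mem l).1) (hbQ l)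
  have hyw : (y : G) * w * (y : G) = w := by
    have e : (y : G) * w * (y : G) = (b j * M.a j) * (b l * M.a l) := by
      simp only [hw, hb]
      simp only [← mul_assoc]
      simp only [mul_assoc _ (y : G) (y : G), hy2, mul_one]
    have e2 : w = (M.a j * b j) * (M.a l * b l) := by simp only [hw, mul_assoc]
    rw [e, e2, hne j fun e => hji (huniq j e), hne l fun e => hli (huniq l e), ← mul_assoc _ z (b l * M.a l),
      mul_assoc z, h.zq (Q.mul_mem (hbQ j) (M.mem j).1), ← mul_assoc z z, h.z_sq, one_mul]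
  have hwv : M.vec w = ev i := by
    rw [hw, M.vec_mul h (Q.mul_mem (Q.mul_mem (M.mem j).1 (hbQ j)) (M.mem l).1) (hbQ l),
      M.vec_mul h (Q.mul_mem (M.mem j).1 (hbQ j)) (M.mem l).1, M.vec_mul h (M.mem j).1 (hbQ j),
      M.vec_a, M.vec_a, hbv, hbv]
    exact hsum
  have hcw : (y : G) * w = w * y := by
    calc (y : G) * w = (y : G) * w * ((y : G) * y) := by rw [hy2, mul_one]
      _ = w * y := by rw [← mul_assoc, hyw]
  rcases M.vec_inj h (M.mem i).1 hwQ (by rw [M.vec_a, hwv]) with e | e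
  · rwa [e] at hcw
  · rw [e, ← mul_assoc, h.cz y.2, mul_assoc, mul_assoc] at hcw
    exact mul_left_cancel hcw

/-- The centralizer in `Q` of an involution outside `Q`. -/
theorem cent_Q [Finite G] (M : Model z Q) (h : Core z Q) {y : Subgroup.centralizer ({z} : Set G)}
    (hy2 : (y : G) * y = 1) (hyQ : (y : G) ∉ Q) {i : Fin 5} (hi : M.pt y i = i) {q : G} (hq : q ∈ Q)
    (hc : (y : G) * q = q * y) : q = 1 ∨ q = z ∨ q = M.a i ∨ q = z * M.a i := by
  obtain ⟨h1, h2⟩ := M.ptA_invol hy2 hyQ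
  obtain ⟨i', j', l', hi', huniq, -⟩ := a5_invol_shape _ h1 h2
  rw [ptA_coe] at hi' huniq
  have hyinv : (y : G)⁻¹ = y := inv_eq_of_mul_eq_one_right hy2
  have hconj : (y : G) * q * (y : G)⁻¹ = q := by rw [hc, mul_inv_cancel_right]
  have hinvar : ∀ k, M.vec q ((M.ptA y : Equiv.Perm (Fin 5)) k) = M.vec q k := fun k => by
    have := M.vec_conj h y hq k
    rw [hconj] at this
    rwa [ptA_coe]
  rcases a5_invariant_vec _ h1 h2 _ (M.vec_even h hq) hinvar with e | ⟨i'', hi'', e⟩ | ⟨j, hj, e⟩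
  · exact ((M.vec_basic h).2 q hq e).imp_right Or.inl
  · rw [ptA_coe] at hi''
    rw [huniq i'' hi'', ← huniq i hi] at e
    rcases M.vec_inj h (M.mem i).1 hq (by rw [M.vec_a, e]) with e' | e'
    · exact Or.inr (Or.inr (Or.inl e'))
    · exact Or.inr (Or.inr (Or.inr e'))
  · exfalso
    rw [ptA_coe] at hj e
    set b := (y : G) * M.a j * (y : G) with hb
    have hbQ : b ∈ Q := by
      have := h.norm y y.2 _ (M.mem j).1
      rwa [hyinv] at this
    have hbv : M.vec b = ev (M.pt y j) := by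
      have e0 : b = (y : G) * M.a j * (y : G)⁻¹ := by rw [hyinv]
      rcases M.pt_spec y j with e | e <;> rw [e0, e]
      · exact M.vec_a _
      · rw [M.vec_mul h h.mem_z (M.mem _).1, M.vec_z h, zero_add, M.vec_a]
    have hd : M.a j * b = z * (b * M.a j) := by
      refine (h.comm _ (M.mem j).1 _ hbQ).resolve_left fun e => ?_
      have := M.vec_eq_zero.mpr e.symm
      rw [hbv, ev, if_neg (Ne.symm hj)] at this
      exact absurd this (by decide)
    have hyd : (y : G) * (M.a j * b) * (y : G) = b * M.a j := by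
      simp only [hb, ← mul_assoc]
      simp only [mul_assoc _ (y : G) (y : G), hy2, mul_one]
    have hqd := M.vec_inj h (Q.mul_mem (M.mem j).1 hbQ) hq (by rw [M.vec_mul h (M.mem j).1 hbQ, M.vec_a, hbv, e])
    have hfixd : (y : G) * (M.a j * b) * (y : G) = M.a j * b := by
      rw [hyinv] at hconj
      rcases hqd with e' | e'
      · rwa [e'] at hconj
      · rw [e', ← mul_assoc, h.cz y.2, mul_assoc z (y : G), mul_assoc z] at hconj
        exact mul_left_cancel hconj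
    rw [hyd] at hfixd
    refine h.ne_one ?_
    rw [← hfixd] at hd
    exact mul_eq_right.mp hd.symm

/-- At most eight involutions in a coset of `Q`. -/
theorem coset_bound [Fintype G] [DecidableEq G] (M : Model z Q) (h : Core z Q) {y : Subgroup.centralizer ({z} : Set G)}
    (hy2 : (y : G) * y = 1) (hyQ : (y : G) ∉ Q) (W : Finset G)
    (hWm : ∀ p ∈ W, p ∈ Q ∧ (y : G) * p * ((y : G) * p) = 1) : W.card ≤ 8 := by
  classical
  obtain ⟨h1, h2⟩ := M.ptA_invol hy2 hyQ
  have hyinv : (y : G)⁻¹ = y := inv_eq_of_mul_eq_one_right hy2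
  have him : (W.image M.vec).card ≤ 4 := by
    refine le_trans (Finset.card_le_card fun v hv => ?_) (a5_invariant_count _ h1 h2)
    obtain ⟨p, hp, rfl⟩ := Finset.mem_image.mp hv
    obtain ⟨hpQ, hp2⟩ := (hWm _ hp)
    refine Finset.mem_filter.mpr ⟨Finset.mem_univ _, M.vec_even h hpQ, fun k => ?_⟩
    have hc : (y : G) * p * (y : G)⁻¹ = p⁻¹ := by
      rw [hyinv]
      exact eq_inv_of_mul_eq_one_left (by simpa [mul_assoc] using hp2)
    have := M.vec_conj h y hpQ k
    rwa [hc, M.vec_inv h hpQ] at this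
  refine le_trans (Finset.card_le_mul_card_image W 2 fun v hv => ?_) (Nat.mul_le_mul_left 2 him)
  obtain ⟨p, hp, rfl⟩ := Finset.mem_image.mp hv
  refine le_trans (Finset.card_le_card fun p' hp' => ?_) (Finset.card_le_two (a := p) (b := z * p))
  obtain ⟨hp'W, hp'v⟩ := Finset.mem_filter.mp hp'
  rw [Finset.mem_insert, Finset.mem_singleton]
  exact M.vec_inj h (hWm _ hp).1 (hWm _ hp'W).1 hp'v.symm

/-- The involutions in the coset of an involution outside `Q` are its conjugates under `Q`. -/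
theorem coset_conj [Finite G] (M : Model z Q) (h : Core z Q) {y : Subgroup.centralizer ({z} : Set G)}
    (hy2 : (y : G) * y = 1) (hyQ : (y : G) ∉ Q) {q : G} (hq : q ∈ Q) (hyq : (y : G) * q * ((y : G) * q) = 1) :
    ∃ r ∈ Q, r * (y : G) * r⁻¹ = (y : G) * q := by
  classical
  letI := Fintype.ofFinite G
  obtain ⟨h1, h2⟩ := M.ptA_invol hy2 hyQ
  obtain ⟨i, j', l', hi, huniq, -⟩ := a5_invol_shape _ h1 h2
  rw [ptA_coe] at hi
  have hyinv : (y : G)⁻¹ = y := inv_eq_of_mul_eq_one_right hy2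
  let W : Finset G := Finset.univ.filter fun p => p ∈ Q ∧ (y : G) * p * ((y : G) * p) = 1
  have hW : W.card ≤ 8 := M.coset_bound h hy2 hyQ W fun p hp => (Finset.mem_filter.mp hp).2
  let o : Q → G := fun r => (y : G) * ((r : G) * y * (r : G)⁻¹)
  have hoW : ∀ r : Q, o r ∈ W := by
    intro r
    refine Finset.mem_filter.mpr ⟨Finset.mem_univ _, ?_, ?_⟩
    · show (y : G) * ((r : G) * y * (r : G)⁻¹) ∈ Q
      rw [show (y : G) * ((r : G) * y * (r : G)⁻¹) = ((y : G) * r * (y : G)⁻¹) * (r : G)⁻¹ by rw [hyinv]; simp only [mul_assoc]]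
      exact Q.mul_mem (h.norm y y.2 r r.2) (Q.inv_mem r.2)
    · show (y : G) * ((y : G) * ((r : G) * y * (r : G)⁻¹)) * ((y : G) * ((y : G) * ((r : G) * y * (r : G)⁻¹))) = 1
      rw [← mul_assoc (y : G) (y : G), hy2, one_mul, conj_mul, hy2, mul_one, mul_inv_cancel]
  have h8 : 32 ≤ 4 * (Finset.univ.image o).card := by
    rw [← h.card_Q, Nat.card_eq_fintype_card, ← Finset.card_univ]
    refine Finset.card_le_mul_card_image Finset.univ 4 fun v hv => ?_
    obtain ⟨r, -, rfl⟩ := Finset.mem_image.mp hv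
    refine le_trans (Finset.card_le_card_of_injOn (fun r' => (r : G)⁻¹ * r') (t := ({1, z, M.a i, z * M.a i} : Finset G)) ?_ ?_)
      Finset.card_le_four
    · intro r' hr'
      have e : (r' : G) * y * (r' : G)⁻¹ = (r : G) * y * (r : G)⁻¹ := mul_left_cancel (Finset.mem_filter.mp hr').2
      have hc : (y : G) * ((r : G)⁻¹ * r') = ((r : G)⁻¹ * r') * y := by
        have := congrArg (fun u => (r : G)⁻¹ * u * r') e
        simpa [mul_assoc] using this.symm
      simpa [Finset.mem_coe] using M.cent_Q h hy2 hyQ hi (Q.mul_mem (Q.inv_mem r.2) r'.2) hc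
    · intro a _ b _ e
      exact Subtype.ext (mul_left_cancel e)
  have heq : Finset.univ.image o = W := Finset.eq_of_subset_of_card_le
    (fun v hv => by obtain ⟨r, -, rfl⟩ := Finset.mem_image.mp hv; exact hoW r) (by omega)
  obtain ⟨r, -, hr⟩ := Finset.mem_image.mp (heq.symm ▸ Finset.mem_filter.mpr ⟨Finset.mem_univ _, hq, hyq⟩ : q ∈ Finset.univ.image o)
  refine ⟨r, r.2, ?_⟩
  rw [← hr]
  show _ = (y : G) * ((y : G) * _)
  rw [← mul_assoc (y : G) (y : G), hy2, one_mul]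

/-- One class of involutions outside `Q`. -/
theorem outside_conj [Finite G] (M : Model z Q) (h : Core z Q) {y y' : G}
    (hy : y ∈ Subgroup.centralizer ({z} : Set G)) (hy2 : y * y = 1) (hyQ : y ∉ Q)
    (hy' : y' ∈ Subgroup.centralizer ({z} : Set G)) (hy'2 : y' * y' = 1) (hy'Q : y' ∉ Q) :
    ∃ c ∈ Subgroup.centralizer ({z} : Set G), c * y * c⁻¹ = y' := by
  obtain ⟨h1, h2⟩ := M.ptA_invol (y := ⟨y, hy⟩) hy2 hyQ
  obtain ⟨h3, h4⟩ := M.ptA_invol (y := ⟨y', hy'⟩) hy'2 hy'Q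
  obtain ⟨σ, hσ⟩ := a5_invol_trans _ _ h1 h2 h3 h4
  obtain ⟨c, rfl⟩ := M.ptA_surjective σ
  set y1 : Subgroup.centralizer ({z} : Set G) := c * ⟨y, hy⟩ * c⁻¹ with hy1
  have he : M.ptA y1 = M.ptA ⟨y', hy'⟩ := by rw [hy1, map_mul, map_mul, map_inv, hσ]
  have hy12 : (y1 : G) * y1 = 1 := by
    rw [hy1]; push_cast
    rw [conj_mul, hy2, mul_one, mul_inv_cancel]
  have hy1Q : (y1 : G) ∉ Q := fun e => h3 (he ▸ (M.ptA_ker y1).mpr e)
  have hqQ : (y1 : G)⁻¹ * y' ∈ Q := (M.ptA_ker (y1⁻¹ * ⟨y', hy'⟩)).mp (by rw [map_mul, map_inv, he, inv_mul_cancel])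
  obtain ⟨r, hr, e⟩ := M.coset_conj h hy12 hy1Q hqQ (by rw [mul_inv_cancel_left, hy'2])
  rw [mul_inv_cancel_left] at e
  refine ⟨r * c, mul_mem (h.le_C hr) c.2, ?_⟩
  rw [← e, hy1]
  push_cast
  group

end Model

end Cfsg.Agent.Invol.HJ
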