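import Cfsg.Agent.Lib.Invol.HJ.Three

/-!
# The Sylow subgroups for the prime seven in a group of Hall-Janko type
-/

set_option autoImplicit false
set_option linter.unusedSectionVars false
set_option linter.style.haveILetI false

namespace Cfsg.Agent.Invol.HJ

open Cfsg

variable {G : Type*} [Group G] {z : G} {Q : Subgroup G}

theorem card_cent_conj [Finite G] (y w : G) :
    Nat.card (Subgroup.centralizer ({y * w * y⁻¹} : Set G)) = Nat.card (Subgroup.centralizer ({w} : Set G)) := by
  rw [← cent_conj, Nat.card_congr (Subgroup.equivMapOfInjective _ _ (MulAut.conj y).injective).toEquiv.symm]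

theorem card_cent_isConj [Finite G] {u w : G} (h : IsConj u w) :
    Nat.card (Subgroup.centralizer ({u} : Set G)) = Nat.card (Subgroup.centralizer ({w} : Set G)) := by
  obtain ⟨y, rfl⟩ := isConj_iff.mp h
  exact (card_cent_conj y u).symm

theorem cent_eq_of_zpowers {u w : G} (h : Subgroup.zpowers u = Subgroup.zpowers w) :
    Subgroup.centralizer ({u} : Set G) = Subgroup.centralizer ({w} : Set G) := by
  have key : ∀ u w : G, w ∈ Subgroup.zpowers u →
      Subgroup.centralizer ({u} : Set G) ≤ Subgroup.centralizer ({w} : Set G) := by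
    intro u w hw y hy
    obtain ⟨i, rfl⟩ := Subgroup.mem_zpowers_iff.mp hw
    exact Subgroup.mem_centralizer_singleton_iff.mpr
      ((show Commute y u from Subgroup.mem_centralizer_singleton_iff.mp hy).zpow_right i).eq
  exact le_antisymm (key u w (h ▸ Subgroup.mem_zpowers w)) (key w u (h.symm ▸ Subgroup.mem_zpowers u))

/-- The centralizers of the elements of order five. -/
theorem five_cards [Finite G] (h : Setting z Q) {w : G} (hw : orderOf w = 5) :
    Nat.card (Subgroup.centralizer ({w} : Set G)) = 50 ∨ Nat.card (Subgroup.centralizer ({w} : Set G)) = 300 := by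
  haveI : Fact (Nat.Prime 5) := ⟨by norm_num⟩
  obtain ⟨t, x, σ, r, g⟩ := h.exists_good
  obtain ⟨K, c⟩ := g.exists_comp h
  obtain ⟨a, R⟩ := g.exists_rot h c
  obtain ⟨k, hk, hk5⟩ := h.toCore.exists_five
  obtain ⟨S, hS⟩ := (show IsPGroup 5 (Subgroup.zpowers k) from
    IsPGroup.of_card (n := 1) (by rw [Nat.card_zpowers, hk5, pow_one])).exists_le_sylow
  obtain ⟨f, hfS, hf, -, φ, hφs, hφk⟩ := five_f g h c R S
  obtain ⟨hCS, -⟩ := five_local (order_eq_j2 h) S hfS hf φ hφs hφk
  obtain ⟨hCk, -⟩ := cent_five_z h hk hk5 S (hS (Subgroup.mem_zpowers k)) hCS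
  have hCf : Nat.card (Subgroup.centralizer ({f} : Set G)) = 300 := by
    have hker : φ.ker = (Subgroup.zpowers f).subgroupOf _ := by ext y; exact hφk y
    rw [Subgroup.card_eq_card_quotient_mul_card_subgroup φ.ker,
      Nat.card_congr (QuotientGroup.quotientKerEquivOfSurjective φ hφs).toEquiv, nat_card_alternatingGroup, Nat.card_fin,
      hker, Nat.card_congr (Subgroup.subgroupOfEquivOfLe (Subgroup.zpowers_le.mpr
        (Subgroup.mem_centralizer_singleton_iff.mpr rfl))).toEquiv, Nat.card_zpowers, hf]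
    rfl
  obtain ⟨-, -, -, X, Y, -, -, -, hall⟩ := five_main h S
  have hcard : ∀ (u v : G) (g1 g2 : G),
      (Subgroup.zpowers u).map (MulAut.conj g1).toMonoidHom = (Subgroup.zpowers v).map (MulAut.conj g2).toMonoidHom →
      Nat.card (Subgroup.centralizer ({u} : Set G)) = Nat.card (Subgroup.centralizer ({v} : Set G)) := by
    intro u v g1 g2 e
    rw [MonoidHom.map_zpowers, MonoidHom.map_zpowers] at e
    have e' := cent_eq_of_zpowers e
    rw [← card_cent_conj g1 u, ← card_cent_conj g2 v]
    exact congrArg (fun H : Subgroup G => Nat.card H) e'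
  obtain ⟨gw, hgw⟩ := hall (Subgroup.zpowers w) (by rw [Nat.card_zpowers, hw])
  obtain ⟨gk, hgk⟩ := hall (Subgroup.zpowers k) (by rw [Nat.card_zpowers, hk5])
  obtain ⟨gf, hgf⟩ := hall (Subgroup.zpowers f) (by rw [Nat.card_zpowers, hf])
  rcases hgk with ek | ek <;> rcases hgf with ef | ef
  · exact absurd (hcard k f gk gf (ek.trans ef.symm)) (by omega)
  · rcases hgw with ew | ew
    · exact Or.inl ((hcard w k gw gk (ew.trans ek.symm)).trans hCk)
    · exact Or.inr ((hcard w f gw gf (ew.trans ef.symm)).trans hCf)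
  · rcases hgw with ew | ew
    · exact Or.inr ((hcard w f gw gf (ew.trans ef.symm)).trans hCf)
    · exact Or.inl ((hcard w k gw gk (ew.trans ek.symm)).trans hCk)
  · exact absurd (hcard k f gk gf (ek.trans ef.symm)) (by omega)

/-- The centralizers of the elements of order three. -/
theorem three_cards [Finite G] (h : Setting z Q) {w : G} (hw : orderOf w = 3) :
    ¬ 7 ∣ Nat.card (Subgroup.centralizer ({w} : Set G)) := by
  haveI : Fact (Nat.Prime 3) := ⟨Nat.prime_three⟩
  obtain ⟨t, x, σ, r, g⟩ := h.exists_good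
  obtain ⟨K, c⟩ := g.exists_comp h
  obtain ⟨a, R⟩ := g.exists_rot h c
  obtain ⟨eK⟩ := g.iso_K h c
  obtain ⟨d, hd⟩ := exists_prime_orderOf_dvd_card' (G := K) 3 (by rw [g.card_K h c]; norm_num)
  rw [← Subgroup.orderOf_coe] at hd
  obtain ⟨hCd, -, -⟩ := g.cent_odd h c R (p := 3) (by norm_num) d.2 hd
  obtain ⟨hCa, -, -⟩ := rot_cent g h c R
  obtain ⟨S⟩ : Nonempty (Sylow 3 G) := inferInstance
  obtain ⟨-, -, -, a', b', -, -, -, hall⟩ := three_main h S
  rcases hall a R.order with ea | ea <;> rcases hall d hd with ed | ed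
  · have := (card_cent_isConj ea).trans (card_cent_isConj ed).symm
    omega
  · rcases hall w hw with ew | ew
    · rw [card_cent_isConj (ew.trans ea.symm), hCa]; norm_num
    · rw [card_cent_isConj (ew.trans ed.symm)]
      rcases hCd with e | e <;> rw [e] <;> norm_num
  · rcases hall w hw with ew | ew
    · rw [card_cent_isConj (ew.trans ed.symm)]
      rcases hCd with e | e <;> rw [e] <;> norm_num
    · rw [card_cent_isConj (ew.trans ea.symm), hCa]; norm_num
  · have := (card_cent_isConj ea).trans (card_cent_isConj ed).symm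
    omega

/-- The Sylow seven-structure. -/
theorem seven_main [Finite G] (h : Setting z Q) (P : Sylow 7 G) :
    Subgroup.centralizer ((P : Subgroup G) : Set G) = P ∧
      Nat.card (Subgroup.normalizer ((P : Subgroup G) : Set G)) = 42 ∧
      ¬ IsMulCommutative (Subgroup.normalizer ((P : Subgroup G) : Set G)) := by
  classical
  haveI : Fact (Nat.Prime 7) := ⟨by norm_num⟩
  have hG := order_eq_j2 h
  have hP7 : Nat.card P = 7 := by
    obtain ⟨n, hn⟩ := IsPGroup.iff_card.mp P.2
    have hi := P.not_dvd_index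
    have hmul := (P : Subgroup G).card_mul_index
    rw [hG, hn] at hmul
    have hn1 : n = 1 := by
      have hn2 : n < 2 := by
        by_contra hcon
        have : 7 ^ 2 ∣ 604800 := (Nat.pow_dvd_pow 7 (by omega)).trans ⟨_, hmul.symm⟩
        norm_num at this
      interval_cases n <;> omega
    rw [hn, hn1]; rfl
  obtain ⟨p, hpP, hp1⟩ := (P : Subgroup G).bot_or_exists_ne_one.resolve_left fun e => by
    rw [e, Subgroup.card_bot] at hP7; omega
  have hp7 : orderOf p = 7 := ((show Nat.Prime 7 by norm_num).eq_one_or_self_of_dvd _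
    (hP7 ▸ Subgroup.orderOf_dvd_natCard _ hpP)).resolve_left fun e => hp1 (orderOf_eq_one_iff.mp e)
  have hgen : Subgroup.zpowers p = (P : Subgroup G) :=
    Subgroup.eq_of_le_of_card_ge (Subgroup.zpowers_le.mpr hpP) (by rw [Nat.card_zpowers, hp7, hP7])
  have hdvd7 : ∀ {u : G}, u * p = p * u → 7 ∣ Nat.card (Subgroup.centralizer ({u} : Set G)) := fun hu =>
    (dvd_of_eq hp7.symm).trans (Subgroup.orderOf_dvd_natCard _ (Subgroup.mem_centralizer_singleton_iff.mpr hu.symm))
  have hno : ∀ q, q = 2 ∨ q = 3 ∨ q = 5 → ¬ q ∣ Nat.card (Subgroup.centralizer ({p} : Set G)) := by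
    intro q hq hd
    haveI : Fact q.Prime := ⟨by rcases hq with rfl | rfl | rfl <;> norm_num⟩
    obtain ⟨⟨u, hu⟩, huo⟩ := exists_prime_orderOf_dvd_card' q hd
    rw [Subgroup.orderOf_mk] at huo
    have h7 := hdvd7 (Subgroup.mem_centralizer_singleton_iff.mp hu)
    rcases hq with rfl | rfl | rfl
    · obtain ⟨t, x, σ, r, g⟩ := h.exists_good
      obtain ⟨K, c⟩ := g.exists_comp h
      by_cases huz : IsConj u z
      · rw [card_cent_isConj huz, h.toCore.card_C] at h7; norm_num at h7
      · rw [card_cent_isConj (h.conj_of_not huo (orderOf_two_iff'.mpr ⟨g.t2, fun e => g.tQ (e ▸ Q.one_mem)⟩) huz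
          (h.outside_not_conj g.tC g.t2 g.tQ)), g.card_cent h c, g.card_K h c] at h7
        norm_num at h7
    · exact three_cards h huo h7
    · rcases five_cards h huo with e | e <;> rw [e] at h7 <;> norm_num at h7
  have hCp : Subgroup.centralizer ({p} : Set G) = (P : Subgroup G) := by
    have hle : (P : Subgroup G) ≤ Subgroup.centralizer ({p} : Set G) := by
      rw [← hgen]
      exact Subgroup.zpowers_le.mpr (Subgroup.mem_centralizer_singleton_iff.mpr rfl)
    refine (Subgroup.eq_of_le_of_card_ge hle ?_).symm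
    rw [hP7]
    refine Nat.le_of_dvd (by norm_num) (Nat.Coprime.dvd_of_dvd_mul_right (n := 86400) ?_ ?_)
    · rw [show 86400 = 2 ^ 7 * (3 ^ 3 * 5 ^ 2) by norm_num]
      refine Nat.Coprime.mul_right (Nat.Coprime.pow_right _ ?_) (Nat.Coprime.mul_right (Nat.Coprime.pow_right _ ?_) (Nat.Coprime.pow_right _ ?_))
      all_goals refine ((Nat.Prime.coprime_iff_not_dvd (by norm_num)).mpr (hno _ (by norm_num))).symm
    · rw [show 7 * 86400 = 604800 by norm_num, ← hG]
      exact Subgroup.card_subgroup_dvd_card _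
  have hCP : Subgroup.centralizer ((P : Subgroup G) : Set G) = P := by
    refine le_antisymm (fun y hy => hCp ▸ Subgroup.mem_centralizer_singleton_iff.mpr
      (Subgroup.mem_centralizer_iff.mp hy p hpP).symm) fun y hy => Subgroup.mem_centralizer_iff.mpr fun b hb => ?_
    rw [← hgen] at hy hb
    obtain ⟨i, rfl⟩ := Subgroup.mem_zpowers_iff.mp hy
    obtain ⟨j, rfl⟩ := Subgroup.mem_zpowers_iff.mp hb
    exact ((Commute.refl p).zpow_zpow j i).eq
  set N := Subgroup.normalizer ((P : Subgroup G) : Set G) with hN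
  have hinf : N ⊓ Subgroup.centralizer ({p} : Set G) = (P : Subgroup G) := by
    rw [hCp]; exact inf_eq_right.mpr Subgroup.le_normalizer
  have horb := conj_orbit_card N p
  rw [hinf, hP7] at horb
  have hsub : Nat.card (Set.range fun n : N => (n : G) * p * (n : G)⁻¹) ≤ 6 := by
    rw [Nat.card_coe_set_eq]
    refine (Set.ncard_le_ncard (t := ((P : Subgroup G) : Set G) \ {1}) ?_).trans (le_of_eq ?_)
    · rintro _ ⟨n, rfl⟩
      refine ⟨(Subgroup.mem_normalizer_iff.mp n.2 p).mp hpP, fun e => hp1 ?_⟩
      rwa [Set.mem_singleton_iff, mul_inv_eq_one, mul_eq_left] at e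
    · rw [Set.ncard_sdiff_singleton_of_mem (one_mem (P : Subgroup G)), ← Nat.card_coe_set_eq]
      show Nat.card P - 1 = 6
      rw [hP7]
  have hidx := N.card_mul_index
  have hmod : N.index % 7 = 1 := by
    have h1 := card_sylow_modEq_one 7 G
    rw [P.card_eq_index_normalizer] at h1
    exact h1
  have h42 : Nat.card N = 42 := by
    have hpos := Nat.card_pos (α := N)
    rw [← horb] at hidx hpos ⊢
    rw [hG] at hidx
    generalize Nat.card (Set.range fun n : N => (n : G) * p * (n : G)⁻¹) = m at hsub hidx hpos ⊢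
    interval_cases m <;> omega
  refine ⟨hCP, h42, fun hab => ?_⟩
  have hle : N ≤ (P : Subgroup G) := fun y hy => hCp ▸ Subgroup.mem_centralizer_singleton_iff.mpr
    (congrArg Subtype.val (hab.is_comm.comm (⟨y, hy⟩ : N) ⟨p, Subgroup.le_normalizer hpP⟩))
  have := Nat.le_of_dvd (by rw [hP7]; norm_num) (Subgroup.card_dvd_of_le hle)
  omega

end Cfsg.Agent.Invol.HJ
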