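import Cfsg.Agent.Lib.Invol.HJ.Base

/-!
# The ten noncentral involutions of the extraspecial group of minus type
-/

set_option autoImplicit false
set_option linter.unusedSectionVars false
set_option linter.style.haveILetI false

namespace Cfsg.Agent.Invol.HJ

open Cfsg

variable {G : Type*} [Group G] {z : G} {Q : Subgroup G}

theorem Core.zq (h : Core z Q) {q : G} (hq : q ∈ Q) : q * z = z * q :=
  Subgroup.mem_centralizer_singleton_iff.mp (h.le_C hq)

theorem Core.cz (h : Core z Q) {c : G} (hc : c ∈ Subgroup.centralizer ({z} : Set G)) : c * z = z * c :=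
  Subgroup.mem_centralizer_singleton_iff.mp hc

theorem Core.z_mem_C (h : Core z Q) : z ∈ Subgroup.centralizer ({z} : Set G) := h.le_C h.mem_z

theorem Core.card_C [Finite G] (h : Core z Q) : Nat.card (Subgroup.centralizer ({z} : Set G)) = 1920 := by
  obtain ⟨π, hs, hk⟩ := h.quot
  rw [Subgroup.card_eq_card_quotient_mul_card_subgroup π.ker,
    Nat.card_congr (QuotientGroup.quotientKerEquivOfSurjective π hs).toEquiv, nat_card_alternatingGroup, Nat.card_fin,
    show Nat.card π.ker = 32 from ?_]
  · rfl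
  · rw [← h.card_Q]
    exact Nat.card_congr
      { toFun := fun c => ⟨_, (hk c.1).mp c.2⟩
        invFun := fun q => ⟨⟨q.1, h.le_C q.2⟩, (hk _).mpr q.2⟩
        left_inv := fun c => rfl
        right_inv := fun q => rfl }

theorem Core.card_two_pow [Finite G] (h : Core z Q) : IsPGroup 2 Q :=
  IsPGroup.of_card (n := 5) (by rw [h.card_Q]; norm_num)

/-- An element of order five centralizes only the centre of `Q`. -/
theorem Core.fix_five [Finite G] (h : Core z Q) {f : G} (hf : f ∈ Subgroup.centralizer ({z} : Set G)) (hf5 : orderOf f = 5)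
    {q : G} (hq : q ∈ Q) (hc : f * q = q * f) : q = 1 ∨ q = z := by
  haveI : Fact (Nat.Prime 2) := ⟨Nat.prime_two⟩
  haveI : Fact (Nat.Prime 5) := ⟨by norm_num⟩
  set F := Subgroup.zpowers f
  have hF5 : IsPGroup 5 F := IsPGroup.of_card (n := 1) (by rw [Nat.card_zpowers, hf5, pow_one])
  have hFC : F ≤ Subgroup.centralizer ({z} : Set G) := Subgroup.zpowers_le.mpr hf
  letI actQ : MulAction F Q :=
    { smul := fun k q => ⟨k * q * (k : G)⁻¹, h.norm k (hFC k.2) q q.2⟩
      one_smul := fun q => Subtype.ext (show (1 : G) * q * (1 : G)⁻¹ = q by group)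
      mul_smul := fun a b q => Subtype.ext (show ((a : G) * b) * q * ((a : G) * b)⁻¹ = a * (b * q * (b : G)⁻¹) * (a : G)⁻¹ by group) }
  set CQ := Q ⊓ Subgroup.centralizer ({f} : Set G)
  have hCQp : IsPGroup 2 CQ := h.card_two_pow.to_le inf_le_left
  obtain ⟨j, hj⟩ := IsPGroup.iff_card.mp hCQp
  have hfix : Nat.card (MulAction.fixedPoints F Q) = Nat.card CQ := by
    refine Nat.card_congr
      { toFun := fun q => ⟨(q.1 : G), q.1.2, Subgroup.mem_centralizer_singleton_iff.mpr ?_⟩
        invFun := fun q => ⟨⟨q.1, q.2.1⟩, fun k => ?_⟩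
        left_inv := fun q => rfl
        right_inv := fun q => rfl }
    · exact (mul_inv_eq_iff_eq_mul.mp (congrArg Subtype.val (q.2 ⟨f, Subgroup.mem_zpowers _⟩))).symm
    · obtain ⟨i, hi⟩ := k.2
      refine Subtype.ext ?_
      show (k : G) * q.1 * (k : G)⁻¹ = q.1
      rw [← hi, mul_inv_eq_iff_eq_mul]
      exact ((show Commute f q.1 from (Subgroup.mem_centralizer_singleton_iff.mp q.2.2).symm).zpow_left i).eq
  have hm := hF5.card_modEq_card_fixedPoints Q
  rw [hfix, hj, h.card_Q] at hm
  have hzin : z ∈ CQ := Subgroup.mem_inf.2 ⟨h.mem_z, Subgroup.mem_centralizer_singleton_iff.mpr (h.cz hf).symm⟩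
  have hqin : q ∈ CQ := Subgroup.mem_inf.2 ⟨hq, Subgroup.mem_centralizer_singleton_iff.mpr hc.symm⟩
  by_contra hcon
  push Not at hcon
  have h3 : 3 ≤ 2 ^ j := by
    haveI := Fintype.ofFinite CQ
    classical
    rw [← hj, Nat.card_eq_fintype_card]
    refine le_trans (le_of_eq ?_) (Finset.card_le_univ ({1, ⟨z, hzin⟩, ⟨q, hqin⟩} : Finset CQ))
    rw [Finset.card_insert_of_notMem (by simp [Subtype.ext_iff, Ne.symm h.ne_one, Ne.symm hcon.1]),
      Finset.card_pair (by simp [Subtype.ext_iff, Ne.symm hcon.2])]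
  have hj5 : j = 5 := by
    have hle : 2 ^ j ≤ 2 ^ 5 := by
      rw [← hj]; exact (Nat.le_of_dvd Nat.card_pos (Subgroup.card_dvd_of_le inf_le_left)).trans h.card_Q.le
    have hjle : j ≤ 5 := (Nat.pow_le_pow_iff_right one_lt_two).mp hle
    interval_cases j <;> first | rfl | omega | exact absurd hm (by decide)
  have hQle : CQ = Q := Subgroup.eq_of_le_of_card_ge inf_le_left (by rw [h.card_Q, hj, hj5]; norm_num)
  have hfQ : f ∈ Q := h.cent f hf fun p hp =>
    (Subgroup.mem_centralizer_singleton_iff.mp (hQle ▸ hp : p ∈ CQ).2).symm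
  obtain ⟨i, hi⟩ := IsPGroup.iff_orderOf.mp h.card_two_pow ⟨f, hfQ⟩
  rw [Subgroup.orderOf_mk, hf5] at hi
  have : 5 ∣ 2 := (Nat.Prime.dvd_of_dvd_pow (by norm_num) (dvd_of_eq hi))
  omega

theorem Core.exists_five [Finite G] (h : Core z Q) : ∃ f ∈ Subgroup.centralizer ({z} : Set G), orderOf f = 5 := by
  haveI : Fact (Nat.Prime 5) := ⟨by norm_num⟩
  obtain ⟨f, hf⟩ := exists_prime_orderOf_dvd_card' (G := Subgroup.centralizer ({z} : Set G)) 5 (by rw [h.card_C]; norm_num)
  exact ⟨f, f.2, by rwa [Subgroup.orderOf_coe]⟩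

/-- The noncentral involutions of `Q`. -/
def nonCentralInvol (z : G) (Q : Subgroup G) : Set G := {x | x ∈ Q ∧ x * x = 1 ∧ x ≠ 1 ∧ x ≠ z}

theorem Core.invol_conj (h : Core z Q) {c : G} (hc : c ∈ Subgroup.centralizer ({z} : Set G)) {x : G}
    (hx : x ∈ nonCentralInvol z Q) : c * x * c⁻¹ ∈ nonCentralInvol z Q := by
  obtain ⟨h1, h2, h3, h4⟩ := hx
  refine ⟨h.norm c hc x h1, by rw [conj_mul, h2, mul_one, mul_inv_cancel], fun e => h3 ?_, fun e => h4 ?_⟩
  · rwa [mul_inv_eq_one, mul_eq_left] at e
  · rw [mul_inv_eq_iff_eq_mul, ← h.cz hc] at e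
    exact mul_left_cancel e

theorem Core.zmul_mem (h : Core z Q) {x : G} (hx : x ∈ nonCentralInvol z Q) : z * x ∈ nonCentralInvol z Q := by
  obtain ⟨h1, h2, h3, h4⟩ := hx
  refine ⟨Q.mul_mem h.mem_z h1, ?_, fun e => h4 ?_, fun e => h3 (mul_eq_left.mp e)⟩
  · rw [mul_assoc, ← mul_assoc x z x, h.zq h1, mul_assoc z x x, h2, mul_one, h.z_sq]
  · exact (eq_inv_of_mul_eq_one_right e).trans (inv_eq_of_mul_eq_one_right h.z_sq)

set_option maxHeartbeats 1000000 in
theorem Core.ten [Finite G] (h : Core z Q) : Nat.card (nonCentralInvol z Q) = 10 ∧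
    ∀ x ∈ nonCentralInvol z Q, ∀ y ∈ nonCentralInvol z Q, x * y = y * x → y = x ∨ y = z * x := by
  classical
  letI := Fintype.ofFinite G
  have hz1 := h.ne_one
  have hzz := h.z_sq
  have hzQ := h.mem_z
  have hsq := h.sq
  have hcomm := h.comm
  have hcen := h.cen
  have hQcard := h.card_Q
  have hzQc : ∀ q ∈ Q, q * z = z * q := fun q hq => h.zq hq
  let χ : Q → ℤ := fun x => if (x : G) * x = 1 then 1 else -1
  let β : Q → Q → ℤ := fun x d => if (x : G) * d = d * x then 1 else -1
  have hχmul : ∀ x d : Q, χ (x * d) = χ x * χ d * β x d := by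
    intro x d
    simp only [χ, β, Subgroup.coe_mul]
    have hxd : (x : G) * d * (x * d) = (x : G) * ((d : G) * x) * d := by simp only [mul_assoc]
    by_cases hc : (x : G) * d = d * x
    · have e : (x : G) * d * (x * d) = ((x : G) * x) * (d * d) := by rw [hxd, ← hc]; simp only [mul_assoc]
      simp only [if_pos hc, e]
      rcases hsq x x.2 with h1 | h1 <;> rcases hsq d d.2 with h2 | h2 <;> simp [h1, h2, hzz, hz1]
    · have h' : (d : G) * x = z * (x * d) := (hcomm d d.2 x x.2).resolve_left fun h => hc h.symm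
      have e : (x : G) * d * (x * d) = z * (((x : G) * x) * (d * d)) := by
        rw [hxd, h', ← mul_assoc (x : G) z, hzQc x x.2]; simp only [mul_assoc]
      simp only [if_neg hc, e]
      rcases hsq x x.2 with h1 | h1 <;> rcases hsq d d.2 with h2 | h2 <;> simp [h1, h2, hzz, hz1]
  have hχsq : ∀ x : Q, χ x * χ x = 1 := fun x => by simp only [χ]; split <;> norm_num
  have hflip : ∀ d e : Q, (e : G) * d ≠ d * e → ∀ x : Q, β (x * e) d = - β x d := by
    intro d e he x
    simp only [β, Subgroup.coe_mul]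
    have h' : (e : G) * d = z * (d * e) := (hcomm e e.2 d d.2).resolve_left he
    by_cases hc : (x : G) * d = d * x
    · rw [if_pos hc, if_neg]
      intro h
      rw [mul_assoc, h', ← mul_assoc (d : G), ← hc, mul_assoc (x : G), ← mul_assoc (x : G) z,
        hzQc x x.2, mul_assoc z] at h
      exact hz1 (mul_eq_right.mp h)
    · have h'' : (x : G) * d = z * (d * x) := (hcomm x x.2 d d.2).resolve_left hc
      rw [if_neg hc, if_pos, neg_neg]
      rw [mul_assoc, h', ← mul_assoc (x : G) z, hzQc x x.2, mul_assoc z, ← mul_assoc (x : G), h'', ← mul_assoc z,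
        ← mul_assoc z, hzz, one_mul, mul_assoc]
  have hzero : ∀ d : Q, (d : G) ≠ 1 → (d : G) ≠ z → ∑ x : Q, β x d = 0 := by
    intro d h1 h2
    obtain ⟨e, he⟩ : ∃ e : Q, (e : G) * d ≠ d * e := by
      by_contra h
      push Not at h
      exact (hcen d d.2 fun b hb => (h ⟨b, hb⟩).symm).elim h1 h2
    have h := Equiv.sum_comp (Equiv.mulRight e) (fun x => β x d)
    simp only [Equiv.coe_mulRight, hflip d e he, Finset.sum_neg_distrib] at h
    linarith
  set Sχ := ∑ x : Q, χ x
  have hS64 : Sχ * Sχ = 64 := by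
    have e1 : Sχ * Sχ = ∑ x : Q, ∑ d : Q, χ d * β x d := by
      rw [Finset.sum_mul]
      refine Finset.sum_congr rfl fun x _ => ?_
      rw [Finset.mul_sum, ← Equiv.sum_comp (Equiv.mulLeft x) (fun y => χ x * χ y)]
      refine Finset.sum_congr rfl fun d _ => ?_
      simp only [Equiv.coe_mulLeft]
      rw [hχmul, ← mul_assoc, ← mul_assoc, hχsq, one_mul]
    have hone : ∀ d : Q, ((d : G) = 1 ∨ (d : G) = z) → ∑ x : Q, χ d * β x d = 32 := by
      intro d hd
      have hb : ∀ x : Q, χ d * β x d = 1 := fun x => by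
        rcases hd with h | h <;> simp [χ, β, h, hzQc x x.2, hzz]
      simp only [hb, Finset.sum_const, Finset.card_univ, ← Nat.card_eq_fintype_card, hQcard]
      norm_num
    rw [e1, Finset.sum_comm, ← Finset.sum_subset (Finset.subset_univ ({1, ⟨z, hzQ⟩} : Finset Q)) (fun d _ hd => by
      simp only [Finset.mem_insert, Finset.mem_singleton, not_or, Subtype.ext_iff, Subgroup.coe_one] at hd
      rw [← Finset.mul_sum, hzero d hd.1 hd.2, mul_zero]), Finset.sum_pair (fun h => hz1 (congrArg Subtype.val h).symm),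
      hone 1 (Or.inl rfl), hone _ (Or.inr rfl)]
    norm_num
  have hI0 : ∀ T : Finset Q, ∑ x ∈ T, χ x = 2 * (T.filter fun x : Q => (x : G) * x = 1).card - T.card := by
    intro T
    simp only [χ]
    rw [Finset.sum_ite, Finset.sum_const, Finset.sum_const]
    have h := Finset.card_filter_add_card_filter_not (s := T) (fun x : Q => (x : G) * x = 1)
    simp only [smul_eq_mul, nsmul_eq_mul]
    omega
  let X : Finset G := Finset.univ.filter fun x => x ∈ Q ∧ x * x = 1 ∧ x ≠ 1 ∧ x ≠ z
  set I0 := (Finset.univ.filter fun x : Q => (x : G) * x = 1).card with hI0def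
  have hXI : X.card + 2 = I0 := by
    have himg : (Finset.univ.filter fun x : Q => (x : G) * x = 1).image Subtype.val = insert 1 (insert z X) := by
      ext g
      simp only [X, Finset.mem_image, Finset.mem_filter, Finset.mem_univ, true_and, Finset.mem_insert]
      constructor
      · rintro ⟨x, hx, rfl⟩
        by_cases h1 : (x : G) = 1
        · exact Or.inl h1
        by_cases h2 : (x : G) = z
        · exact Or.inr (Or.inl h2)
        exact Or.inr (Or.inr ⟨x.2, hx, h1, h2⟩)
      · rintro (rfl | rfl | ⟨h1, h2, -, -⟩)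
        · exact ⟨1, by simp, rfl⟩
        · exact ⟨⟨g, hzQ⟩, hzz, rfl⟩
        · exact ⟨⟨g, h1⟩, h2, rfl⟩
    rw [hI0def, ← Finset.card_image_of_injective _ Subtype.val_injective, himg,
      Finset.card_insert_of_notMem (by simp [X, Ne.symm hz1]), Finset.card_insert_of_notMem (by simp [X])]
  have hX18 : X.card = 18 ∨ X.card = 10 := by
    have h := hI0 Finset.univ
    rw [Finset.card_univ, ← Nat.card_eq_fintype_card, hQcard] at h
    have h8 : Sχ = 8 ∨ Sχ = -8 := by
      have : (Sχ - 8) * (Sχ + 8) = 0 := by ring_nf; linarith [hS64, pow_two Sχ]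
      rcases mul_eq_zero.mp this with h | h
      · left; omega
      · right; omega
    omega
  have hXmem : ∀ x, x ∈ X ↔ x ∈ nonCentralInvol z Q := fun x => by simp [X, nonCentralInvol]
  have hX10 : X.card = 10 := by
    rcases hX18 with h18 | h10
    swap
    · exact h10
    exfalso
    haveI : Fact (Nat.Prime 5) := ⟨by norm_num⟩
    obtain ⟨f, hfC, hfo⟩ := h.exists_five
    set F := Subgroup.zpowers f
    have hF5 : IsPGroup 5 F := IsPGroup.of_card (n := 1) (by rw [Nat.card_zpowers, hfo, pow_one])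
    have hFC : F ≤ Subgroup.centralizer ({z} : Set G) := Subgroup.zpowers_le.mpr hfC
    letI actX : MulAction F {x // x ∈ X} :=
      { smul := fun k q => ⟨k * q * (k : G)⁻¹, (hXmem _).mpr (h.invol_conj (hFC k.2) ((hXmem _).mp q.2))⟩
        one_smul := fun q => Subtype.ext (show (1 : G) * q * (1 : G)⁻¹ = q by group)
        mul_smul := fun a b q => Subtype.ext (show ((a : G) * b) * q * ((a : G) * b)⁻¹ = a * (b * q * (b : G)⁻¹) * (a : G)⁻¹ by group) }
    have hm := hF5.card_modEq_card_fixedPoints {x // x ∈ X}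
    have hne : Nat.card (MulAction.fixedPoints F {x // x ∈ X}) ≠ 0 := by
      intro h0
      rw [h0, Nat.card_eq_fintype_card, Fintype.card_coe, h18] at hm
      exact absurd hm (by decide)
    obtain ⟨x, hx⟩ := (Nat.card_pos_iff.mp (Nat.pos_of_ne_zero hne)).1
    have hxc : f * x * f⁻¹ = x := congrArg Subtype.val (hx ⟨f, Subgroup.mem_zpowers _⟩)
    obtain ⟨h1, -, h3, h4⟩ := (hXmem x).mp x.2
    exact (h.fix_five hfC hfo h1 (mul_inv_eq_iff_eq_mul.mp hxc)).elim h3 h4
  have hSneg : Sχ = -8 := by
    have h := hI0 Finset.univ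
    rw [Finset.card_univ, ← Nat.card_eq_fintype_card, hQcard] at h
    omega
  -- two commuting noncentral involutions of `Q`
  have hpair : ∀ x ∈ X, ∀ x' ∈ X, x * x' = x' * x → x' = x ∨ x' = z * x := by
    intro x hx x' hx' hc
    simp only [X, Finset.mem_filter, Finset.mem_univ, true_and] at hx hx'
    obtain ⟨hxQ, hx2, hx1, hxz⟩ := hx
    set xq : Q := ⟨x, hxQ⟩
    set T := Finset.univ.filter fun d : Q => x * (d : G) = d * x with hT
    obtain ⟨e, he⟩ : ∃ e : Q, (e : G) * x ≠ x * e := by
      by_contra h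
      push Not at h
      exact (hcen x hxQ fun b hb => (h ⟨b, hb⟩).symm).elim hx1 hxz
    have hT' : ∑ d ∈ Finset.univ.filter (fun d : Q => ¬ x * (d : G) = d * x), χ d = 0 := by
      have hterm : ∀ d : Q, ¬ x * (d : G) = d * x → χ (xq * d) = - χ d := fun d hd => by
        rw [hχmul, show χ xq = 1 from if_pos hx2, show β xq d = -1 from if_neg hd]; ring
      refine Finset.sum_involution (fun d _ => xq * d) (fun d hd => ?_) (fun d _ _ h => hx1 (congrArg Subtype.val (mul_eq_right.mp h)))
        (fun d hd => ?_) (fun d _ => by rw [← mul_assoc, show xq * xq = 1 from Subtype.ext hx2, one_mul])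
      · rw [hterm d (Finset.mem_filter.mp hd).2]; ring
      · refine Finset.mem_filter.mpr ⟨Finset.mem_univ _, fun h => (Finset.mem_filter.mp hd).2 ?_⟩
        simp only [Subgroup.coe_mul, xq] at h
        rw [mul_assoc] at h
        exact mul_left_cancel h
    have hTS : ∑ d ∈ T, χ d = -8 := by
      rw [← hSneg, show Sχ = ∑ d ∈ T, χ d + 0 by
        rw [← hT', hT, Finset.sum_filter_add_sum_filter_not], add_zero]
    have hTc : T.card = 16 := by
      have hbij : T.card = (Finset.univ.filter fun d : Q => ¬ x * (d : G) = d * x).card := by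
        refine Finset.card_bij' (fun d _ => d * e) (fun d _ => d * e⁻¹) (fun d hd => ?_) (fun d hd => ?_)
          (fun d _ => mul_inv_cancel_right d e) (fun d _ => inv_mul_cancel_right d e)
        · simp only [hT, Finset.mem_filter, Finset.mem_univ, true_and, Subgroup.coe_mul] at hd ⊢
          intro h
          rw [← mul_assoc, hd, mul_assoc, mul_assoc] at h
          exact he (mul_left_cancel h).symm
        · simp only [hT, Finset.mem_filter, Finset.mem_univ, true_and, Subgroup.coe_mul, Subgroup.coe_inv] at hd ⊢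
          have h1 := (hcomm x hxQ d d.2).resolve_left hd
          have h2 := (hcomm x hxQ e e.2).resolve_left (fun h => he h.symm)
          have h3 : x * (e : G)⁻¹ = z * ((e : G)⁻¹ * x) := by
            have h4 : (e : G) * x = z * (x * e) := by rw [h2, ← mul_assoc z z, hzz, one_mul]
            calc x * (e : G)⁻¹ = (e : G)⁻¹ * ((e : G) * x) * (e : G)⁻¹ := by group
              _ = ((e : G)⁻¹ * z) * (x * e) * (e : G)⁻¹ := by rw [h4]; group
              _ = z * ((e : G)⁻¹ * x) := by rw [hzQc _ (Q.inv_mem e.2)]; group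
          rw [← mul_assoc, h1, mul_assoc z, mul_assoc (d : G) x, h3, ← mul_assoc (d : G) z, hzQc d d.2,
            mul_assoc z (d : G), ← mul_assoc z z, hzz, one_mul, mul_assoc]
      have h := Finset.card_filter_add_card_filter_not (s := (Finset.univ : Finset Q)) (fun d : Q => x * (d : G) = d * x)
      rw [← hT, ← hbij, Finset.card_univ, ← Nat.card_eq_fintype_card, hQcard] at h
      omega
    have h4 : (T.filter fun d : Q => (d : G) * d = 1).card = 4 := by
      have h := hI0 T
      omega
    have hsub : ({1, ⟨z, hzQ⟩, xq, ⟨z * x, Q.mul_mem hzQ hxQ⟩} : Finset Q) = T.filter fun d : Q => (d : G) * d = 1 := by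
      refine Finset.eq_of_subset_of_card_le (fun d hd => ?_) ?_
      · simp only [Finset.mem_insert, Finset.mem_singleton] at hd
        have hzx := hzQc x hxQ
        have hzx2 : z * x * (z * x) = 1 := by
          rw [← hzx, mul_assoc, ← mul_assoc z x z, ← hzx, mul_assoc x z z, hzz, mul_one, hx2]
        rcases hd with rfl | rfl | rfl | rfl <;>
          simp [hT, xq, hx2, hzz, hzx, hzx2]
        rw [← mul_assoc, hzx, mul_assoc]
      · rw [h4]
        have hne : (1 : G) ≠ z * x := fun h => hxz (by rw [← inv_eq_of_mul_eq_one_right h.symm, inv_eq_of_mul_eq_one_right hzz])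
        rw [Finset.card_insert_of_notMem (by simp [xq, Subtype.ext_iff, Ne.symm hz1, Ne.symm hx1, hne]),
          Finset.card_insert_of_notMem (by simp [xq, Subtype.ext_iff, Ne.symm hxz, hx1]),
          Finset.card_pair (by simp [xq, Subtype.ext_iff, hz1])]
    have hm : (⟨x', hx'.1⟩ : Q) ∈ T.filter fun d : Q => (d : G) * d = 1 := by simp [hT, hc, hx'.2.1]
    rw [← hsub] at hm
    simp only [Finset.mem_insert, Finset.mem_singleton, xq, Subtype.ext_iff, Subgroup.coe_one] at hm
    rcases hm with h | h | h | h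
    · exact absurd h hx'.2.2.1
    · exact absurd h hx'.2.2.2
    · exact Or.inl h
    · exact Or.inr h
  refine ⟨?_, fun x hx y hy hc => hpair x ((hXmem x).mpr hx) y ((hXmem y).mpr hy) hc⟩
  rw [← hX10, ← Fintype.card_coe, ← Nat.card_eq_fintype_card]
  exact Nat.card_congr (Equiv.subtypeEquivRight fun x => (hXmem x).symm)

end Cfsg.Agent.Invol.HJ
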