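import Cfsg.Agent.Lib.Invol.HJ.Good

/-!
# Splitting the centralizer of the second involution
-/

set_option autoImplicit false
set_option linter.unusedSectionVars false
set_option linter.style.haveILetI false

namespace Cfsg.Agent.Invol.HJ

open Cfsg

variable {G : Type*} [Group G] {z : G} {Q : Subgroup G} {t x σ r : G}

/-- The common centralizer of `z` and `t`. -/
abbrev czt (z t : G) : Subgroup G := Subgroup.centralizer ({z} : Set G) ⊓ Subgroup.centralizer ({t} : Set G)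

/-- The fixed points of the turning element. -/
abbrev vfix (z t r : G) : Subgroup G := czt z t ⊓ Subgroup.centralizer ({r} : Set G)

namespace Good

theorem t_mem (g : Good z Q t x σ r) : t ∈ czt z t :=
  Subgroup.mem_inf.2 ⟨g.tC, Subgroup.mem_centralizer_singleton_iff.mpr rfl⟩

theorem mul_comm' (g : Good z Q t x σ r) (h : Core z Q) {a b : G} (ha : a ∈ czt z t) (hb : b ∈ czt z t) : a * b = b * a :=
  (g.L.abelian h g.tC g.t2 ha hb).1

theorem sq (g : Good z Q t x σ r) (h : Core z Q) {a : G} (ha : a ∈ czt z t) : a * a = 1 :=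
  (g.L.abelian h g.tC g.t2 ha ha).2

theorem t_mem_V (g : Good z Q t x σ r) : t ∈ vfix z t r :=
  Subgroup.mem_inf.2 ⟨g.t_mem, Subgroup.mem_centralizer_singleton_iff.mpr g.rt.symm⟩

theorem z_mem (g : Good z Q t x σ r) : z ∈ czt z t :=
  Subgroup.mem_inf.2 ⟨Subgroup.mem_centralizer_singleton_iff.mpr rfl, Subgroup.mem_centralizer_singleton_iff.mpr
    (Subgroup.mem_centralizer_singleton_iff.mp g.tC).symm⟩

theorem x_mem (g : Good z Q t x σ r) (h : Core z Q) : x ∈ czt z t :=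
  Subgroup.mem_inf.2 ⟨h.le_C g.L.xX.1, Subgroup.mem_centralizer_singleton_iff.mpr g.L.tx.symm⟩

theorem inD_fix (g : Good z Q t x σ r) (h : Core z Q) {d : G} (hd : InD z x d) (hrd : r * d = d * r) : d = 1 := by
  have e : r * d * r⁻¹ = d := by rw [hrd, mul_inv_cancel_right]
  rcases hd with rfl | rfl | rfl | rfl
  · rfl
  · exact absurd (g.rz.symm.trans e) g.L.xX.2.2.2
  · exact absurd (mul_eq_right.mp (g.rx.symm.trans e)) h.ne_one
  · exact absurd (mul_eq_left.mp ((g.rzx h).symm.trans e).symm) g.L.xX.2.2.1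

theorem V_Q (g : Good z Q t x σ r) (h : Core z Q) {v : G} (hv : v ∈ vfix z t r) (hvQ : v ∈ Q) : v = 1 :=
  g.inD_fix h ((g.L.memQ v hvQ).mp (Subgroup.mem_centralizer_singleton_iff.mp (Subgroup.mem_inf.mp (Subgroup.mem_inf.mp hv).1).2))
    (Subgroup.mem_centralizer_singleton_iff.mp (Subgroup.mem_inf.mp hv).2).symm

theorem inD_mem (g : Good z Q t x σ r) (h : Setting z Q) {d : G} (hd : InD z x d) : d ∈ czt z t :=
  h.mem_inf_of_inD g.L.xX g.tC g.L.tx hd

/-- A second fixed involution. -/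
theorem exists_u (g : Good z Q t x σ r) (h : Setting z Q) :
    ∃ u, u ∈ vfix z t r ∧ u ≠ 1 ∧ u ≠ t ∧ ∃ e, InD z x e ∧ u = e * (σ * t * σ⁻¹) := by
  set u0 := σ * t * σ⁻¹ with hu0
  have hu0S : u0 ∈ czt z t := Subgroup.mem_inf.2 ⟨g.L.u_mem_C g.tC, g.L.σt⟩
  set d := u0 * (r * u0 * r⁻¹) with hd
  have hdD : InD z x d := (g.L.memQ d g.ru).mp
    (Subgroup.mem_centralizer_singleton_iff.mp (Subgroup.mem_inf.mp (mul_mem hu0S (g.rS u0 hu0S))).2)
  have e1 : r * u0 * r⁻¹ = d * u0 := by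
    rw [g.mul_comm' h.toCore (g.inD_mem h hdD) hu0S, hd, ← mul_assoc u0 u0, g.sq h.toCore hu0S, one_mul]
  have he : InD z x (r * d * r⁻¹) := inD_turn g.rz g.rx (g.rzx h.toCore) hdD
  have hfix : r * (r * d * r⁻¹) * r⁻¹ * d = r * d * r⁻¹ := by
    have hxz : x * z = z * x := h.zq g.L.xX.1
    have hzxz : z * x * z = x := by rw [mul_assoc, hxz, ← mul_assoc, h.z_sq, one_mul]
    rcases hdD with e | e | e | e <;> rw [e]
    · group
    · rw [g.rz, g.rx, hzxz]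
    · rw [g.rx, g.rzx h.toCore]
    · rw [g.rzx h.toCore, g.rz, ← mul_assoc, hxz, mul_assoc, g.L.xX.2.1, mul_one]
  have huS : r * d * r⁻¹ * u0 ∈ czt z t := mul_mem (g.inD_mem h he) hu0S
  have hru : r * (r * d * r⁻¹ * u0) * r⁻¹ = r * d * r⁻¹ * u0 := by
    rw [← conj_mul, e1, ← mul_assoc, hfix]
  have hu0Q : u0 ∉ Q := fun e => g.tQ (by
    have := h.norm _ (inv_mem g.L.σC) _ e
    simpa [hu0, mul_assoc] using this)
  refine ⟨_, Subgroup.mem_inf.2 ⟨huS, Subgroup.mem_centralizer_singleton_iff.mpr (mul_inv_eq_iff_eq_mul.mp hru).symm⟩,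
    fun e => hu0Q ?_, fun e => g.L.σne ?_, _, he, rfl⟩
  · rw [eq_inv_of_mul_eq_one_right e]
    exact Q.inv_mem (inD_Q g.L.xX h.toCore he)
  · rw [← hu0, g.mul_comm' h.toCore g.t_mem hu0S, show t = r * d * r⁻¹ * u0 from e.symm,
      g.mul_comm' h.toCore (g.inD_mem h he) hu0S, ← mul_assoc, g.sq h.toCore hu0S, one_mul]
    exact inD_Q g.L.xX h.toCore he

/-- `C(z,t) = D × V`. -/
theorem decomp (g : Good z Q t x σ r) (h : Setting z Q) {s : G} (hs : s ∈ czt z t) :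
    ∃ d v, InD z x d ∧ v ∈ vfix z t r ∧ s = d * v := by
  obtain ⟨u, huV, -, -, e, he, hue⟩ := g.exists_u h
  set u0 := σ * t * σ⁻¹ with hu0
  have hee : e * e = 1 := inD_sq g.L.xX h.toCore he
  have hu0' : u0 = e * u := by rw [hue, ← mul_assoc, hee, one_mul]
  obtain ⟨d, hd, hs'⟩ := g.L.span s (Subgroup.mem_inf.mp hs).1 (Subgroup.mem_centralizer_singleton_iff.mp (Subgroup.mem_inf.mp hs).2)
  rcases hs' with e1 | e1 | e1 | e1
  · exact ⟨d, 1, hd, one_mem _, by rw [e1, mul_one]⟩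
  · exact ⟨d, t, hd, g.t_mem_V, e1⟩
  · exact ⟨d * e, u, inD_mul h.toCore g.L.xX hd he, huV, by rw [e1, ← hu0, hu0', mul_assoc]⟩
  · refine ⟨d * e, t * u, inD_mul h.toCore g.L.xX hd he, mul_mem g.t_mem_V huV, ?_⟩
    rw [e1, ← hu0, hu0', ← mul_assoc t e u, g.mul_comm' h.toCore g.t_mem (g.inD_mem h he), mul_assoc e t u, mul_assoc]

theorem card_V [Finite G] (g : Good z Q t x σ r) (h : Setting z Q) : Nat.card (vfix z t r) = 4 := by
  classical
  have hprod : Nat.card (czt z t) = Nat.card (Q ⊓ czt z t : Subgroup G) * Nat.card (vfix z t r) := by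
    rw [← Nat.card_prod]
    refine (Nat.card_congr (Equiv.ofBijective
      (fun p : (Q ⊓ czt z t : Subgroup G) × vfix z t r =>
        (⟨p.1.1 * p.2.1, mul_mem (Subgroup.mem_inf.mp p.1.2).2 (Subgroup.mem_inf.mp p.2.2).1⟩ : czt z t)) ⟨?_, ?_⟩)).symm
    · rintro ⟨⟨a, ha⟩, ⟨b, hb⟩⟩ ⟨⟨a', ha'⟩, ⟨b', hb'⟩⟩ e
      have e' : a * b = a' * b' := congrArg Subtype.val e
      have h1 : a'⁻¹ * a = b' * b⁻¹ := by rw [eq_mul_inv_iff_mul_eq, mul_assoc, e', inv_mul_cancel_left]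
      have h2 := g.V_Q h.toCore (mul_mem hb' (inv_mem hb))
        (h1 ▸ mul_mem (inv_mem (Subgroup.mem_inf.mp ha').1) (Subgroup.mem_inf.mp ha).1)
      have hbb : b' = b := mul_inv_eq_one.mp h2
      subst hbb
      exact Prod.ext (Subtype.ext (mul_right_cancel e')) rfl
    · rintro ⟨s, hs⟩
      obtain ⟨d, v, hd, hv, rfl⟩ := g.decomp h hs
      exact ⟨(⟨d, Subgroup.mem_inf.2 ⟨inD_Q g.L.xX h.toCore hd, g.inD_mem h hd⟩⟩, ⟨v, hv⟩), rfl⟩
  have hDset : ((Q ⊓ czt z t : Subgroup G) : Set G) = {w | InD z x w} := Set.ext fun w =>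
    ⟨fun hw => (g.L.memQ w hw.1).mp (Subgroup.mem_centralizer_singleton_iff.mp hw.2.2),
      fun hw => ⟨inD_Q g.L.xX h.toCore hw, g.inD_mem h hw⟩⟩
  have h4 : Nat.card (Q ⊓ czt z t : Subgroup G) = 4 := by
    have hs : {w | InD z x w} = (({1, z, x, z * x} : Finset G) : Set G) := by ext w; simp [InD]
    have hx1 := g.L.xX.2.2.1
    have hxz := g.L.xX.2.2.2
    have hzx1 := (h.zmul_mem g.L.xX).2.2.1
    rw [← SetLike.coe_sort_coe, hDset, hs, Nat.card_coe_set_eq, Set.ncard_coe_finset,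
      Finset.card_insert_of_notMem (by simp [Ne.symm h.ne_one, Ne.symm hx1, Ne.symm hzx1]),
      Finset.card_insert_of_notMem (by simp [Ne.symm hxz, hx1]), Finset.card_pair (fun e => h.ne_one (mul_eq_right.mp e.symm))]
  rw [g.L.card_sixteen h.toCore g.tC g.t2, h4] at hprod
  omega

theorem conj_D (g : Good z Q t x σ r) (h : Setting z Q) [Finite G] {n d : G} (hn : n * t = t * n)
    (hnS : ∀ s ∈ czt z t, n * s * n⁻¹ ∈ czt z t) (hd : InD z x d) (hd1 : d ≠ 1) :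
    InD z x (n * d * n⁻¹) ∧ n * d * n⁻¹ ≠ 1 := by
  have hm := hnS d (g.inD_mem h hd)
  refine ⟨(g.L.memQ _ (h.mem_Q_of_conj (Subgroup.mem_inf.mp hm).1 ((isConj_iff.mpr ⟨n, rfl⟩).symm.trans (h.inD_conj g.L.xX hd hd1)))).mp
    (Subgroup.mem_centralizer_singleton_iff.mp (Subgroup.mem_inf.mp hm).2), fun e => hd1 ?_⟩
  rwa [mul_inv_eq_one, mul_eq_left] at e

/-- The normalizer of `C(z,t)` in `C(t)` is generated modulo it by the turning element. -/
theorem norm_cases (g : Good z Q t x σ r) (h : Setting z Q) [Finite G] {n : G} (hn : n * t = t * n)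
    (hnS : ∀ s ∈ czt z t, n * s * n⁻¹ ∈ czt z t) :
    n ∈ czt z t ∨ r⁻¹ * n ∈ czt z t ∨ r * n ∈ czt z t := by
  obtain ⟨hD, h1⟩ := g.conj_D h hn hnS (Or.inr (Or.inl rfl)) h.ne_one
  have mk : ∀ {c : G}, c * t = t * c → c * z * c⁻¹ = z → c ∈ czt z t := fun hct hcz =>
    Subgroup.mem_inf.2 ⟨Subgroup.mem_centralizer_singleton_iff.mpr (mul_inv_eq_iff_eq_mul.mp hcz),
      Subgroup.mem_centralizer_singleton_iff.mpr hct⟩
  rcases hD with e | e | e | e
  · exact absurd e h1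
  · exact Or.inl (mk hn e)
  · refine Or.inr (Or.inl (mk ((Commute.mul_left (Commute.inv_left g.rt) hn)).eq ?_))
    calc r⁻¹ * n * z * (r⁻¹ * n)⁻¹ = r⁻¹ * (n * z * n⁻¹) * r := by group
      _ = z := by rw [e, ← g.rz]; group
  · refine Or.inr (Or.inr (mk (Commute.mul_left g.rt hn).eq ?_))
    calc r * n * z * (r * n)⁻¹ = r * (n * z * n⁻¹) * r⁻¹ := by group
      _ = z := by rw [e, g.rzx h.toCore]

theorem norm_fix_V (g : Good z Q t x σ r) (h : Setting z Q) [Finite G] {n v : G} (hn : n * t = t * n)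
    (hnS : ∀ s ∈ czt z t, n * s * n⁻¹ ∈ czt z t) (hv : v ∈ vfix z t r) : n * v = v * n := by
  obtain ⟨hvS, hvr⟩ := Subgroup.mem_inf.mp hv
  have hrv : Commute r v := (Subgroup.mem_centralizer_singleton_iff.mp hvr).symm
  rcases g.norm_cases h hn hnS with hm | hm | hm
  · exact g.mul_comm' h.toCore hm hvS
  · have := hrv.mul_left (show Commute (r⁻¹ * n) v from g.mul_comm' h.toCore hm hvS)
    rwa [mul_inv_cancel_left] at this
  · have := hrv.inv_left.mul_left (show Commute (r * n) v from g.mul_comm' h.toCore hm hvS)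
    rwa [inv_mul_cancel_left] at this

theorem czt_le (t : G) : czt z t ≤ Subgroup.centralizer ({t} : Set G) := inf_le_right

/-- `C(z,t)` is a Sylow subgroup of `C(t)`. -/
theorem exists_sylow [Finite G] (g : Good z Q t x σ r) (h : Setting z Q) :
    ∃ P : Sylow 2 (Subgroup.centralizer ({t} : Set G)), (P : Subgroup _) = (czt z t).subgroupOf (Subgroup.centralizer ({t} : Set G)) := by
  haveI : Fact (Nat.Prime 2) := ⟨Nat.prime_two⟩
  set S' := (czt z t).subgroupOf (Subgroup.centralizer ({t} : Set G)) with hS'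
  have hS2 : IsPGroup 2 S' := by
    refine IsPGroup.of_card (n := 4) ?_
    rw [hS', Nat.card_congr (Subgroup.subgroupOfEquivOfLe (czt_le (z := z) t)).toEquiv, g.L.card_sixteen h.toCore g.tC g.t2]
    norm_num
  obtain ⟨P, hP⟩ := hS2.exists_le_sylow
  refine ⟨P, ?_⟩
  by_contra hne
  have hlt : S'.subgroupOf P < ⊤ := lt_top_iff_ne_top.mpr fun e => hne (le_antisymm (Subgroup.subgroupOf_eq_top.mp e) hP)
  obtain ⟨⟨n, hnP⟩, hnN, hnS⟩ := SetLike.exists_of_lt (Group.normalizerCondition_of_isNilpotent (h := P.2.isNilpotent) _ hlt)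
  refine hnS ?_
  show n ∈ S'
  obtain ⟨n, hnM⟩ := n
  have hn : n * t = t * n := Subgroup.mem_centralizer_singleton_iff.mp hnM
  have hnorm : ∀ s ∈ czt z t, n * s * n⁻¹ ∈ czt z t := fun s hs =>
    (Subgroup.mem_normalizer_iff.mp hnN ⟨⟨s, czt_le t hs⟩, hP hs⟩).mp hs
  have hcube : n * n * n ∈ czt z t := by
    refine Subgroup.mem_inf.2 ⟨Subgroup.mem_centralizer_singleton_iff.mpr ?_, mul_mem (mul_mem hnM hnM) hnM⟩
    have key : ∀ c : G, c ∈ czt z t → c * z = z * c := fun c hc =>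
      Subgroup.mem_centralizer_singleton_iff.mp (Subgroup.mem_inf.mp hc).1
    have hnnn : ∀ w : G, n * n * n * w * (n * n * n)⁻¹ = n * (n * (n * w * n⁻¹) * n⁻¹) * n⁻¹ := fun w => by group
    apply mul_inv_eq_iff_eq_mul.mp
    rw [hnnn]
    rcases g.norm_cases h hn hnorm with hm | hm | hm
    · have e : n * z * n⁻¹ = z := by rw [key n hm, mul_inv_cancel_right]
      rw [e, e, e]
    · obtain ⟨s, hs, rfl⟩ : ∃ s, s ∈ czt z t ∧ n = r * s := ⟨_, hm, (mul_inv_cancel_left r n).symm⟩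
      have hc : ∀ d, InD z x d → s * d * s⁻¹ = d := fun d hd => by
        rw [g.mul_comm' h.toCore hs (g.inD_mem h hd), mul_inv_cancel_right]
      have e : ∀ d, InD z x d → r * s * d * (r * s)⁻¹ = r * d * r⁻¹ := fun d hd => by
        conv_rhs => rw [← hc d hd]
        group
      rw [e z (Or.inr (Or.inl rfl)), g.rz, e x (Or.inr (Or.inr (Or.inl rfl))), g.rx,
        e _ (Or.inr (Or.inr (Or.inr rfl))), g.rzx h.toCore]
    · obtain ⟨s, hs, rfl⟩ : ∃ s, s ∈ czt z t ∧ n = r⁻¹ * s := ⟨_, hm, (inv_mul_cancel_left r n).symm⟩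
      have hc : ∀ d, InD z x d → s * d * s⁻¹ = d := fun d hd => by
        rw [g.mul_comm' h.toCore hs (g.inD_mem h hd), mul_inv_cancel_right]
      have e : ∀ d d', InD z x d → r * d' * r⁻¹ = d → r⁻¹ * s * d * (r⁻¹ * s)⁻¹ = d' := fun d d' hd he => by
        calc r⁻¹ * s * d * (r⁻¹ * s)⁻¹ = r⁻¹ * (s * d * s⁻¹) * r := by group
          _ = r⁻¹ * (r * d' * r⁻¹) * r := by rw [hc d hd, he]
          _ = d' := by group
      rw [e z (z * x) (Or.inr (Or.inl rfl)) (g.rzx h.toCore), e (z * x) x (Or.inr (Or.inr (Or.inr rfl))) g.rx,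
        e x z (Or.inr (Or.inr (Or.inl rfl))) g.rz]
  have hk : ∃ k, orderOf n = 2 ^ k := by
    obtain ⟨k, hk⟩ := IsPGroup.iff_orderOf.mp P.2 ⟨⟨n, hnM⟩, hnP⟩
    exact ⟨k, by rw [← hk, Subgroup.orderOf_mk, Subgroup.orderOf_mk]⟩
  obtain ⟨k, hk⟩ := hk
  obtain ⟨m, hm⟩ := exists_pow_eq_self_of_coprime (x := n) (n := 3) (by rw [hk]; exact Nat.Coprime.pow_right _ (by decide))
  show n ∈ czt z t
  rw [← hm, pow_three' n]
  exact pow_mem hcube m

set_option maxHeartbeats 1000000 in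
/-- The kernel of the transfer to the fixed points. -/
theorem exists_complement [Finite G] (g : Good z Q t x σ r) (h : Setting z Q) :
    ∃ K : Subgroup G, K ≤ Subgroup.centralizer ({t} : Set G) ∧
      (∀ m ∈ Subgroup.centralizer ({t} : Set G), ∀ k ∈ K, m * k * m⁻¹ ∈ K) ∧ z ∈ K ∧ x ∈ K ∧ r ∈ K ∧
      (∀ v ∈ vfix z t r, v ∈ K → v = 1) ∧
      (∀ m ∈ Subgroup.centralizer ({t} : Set G), ∃ v ∈ vfix z t r, v * m ∈ K) := by
  classical
  haveI : Fact (Nat.Prime 2) := ⟨Nat.prime_two⟩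
  obtain ⟨P, hP⟩ := g.exists_sylow h
  have hPmem : ∀ {m : Subgroup.centralizer ({t} : Set G)}, m ∈ (P : Subgroup _) ↔ (m : G) ∈ czt z t := fun {m} => by
    rw [hP]; exact Subgroup.mem_subgroupOf
  haveI hPc : IsMulCommutative (P : Subgroup (Subgroup.centralizer ({t} : Set G))) :=
    ⟨⟨fun a b => Subtype.ext (Subtype.ext (g.mul_comm' h.toCore (hPmem.mp a.2) (hPmem.mp b.2)))⟩⟩
  letI : CommGroup (vfix z t r) := { (inferInstance : Group (vfix z t r)) with
    mul_comm := fun a b => Subtype.ext (g.mul_comm' h.toCore (Subgroup.mem_inf.mp a.2).1 (Subgroup.mem_inf.mp b.2).1) }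
  let f : G → G := fun s => s * (r * s * r⁻¹) * (r * (r * s * r⁻¹) * r⁻¹)
  have hf1 : ∀ {s}, s ∈ czt z t → f s ∈ czt z t := fun hs =>
    mul_mem (mul_mem hs (g.rS _ hs)) (g.rS _ (g.rS _ hs))
  have hfV : ∀ {v}, v ∈ vfix z t r → f v = v := fun {v} hv => by
    have e : r * v * r⁻¹ = v := by
      rw [← Subgroup.mem_centralizer_singleton_iff.mp (Subgroup.mem_inf.mp hv).2, mul_inv_cancel_right]
    show v * (r * v * r⁻¹) * (r * (r * v * r⁻¹) * r⁻¹) = v
    rw [e, e, g.sq h.toCore (Subgroup.mem_inf.mp hv).1, one_mul]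
  have hfm : ∀ {a b}, a ∈ czt z t → b ∈ czt z t → f (a * b) = f a * f b := by
    intro a b ha hb
    have hab : ∀ {c d : G}, c ∈ czt z t → d ∈ czt z t → Commute c d := fun hc hd => g.mul_comm' h.toCore hc hd
    show a * b * (r * (a * b) * r⁻¹) * (r * (r * (a * b) * r⁻¹) * r⁻¹) = _
    rw [show r * (a * b) * r⁻¹ = (r * a * r⁻¹) * (r * b * r⁻¹) by group,
      show r * (r * a * r⁻¹ * (r * b * r⁻¹)) * r⁻¹ = (r * (r * a * r⁻¹) * r⁻¹) * (r * (r * b * r⁻¹) * r⁻¹) by group]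
    rw [(hab hb (g.rS _ ha)).mul_mul_mul_comm a (r * b * r⁻¹),
      ((hab hb (g.rS _ (g.rS _ ha))).mul_left (hab (g.rS _ hb) (g.rS _ (g.rS _ ha)))).mul_mul_mul_comm _ _]
  have hfD : ∀ {d}, InD z x d → f d = 1 := by
    intro d hd
    have hxz : x * z = z * x := h.zq g.L.xX.1
    show d * (r * d * r⁻¹) * (r * (r * d * r⁻¹) * r⁻¹) = 1
    rcases hd with e | e | e | e <;> rw [e]
    · group
    · rw [g.rz, g.rx, (h.zmul_mem g.L.xX).2.1]
    · rw [g.rx, g.rzx h.toCore, ← mul_assoc, hxz, mul_assoc z x x, g.L.xX.2.1, mul_one, h.z_sq]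
    · rw [g.rzx h.toCore, g.rz, mul_assoc (z * x), (h.zmul_mem g.L.xX).2.1]
  have hfin : ∀ {s}, s ∈ czt z t → f s ∈ vfix z t r := by
    intro s hs
    obtain ⟨d, v, hd, hv, rfl⟩ := g.decomp h hs
    rw [hfm (g.inD_mem h hd) (Subgroup.mem_inf.mp hv).1, hfD hd, hfV hv, one_mul]
    exact hv
  let ψ : (P : Subgroup (Subgroup.centralizer ({t} : Set G))) →* vfix z t r :=
    MonoidHom.mk' (fun a => ⟨f ((a : Subgroup.centralizer ({t} : Set G)) : G), hfin (hPmem.mp a.2)⟩)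
      fun a b => Subtype.ext (hfm (hPmem.mp a.2) (hPmem.mp b.2))
  set τ := ψ.transfer with hτdef
  have hodd : ¬ 2 ∣ (P : Subgroup (Subgroup.centralizer ({t} : Set G))).index := P.not_dvd_index
  have hτV : ∀ (v : G) (hv : v ∈ vfix z t r), τ ⟨v, czt_le t (Subgroup.mem_inf.mp hv).1⟩ = ⟨v, hv⟩ := by
    intro v hv
    set vM : Subgroup.centralizer ({t} : Set G) := ⟨v, czt_le t (Subgroup.mem_inf.mp hv).1⟩ with hvM
    have key : ∀ (k : ℕ) (g₀ : Subgroup.centralizer ({t} : Set G)), g₀⁻¹ * vM ^ k * g₀ ∈ (P : Subgroup _) →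
        g₀⁻¹ * vM ^ k * g₀ = vM ^ k := by
      intro k g₀ hk
      have hkV : ((vM ^ k : Subgroup.centralizer ({t} : Set G)) : G) ∈ vfix z t r := pow_mem hv k
      obtain ⟨n, hn, e⟩ := P.conj_eq_normalizer_conj_of_mem _ g₀ (hPmem.mpr (Subgroup.mem_inf.mp hkV).1) hk
      rw [e]
      have hnS : ∀ s ∈ czt z t, (n : G) * s * (n : G)⁻¹ ∈ czt z t := fun s hs =>
        hPmem.mp ((Subgroup.mem_normalizer_iff.mp hn ⟨s, czt_le t hs⟩).mp (hPmem.mpr hs))
      have hc : n * vM ^ k = vM ^ k * n :=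
        Subtype.ext (g.norm_fix_V h (Subgroup.mem_centralizer_singleton_iff.mp n.2) hnS hkV)
      rw [mul_assoc, ← hc, inv_mul_cancel_left]
    rw [hτdef, MonoidHom.transfer_eq_pow _ vM key]
    apply Subtype.ext
    show f ((vM ^ (P : Subgroup (Subgroup.centralizer ({t} : Set G))).index : Subgroup.centralizer ({t} : Set G)) : G) = v
    have e : ((vM ^ (P : Subgroup (Subgroup.centralizer ({t} : Set G))).index : Subgroup.centralizer ({t} : Set G)) : G) = v := by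
      obtain ⟨m, hm⟩ := Nat.odd_iff.mpr (Nat.two_dvd_ne_zero.mp hodd)
      show v ^ _ = v
      rw [hm, pow_succ, pow_mul, pow_two, g.sq h.toCore (Subgroup.mem_inf.mp hv).1, one_pow, one_mul]
    rw [e, hfV hv]
  clear_value τ
  have hV2 : ∀ a : vfix z t r, a * a = 1 := fun a => Subtype.ext (g.sq h.toCore (Subgroup.mem_inf.mp a.2).1)
  let rM : Subgroup.centralizer ({t} : Set G) := ⟨r, Subgroup.mem_centralizer_singleton_iff.mpr g.rt⟩
  have hτr : τ rM = 1 := by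
    have h9 : τ rM ^ 9 = 1 := by
      rw [← map_pow, show rM ^ 9 = 1 from Subtype.ext g.r9, map_one]
    rwa [show (9 : ℕ) = 2 * 4 + 1 from rfl, pow_succ, pow_mul, pow_two, hV2, one_pow, one_mul] at h9
  let zM : Subgroup.centralizer ({t} : Set G) := ⟨z, czt_le t g.z_mem⟩
  let xM : Subgroup.centralizer ({t} : Set G) := ⟨x, czt_le t (g.x_mem h.toCore)⟩
  have hτrot : ∀ (a b : Subgroup.centralizer ({t} : Set G)), r * (a : G) * r⁻¹ = b → τ b = τ a := by
    intro a b hab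
    rw [show b = rM * a * rM⁻¹ from Subtype.ext hab.symm, map_mul, map_mul, map_inv, hτr, one_mul, inv_one, mul_one]
  have hxz' : τ xM = τ zM := hτrot zM xM g.rz
  have hzx' : τ (zM * xM) = τ xM := hτrot xM (zM * xM) g.rx
  have hτz : τ zM = 1 := by
    rw [map_mul, hxz', mul_eq_left] at hzx'
    exact hzx'
  refine ⟨τ.ker.map (Subgroup.centralizer ({t} : Set G)).subtype, Subgroup.map_subtype_le _, ?_, ?_, ?_, ?_, ?_, ?_⟩
  · rintro m hm _ ⟨k, hk, rfl⟩
    exact ⟨⟨m, hm⟩ * k * ⟨m, hm⟩⁻¹, (MonoidHom.normal_ker τ).conj_mem k hk _, rfl⟩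
  · exact ⟨zM, hτz, rfl⟩
  · exact ⟨xM, hxz'.trans hτz, rfl⟩
  · exact ⟨rM, hτr, rfl⟩
  · rintro v hv ⟨k, hk, hkv⟩
    have e := hτV v hv
    rw [← show k = ⟨v, czt_le t (Subgroup.mem_inf.mp hv).1⟩ from Subtype.ext hkv, MonoidHom.mem_ker.mp hk] at e
    exact (congrArg Subtype.val e).symm
  · intro m hm
    refine ⟨(τ ⟨m, hm⟩ : G), (τ ⟨m, hm⟩).2, ⟨⟨_, czt_le t (Subgroup.mem_inf.mp (τ ⟨m, hm⟩).2).1⟩ * ⟨m, hm⟩, ?_, rfl⟩⟩
    rw [SetLike.mem_coe, MonoidHom.mem_ker, map_mul, hτV _ (τ ⟨m, hm⟩).2, hV2]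

end Good

end Cfsg.Agent.Invol.HJ
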