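import Cfsg.Agent.Lib.Invol.HJ.Five
import Cfsg.Agent.Lib.Invol.D8Recognition
import Cfsg.Agent.Lib.Invol.SimpleOrder360
import Cfsg.Agent.Lib.Fus.OrderEight
import Cfsg.Agent.Lib.Fus.PearlCube

/-!
# The Sylow subgroups for the prime three in a group of Hall-Janko type
-/

set_option autoImplicit false
set_option linter.unusedSectionVars false
set_option linter.style.haveILetI false

namespace Cfsg.Agent.Invol.HJ

open Cfsg
open scoped commutatorElement

set_option synthInstance.maxSize 1024 in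
theorem a5_three_fix : ∀ c : alternatingGroup (Fin 5), c ≠ 1 → c * c * c = 1 →
    ∃ j l : Fin 5, j ≠ l ∧ (c : Equiv.Perm (Fin 5)) j = j ∧ (c : Equiv.Perm (Fin 5)) l = l ∧
      ∀ v : Fin 5 → ZMod 2, (∑ i, v i) = 0 → (∀ i, v ((c : Equiv.Perm (Fin 5)) i) = v i) →
        v = 0 ∨ v = ev j ∨ v = ev l ∨ v = ev j + ev l := by decide +kernel

theorem card_eight_le {α : Type*} [DecidableEq α] (a b c d e f g h : α) :
    ({a, b, c, d, e, f, g, h} : Finset α).card ≤ 8 := by
  rw [show ({a, b, c, d, e, f, g, h} : Finset α) = [a, b, c, d, e, f, g, h].toFinset by simp]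
  exact List.toFinset_card_le _

theorem quaternion_one_invol : ∀ x y : QuaternionGroup 2, x * x = 1 → x ≠ 1 → y * y = 1 → y ≠ 1 → x = y := by
  decide +kernel

/-- The Sylow subgroups for the prime three. -/
theorem sylow_three_card27 {G : Type*} [Group G] [Finite G] (hG : Nat.card G = 604800) (P : Sylow 3 G) :
    Nat.card P = 3 ^ 3 := by
  haveI : Fact (Nat.Prime 3) := ⟨Nat.prime_three⟩
  obtain ⟨n, hn⟩ := IsPGroup.iff_card.mp P.2
  have hi := P.not_dvd_index
  have hmul := (P : Subgroup G).card_mul_index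
  rw [hG, hn] at hmul
  have hn3 : n = 3 := by
    have hn4 : n < 4 := by
      by_contra hcon
      have : 3 ^ 4 ∣ 604800 := (Nat.pow_dvd_pow 3 (by omega)).trans ⟨_, hmul.symm⟩
      norm_num at this
    interval_cases n <;> omega
  exact hn3 ▸ hn

/-- In an extraspecial group of order twenty-seven the cosets of the centre outside it are classes. -/
theorem center_coset_conj {W : Type*} [Group W] [Finite W] (hW : Cfsg.IsExtraspecial 3 W) {c w : W}
    (hc : c ∉ Subgroup.center W) (hw : w ∈ Subgroup.center W) : ∃ p : W, p * c * p⁻¹ = w * c := by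
  obtain ⟨⟨-, -, hder⟩, hc3⟩ := hW
  haveI : Fact (Nat.Prime 3) := ⟨Nat.prime_three⟩
  obtain ⟨p, hp⟩ : ∃ p, p * c ≠ c * p := by
    by_contra hno
    push Not at hno
    exact hc (Subgroup.mem_center_iff.mpr hno)
  set u := p * c * p⁻¹ * c⁻¹ with hu
  have huZ : u ∈ Subgroup.center W := by
    rw [← hder, commutator_def]
    exact Subgroup.commutator_mem_commutator (Subgroup.mem_top p) (Subgroup.mem_top c)
  have hu1 : u ≠ 1 := fun e => hp (mul_inv_eq_iff_eq_mul.mp (mul_inv_eq_one.mp e))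
  have hu3 : orderOf u = 3 :=
    (Nat.prime_three.eq_one_or_self_of_dvd _ (hc3 ▸ Subgroup.orderOf_dvd_natCard _ huZ)).resolve_left
      fun e => hu1 (orderOf_eq_one_iff.mp e)
  have htop : Subgroup.zpowers u = Subgroup.center W :=
    Subgroup.eq_of_le_of_card_ge (Subgroup.zpowers_le.mpr huZ) (by rw [hc3, Nat.card_zpowers, hu3])
  rw [← htop] at hw
  obtain ⟨n, hn⟩ : ∃ n : ℕ, u ^ n = w := by
    simpa [Submonoid.mem_powers_iff] using mem_powers_iff_mem_zpowers.mpr hw
  refine ⟨p ^ n, ?_⟩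
  have hcu : ∀ y : W, y * u = u * y := fun y => Subgroup.mem_center_iff.mp huZ y
  have hind : ∀ m : ℕ, p ^ m * c * (p ^ m)⁻¹ = u ^ m * c := by
    intro m
    induction m with
    | zero => simp
    | succ m ih =>
      rw [pow_succ' p, show p * p ^ m * c * (p * p ^ m)⁻¹ = p * (p ^ m * c * (p ^ m)⁻¹) * p⁻¹ by group, ih,
        show p * (u ^ m * c) * p⁻¹ = p * u ^ m * p⁻¹ * (p * c * p⁻¹) by group,
        ((show Commute p u from hcu p).pow_right m).eq, mul_inv_cancel_right,
        show p * c * p⁻¹ = u * c by rw [hu]; group, ← mul_assoc, ← pow_succ]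
  rw [hind, hn]

variable {G : Type*} [Group G] {z : G} {Q : Subgroup G} {t x σ r a : G} {K : Subgroup G}

theorem Rot.order (R : Rot z t x r a K) : orderOf a = 3 := by
  haveI : Fact (Nat.Prime 3) := ⟨Nat.prime_three⟩
  refine orderOf_eq_prime (by rw [pow_three', R.a3]) fun e => R.at' (by rw [e, one_mul, mul_one])

theorem Rot.mem_C (R : Rot z t x r a K) : a ∈ Subgroup.centralizer ({z} : Set G) :=
  Subgroup.mem_centralizer_singleton_iff.mpr R.az

theorem not_mem_Q_of_three [Finite G] (h : Setting z Q) {b : G} (hb : orderOf b = 3) : b ∉ Q := fun e => by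
  obtain ⟨j, hj⟩ := IsPGroup.iff_orderOf.mp h.toCore.card_two_pow ⟨b, e⟩
  rw [Subgroup.orderOf_mk, hb] at hj
  have : 3 ∣ 2 := Nat.Prime.dvd_of_dvd_pow Nat.prime_three (dvd_of_eq hj)
  omega

/-- The elements of order three in the involution centralizer form one class of it. -/
theorem three_in_C [Finite G] (h : Setting z Q) (R : Rot z t x r a K) {b : G}
    (hb : b ∈ Subgroup.centralizer ({z} : Set G)) (hb3 : orderOf b = 3) :
    ∃ m ∈ Subgroup.centralizer ({z} : Set G), m * b * m⁻¹ = a := by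
  haveI : Fact (Nat.Prime 3) := ⟨Nat.prime_three⟩
  obtain ⟨M⟩ := h.toCore.model
  set H := Subgroup.centralizer ({z} : Set G) with hH
  set aC : H := ⟨a, R.mem_C⟩
  set bC : H := ⟨b, hb⟩
  have hcube : ∀ (y : G) (hy : y ∈ H), orderOf y = 3 → M.ptA ⟨y, hy⟩ ≠ 1 ∧ M.ptA ⟨y, hy⟩ * M.ptA ⟨y, hy⟩ * M.ptA ⟨y, hy⟩ = 1 := by
    refine fun y hy ho => ⟨fun e => not_mem_Q_of_three h ho ((M.ptA_ker _).mp e), ?_⟩
    rw [← map_mul, ← map_mul, show (⟨y, hy⟩ : H) * ⟨y, hy⟩ * ⟨y, hy⟩ = 1 from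
      Subtype.ext (show y * y * y = 1 by rw [← pow_three', ← ho, pow_orderOf_eq_one]), map_one]
  obtain ⟨hc1, hc3⟩ := hcube a R.mem_C R.order
  obtain ⟨hd1, hd3⟩ := hcube b hb hb3
  obtain ⟨w, hw⟩ := a5_three_cases _ _ hd1 hd3 hc1 hc3
  obtain ⟨y, rfl⟩ := M.ptA_surjective w
  rw [← map_mul, ← map_inv, ← map_mul] at hw
  set b' := y * bC * y⁻¹ with hb'
  set c := M.ptA aC with hc
  set H3 := (Subgroup.zpowers c).comap M.ptA with hH3
  have hc' : orderOf c = 3 := orderOf_eq_prime (by rw [pow_three', hc3]) hc1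
  have hA : Nat.card (alternatingGroup (Fin 5)) = 60 := by rw [nat_card_alternatingGroup, Nat.card_fin]; rfl
  have hidx : (Subgroup.zpowers c).index = 20 := by
    have := (Subgroup.zpowers c).card_mul_index
    rw [Nat.card_zpowers, hc', hA] at this
    omega
  have h96 : Nat.card H3 = 96 := by
    have := H3.card_mul_index
    rw [hH3, Subgroup.index_comap_of_surjective _ M.ptA_surjective, hidx, h.toCore.card_C] at this
    rw [hH3]
    omega
  have hbo : orderOf b' = 3 := by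
    rw [hb', ← MulAut.conj_apply, MulEquiv.orderOf_eq, Subgroup.orderOf_mk, hb3]
  have ha3' : orderOf aC = 3 := by rw [Subgroup.orderOf_mk, R.order]
  set a3 : H3 := ⟨aC, Subgroup.mem_zpowers _⟩
  set b3 : H3 := ⟨b', by rw [hH3, Subgroup.mem_comap, hw]; exact Subgroup.mem_zpowers _⟩
  have hsyl : ∀ u : H3, orderOf u = 3 → ∃ S : Sylow 3 H3, (S : Subgroup H3) = Subgroup.zpowers u := by
    intro u hu
    obtain ⟨S, hS⟩ := (show IsPGroup 3 (Subgroup.zpowers u) from
      IsPGroup.of_card (n := 1) (by rw [Nat.card_zpowers, hu, pow_one])).exists_le_sylow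
    refine ⟨S, (Subgroup.eq_of_le_of_card_ge hS ?_).symm⟩
    obtain ⟨n, hn⟩ := IsPGroup.iff_card.mp S.2
    have hd : 3 ^ n ∣ 96 := hn ▸ h96 ▸ Subgroup.card_subgroup_dvd_card (S : Subgroup H3)
    rw [hn, Nat.card_zpowers, hu]
    refine le_trans (Nat.pow_le_pow_right (by norm_num) ?_) (le_of_eq (pow_one 3))
    by_contra hcon
    have : 3 ^ 2 ∣ 96 := (Nat.pow_dvd_pow 3 (by omega)).trans hd
    norm_num at this
  have ha3o : orderOf a3 = 3 := (Subgroup.orderOf_coe a3).symm.trans ha3'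
  obtain ⟨Sa, hSa⟩ := hsyl a3 ha3o
  obtain ⟨Sb, hSb⟩ := hsyl b3 ((Subgroup.orderOf_coe b3).symm.trans hbo)
  obtain ⟨s, hs⟩ := MulAction.exists_smul_eq H3 Sb Sa
  have hmem : s * b3 * s⁻¹ ∈ (Sa : Subgroup H3) := by
    rw [← hs, Sylow.coe_subgroup_smul]
    exact ⟨b3, hSb ▸ Subgroup.mem_zpowers _, rfl⟩
  rw [hSa] at hmem
  obtain ⟨i, hi⟩ := Subgroup.mem_zpowers_iff.mp hmem
  have hi' : c ^ i = c := by
    obtain ⟨l, hl⟩ := Subgroup.mem_zpowers_iff.mp (show M.ptA (s : H) ∈ Subgroup.zpowers c from s.2)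
    have e := congrArg (fun u : H3 => M.ptA (u : H)) hi
    simp only [SubgroupClass.coe_zpow, map_zpow, Subgroup.coe_mul, map_mul, Subgroup.coe_inv, map_inv] at e
    change c ^ i = M.ptA (s : H) * M.ptA b' * (M.ptA (s : H))⁻¹ at e
    rw [hw, ← hl] at e
    rw [e, ((Commute.refl c).zpow_left l).eq, mul_inv_cancel_right]
  have hia : a3 ^ i = a3 := by
    have h1 : c ^ i = c ^ (1 : ℤ) := by rw [zpow_one]; exact hi'
    rw [zpow_eq_zpow_iff_modEq, hc'] at h1
    conv_rhs => rw [← zpow_one a3]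
    rw [zpow_eq_zpow_iff_modEq, ha3o]
    exact h1
  rw [hia] at hi
  refine ⟨((s : H) : G) * (y : G), H.mul_mem (s : H).2 y.2, ?_⟩
  have e := congrArg (fun u : H3 => ((u : H) : G)) hi
  push_cast at e
  change a = ((s : H) : G) * ((y : G) * b * (y : G)⁻¹) * ((s : H) : G)⁻¹ at e
  rw [e]
  group

/-- The fixed points of the rotation on `Q`. -/
theorem rot_cent_Q [Finite G] (h : Setting z Q) (R : Rot z t x r a K) :
    Nat.card (Q ⊓ Subgroup.centralizer ({a} : Set G) : Subgroup G) = 8 ∧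
      ∃ p ∈ Q ⊓ Subgroup.centralizer ({a} : Set G), ∃ q ∈ Q ⊓ Subgroup.centralizer ({a} : Set G),
        p * p = 1 ∧ q * q = 1 ∧ p ≠ 1 ∧ q ≠ 1 ∧ p * q ≠ q * p := by
  classical
  obtain ⟨M⟩ := h.toCore.model
  set aC : Subgroup.centralizer ({z} : Set G) := ⟨a, R.mem_C⟩
  have hc1 : M.ptA aC ≠ 1 := fun e => not_mem_Q_of_three h R.order ((M.ptA_ker _).mp e)
  have hc3 : M.ptA aC * M.ptA aC * M.ptA aC = 1 := by
    rw [← map_mul, ← map_mul, show aC * aC * aC = 1 from Subtype.ext R.a3, map_one]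
  obtain ⟨j, l, hjl, hj, hl, hv⟩ := a5_three_fix _ hc1 hc3
  set D := Q ⊓ Subgroup.centralizer ({a} : Set G) with hD
  have hfix : ∀ i : Fin 5, (M.ptA aC : Equiv.Perm (Fin 5)) i = i → M.a i ∈ D := by
    intro i hi
    refine Subgroup.mem_inf.2 ⟨(M.mem i).1, Subgroup.mem_centralizer_singleton_iff.mpr ?_⟩
    have hs := M.pt_spec aC i
    rw [show M.pt aC i = i from hi] at hs
    rcases hs with e | e
    · exact (mul_inv_eq_iff_eq_mul.mp e).symm
    · exfalso
      have haz' : ∀ w, a * (z * w) * a⁻¹ = z * (a * w * a⁻¹) := fun w => by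
        rw [← mul_assoc a z, R.az]; group
      have h3 : a * (a * (a * M.a i * a⁻¹) * a⁻¹) * a⁻¹ = M.a i := by
        rw [show a * (a * (a * M.a i * a⁻¹) * a⁻¹) * a⁻¹ = (a * a * a) * M.a i * (a * a * a)⁻¹ by group, R.a3]
        group
      change a * M.a i * a⁻¹ = z * M.a i at e
      rw [e, haz', e, haz', haz', e, ← mul_assoc z z, h.z_sq, one_mul] at h3
      exact h.ne_one (mul_eq_right.mp h3)
  have hzD : z ∈ D := Subgroup.mem_inf.2 ⟨h.mem_z, Subgroup.mem_centralizer_singleton_iff.mpr R.az.symm⟩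
  have hpj := hfix j hj
  have hpl := hfix l hl
  have hne : ∀ i, M.a i ≠ 1 := fun i => (M.mem i).2.2.1
  have hnz : ∀ i, M.a i ≠ z := fun i => (M.mem i).2.2.2
  have hanti := M.anti j l hjl
  refine ⟨?_, M.a j, hpj, M.a l, hpl, (M.mem j).2.1, (M.mem l).2.1, hne j, hne l, hanti⟩
  have hsub : ∀ q ∈ D, q ∈ ({1, z, M.a j, z * M.a j, M.a l, z * M.a l, M.a j * M.a l, z * (M.a j * M.a l)} : Finset G) := by
    intro q hq
    obtain ⟨hqQ, hqa⟩ := Subgroup.mem_inf.mp hq
    have hfixv : ∀ i, M.vec q ((M.ptA aC : Equiv.Perm (Fin 5)) i) = M.vec q i := fun i => by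
      have := M.vec_conj h.toCore aC hqQ i
      rwa [show (aC : G) * q * (aC : G)⁻¹ = q from
        mul_inv_eq_iff_eq_mul.mpr (Subgroup.mem_centralizer_singleton_iff.mp hqa).symm] at this
    have hQ1 : (1 : G) ∈ Q := Q.one_mem
    rcases hv _ (M.vec_even h.toCore hqQ) hfixv with e | e | e | e
    · rcases M.vec_inj h.toCore hQ1 hqQ (by rw [M.vec_one, e]) with e' | e' <;> simp [e']
    · rcases M.vec_inj h.toCore (M.mem j).1 hqQ (by rw [M.vec_a, e]) with e' | e' <;> simp [e']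
    · rcases M.vec_inj h.toCore (M.mem l).1 hqQ (by rw [M.vec_a, e]) with e' | e' <;> simp [e']
    · rcases M.vec_inj h.toCore (Q.mul_mem (M.mem j).1 (M.mem l).1) hqQ
        (by rw [M.vec_mul h.toCore (M.mem j).1 (M.mem l).1, M.vec_a, M.vec_a, e]) with e' | e' <;> simp [e']
  have hle : Nat.card D ≤ 8 := by
    rw [← SetLike.coe_sort_coe, Nat.card_coe_set_eq]
    refine (Set.ncard_le_ncard (t := ↑({1, z, M.a j, z * M.a j, M.a l, z * M.a l, M.a j * M.a l, z * (M.a j * M.a l)} : Finset G))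
      (fun q hq => hsub q hq)).trans ?_
    rw [Set.ncard_coe_finset]
    exact card_eight_le _ _ _ _ _ _ _ _
  have hge : 5 ≤ Nat.card D := by
    haveI := Fintype.ofFinite D
    rw [Nat.card_eq_fintype_card]
    refine le_trans (le_of_eq ?_) (Finset.card_le_univ
      ({1, ⟨z, hzD⟩, ⟨_, hpj⟩, ⟨_, hpl⟩, ⟨_, D.mul_mem hpj hpl⟩} : Finset D))
    have hjl' : M.a j ≠ M.a l := fun e => hanti (by rw [e])
    have hp1 : M.a j * M.a l ≠ 1 := fun e => hanti (by
      rw [e, eq_inv_of_mul_eq_one_right e, inv_mul_cancel])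
    have hpz : M.a j * M.a l ≠ z := fun e => hanti (by
      have e2 : M.a l = M.a j * z := by
        calc M.a l = M.a j * (M.a j * M.a l) := by rw [← mul_assoc, (M.mem j).2.1, one_mul]
          _ = M.a j * z := congrArg _ e
      rw [e2, ← mul_assoc, (M.mem j).2.1, one_mul, mul_assoc, h.toCore.cz (h.le_C (M.mem j).1) |>.symm, ← mul_assoc,
        (M.mem j).2.1, one_mul])
    rw [Finset.card_insert_of_notMem (by simp [Subtype.ext_iff, Ne.symm h.ne_one, Ne.symm (hne j), Ne.symm (hne l), Ne.symm hp1]),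
      Finset.card_insert_of_notMem (by simp [Subtype.ext_iff, Ne.symm (hnz j), Ne.symm (hnz l), Ne.symm hpz]),
      Finset.card_insert_of_notMem (by simp [Subtype.ext_iff, hjl', hne l]),
      Finset.card_pair (by simp [Subtype.ext_iff, hne j])]
  have hdvd : Nat.card D ∣ 32 := h.card_Q ▸ Subgroup.card_dvd_of_le inf_le_left
  obtain ⟨n, hn, hn'⟩ := (Nat.dvd_prime_pow Nat.prime_two (m := 5)).mp hdvd
  rw [hn'] at hle hge ⊢
  interval_cases n <;> omega

/-- The centralizer of the rotation inside the involution centralizer. -/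
theorem rot_cent_z [Finite G] (h : Setting z Q) (R : Rot z t x r a K) {y : G}
    (hy : y ∈ Subgroup.centralizer ({z} : Set G)) (hya : y * a = a * y) :
    ∃ i : ℕ, ∃ q ∈ Q ⊓ Subgroup.centralizer ({a} : Set G), y = a ^ i * q := by
  obtain ⟨M⟩ := h.toCore.model
  set aC : Subgroup.centralizer ({z} : Set G) := ⟨a, R.mem_C⟩
  set yC : Subgroup.centralizer ({z} : Set G) := ⟨y, hy⟩
  have hc1 : M.ptA aC ≠ 1 := fun e => not_mem_Q_of_three h R.order ((M.ptA_ker _).mp e)
  have hc3 : M.ptA aC * M.ptA aC * M.ptA aC = 1 := by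
    rw [← map_mul, ← map_mul, show aC * aC * aC = 1 from Subtype.ext R.a3, map_one]
  have hc2 : M.ptA aC * M.ptA aC ≠ 1 := fun e => hc1 (by rwa [e, one_mul] at hc3)
  obtain ⟨i, hi⟩ : ∃ i : ℕ, M.ptA yC = M.ptA (aC ^ i) := by
    rcases a5_cent_prime _ hc2 (M.ptA yC) (by
      rw [← map_mul, ← map_mul]; exact congrArg M.ptA (Subtype.ext hya)) with e | e | e | e | e
    · exact ⟨0, by rw [e, pow_zero, map_one]⟩
    · exact ⟨1, by rw [e, pow_one]⟩
    · exact ⟨2, by rw [e, map_pow, pow_two]⟩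
    · exact ⟨0, by rw [e, hc3, pow_zero, map_one]⟩
    · exact ⟨1, by rw [e, hc3, one_mul, pow_one]⟩
  refine ⟨i, (a ^ i)⁻¹ * y, Subgroup.mem_inf.2 ⟨(M.ptA_ker ((aC ^ i)⁻¹ * yC)).mp (by
    rw [map_mul, map_inv, hi, inv_mul_cancel]), Subgroup.mem_centralizer_singleton_iff.mpr
    ((((Commute.refl a).pow_left i).inv_left).mul_left hya).eq⟩, by rw [mul_inv_cancel_left]⟩

set_option maxHeartbeats 1000000 in
/-- The centralizer of the rotation. -/
theorem rot_cent [Finite G] (g : Good z Q t x σ r) (h : Setting z Q) (c : Comp z t x r K) (R : Rot z t x r a K) :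
    Nat.card (Subgroup.centralizer ({a} : Set G)) = 1080 ∧
      (∀ u ∈ Subgroup.centralizer ({a} : Set G), orderOf u = 2 → IsConj u z) ∧
      ∀ P : Sylow 3 G, (P : Subgroup G) ≤ Subgroup.centralizer ({a} : Set G) →
        Nat.card (Subgroup.normalizer ((P : Subgroup G) : Set G) ⊓ Subgroup.centralizer ({a} : Set G) : Subgroup G) = 108 := by
  classical
  haveI : Fact (Nat.Prime 2) := ⟨Nat.prime_two⟩
  haveI : Fact (Nat.Prime 3) := ⟨Nat.prime_three⟩
  set X := Subgroup.centralizer ({a} : Set G) with hX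
  set D := Q ⊓ X with hD
  obtain ⟨hD8, p, hp, q, hq, hp2, hq2, hp1, hq1, hpq⟩ := rot_cent_Q h R
  have hzX : z ∈ X := Subgroup.mem_centralizer_singleton_iff.mpr R.az.symm
  have haX : a ∈ X := Subgroup.mem_centralizer_singleton_iff.mpr rfl
  have hzD : z ∈ D := Subgroup.mem_inf.2 ⟨h.mem_z, hzX⟩
  have hao : orderOf a = 3 := R.order
  -- a Sylow two-subgroup
  have hDp : IsPGroup 2 (D.subgroupOf X) :=
    (h.toCore.card_two_pow.to_le inf_le_left).of_equiv (Subgroup.subgroupOfEquivOfLe inf_le_right).symm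
  obtain ⟨S, hS⟩ := hDp.exists_le_sylow
  have hSD : (S : Subgroup X) = D.subgroupOf X := by
    by_contra hne
    have hlt : (D.subgroupOf X).subgroupOf S < ⊤ :=
      lt_top_iff_ne_top.mpr fun e => hne (le_antisymm (Subgroup.subgroupOf_eq_top.mp e) hS)
    obtain ⟨⟨n, hnS⟩, hnN, hn⟩ :=
      SetLike.exists_of_lt (Group.normalizerCondition_of_isNilpotent (h := S.2.isNilpotent) _ hlt)
    refine hn ?_
    show (n : G) ∈ D
    have hconj : ∀ s (hs : s ∈ D), (n : G) * s * (n : G)⁻¹ ∈ D := fun s hs =>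
      (Subgroup.mem_normalizer_iff.mp hnN ⟨⟨s, (Subgroup.mem_inf.mp hs).2⟩, hS hs⟩).mp hs
    have hpq2 : p * q * (p * q) = z := by
      refine (h.sq _ (Q.mul_mem (Subgroup.mem_inf.mp hp).1 (Subgroup.mem_inf.mp hq).1)).resolve_left fun e => hpq ?_
      have := inv_eq_of_mul_eq_one_right e
      rw [mul_inv_rev, inv_eq_of_mul_eq_one_right hp2, inv_eq_of_mul_eq_one_right hq2] at this
      exact this.symm
    have hnz : (n : G) * z = z * n := by
      refine mul_inv_eq_iff_eq_mul.mp ?_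
      have hw := hconj _ (D.mul_mem hp hq)
      rcases h.sq _ (Subgroup.mem_inf.mp hw).1 with e | e
      · exfalso
        rw [conj_mul, hpq2, mul_inv_eq_one, mul_eq_left] at e
        exact h.ne_one e
      · rwa [conj_mul, hpq2] at e
    obtain ⟨i, d, hd, hnd⟩ := rot_cent_z h R (Subgroup.mem_centralizer_singleton_iff.mpr hnz)
      (Subgroup.mem_centralizer_singleton_iff.mp n.2)
    obtain ⟨k, hk⟩ := IsPGroup.iff_orderOf.mp S.2 ⟨n, hnS⟩
    rw [Subgroup.orderOf_mk, ← Subgroup.orderOf_coe] at hk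
    obtain ⟨l, hl⟩ := IsPGroup.iff_orderOf.mp h.toCore.card_two_pow ⟨d, (Subgroup.mem_inf.mp hd).1⟩
    rw [Subgroup.orderOf_mk] at hl
    have hcomm : Commute (a ^ i) d :=
      (show Commute a d from (Subgroup.mem_centralizer_singleton_iff.mp (Subgroup.mem_inf.mp hd).2).symm).pow_left i
    have hn2 : (n : G) ^ 2 ^ (k + l) = 1 := by rw [pow_add, pow_mul, ← hk, pow_orderOf_eq_one, one_pow]
    have hd2 : d ^ 2 ^ (k + l) = 1 := by rw [pow_add, mul_comm, pow_mul, ← hl, pow_orderOf_eq_one, one_pow]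
    rw [hnd, hcomm.mul_pow, hd2, mul_one] at hn2
    have hai : a ^ i = 1 := orderOf_eq_one_iff.mp (Nat.eq_one_of_dvd_coprimes
      (show Nat.Coprime 3 (2 ^ (k + l)) from Nat.Coprime.pow_right _ (by norm_num))
      (hao ▸ orderOf_pow_dvd i) (orderOf_dvd_of_pow_eq_one hn2))
    rw [hnd, hai, one_mul]
    exact hd
  have hinv : ∀ u ∈ X, orderOf u = 2 → IsConj u z := by
    intro u hu huo
    obtain ⟨T, hT⟩ := (show IsPGroup 2 (Subgroup.zpowers (⟨u, hu⟩ : X)) from
      IsPGroup.of_card (n := 1) (by rw [Nat.card_zpowers, Subgroup.orderOf_mk, huo, pow_one])).exists_le_sylow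
    obtain ⟨m, hm⟩ := MulAction.exists_smul_eq X T S
    have hmem : m * ⟨u, hu⟩ * m⁻¹ ∈ (S : Subgroup X) := by
      rw [← hm, Sylow.coe_subgroup_smul]
      exact ⟨⟨u, hu⟩, hT (Subgroup.mem_zpowers _), rfl⟩
    rw [hSD, Subgroup.mem_subgroupOf] at hmem
    push_cast at hmem
    exact (isConj_iff.mpr ⟨(m : G), rfl⟩).trans (h.conj_z_of_mem_Q (Subgroup.mem_inf.mp hmem).1
      ((orderOf_injective (MulAut.conj (m : G)).toMonoidHom (MulAut.conj (m : G)).injective u).trans huo))
  have hclass : ∀ u ∈ X, orderOf u = 2 → ∃ m ∈ X, m * u * m⁻¹ = z := by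
    intro u hu huo
    obtain ⟨y, hy⟩ := isConj_iff.mp (hinv u hu huo)
    have hmemC : y * a * y⁻¹ ∈ Subgroup.centralizer ({z} : Set G) := by
      refine Subgroup.mem_centralizer_singleton_iff.mpr ?_
      rw [← hy, conj_mul, conj_mul, (Subgroup.mem_centralizer_singleton_iff.mp hu).symm]
    obtain ⟨m, hm, hma⟩ := three_in_C h R hmemC
      ((orderOf_injective (MulAut.conj y).toMonoidHom (MulAut.conj y).injective a).trans hao)
    refine ⟨m * y, Subgroup.mem_centralizer_singleton_iff.mpr (mul_inv_eq_iff_eq_mul.mp ?_), ?_⟩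
    · rw [show m * y * a * (m * y)⁻¹ = m * (y * a * y⁻¹) * m⁻¹ by group, hma]
    · rw [show m * y * u * (m * y)⁻¹ = m * (y * u * y⁻¹) * m⁻¹ by group, hy,
        Subgroup.mem_centralizer_singleton_iff.mp hm, mul_inv_cancel_right]
  -- the quotient
  set F := (Subgroup.zpowers a).subgroupOf X with hF
  haveI : F.Normal := ⟨fun w hw y => by
    obtain ⟨i, hi⟩ := Subgroup.mem_zpowers_iff.mp (show (w : G) ∈ Subgroup.zpowers a from hw)
    show (y : G) * w * (y : G)⁻¹ ∈ Subgroup.zpowers a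
    rw [← hi, ((show Commute (y : G) a from Subgroup.mem_centralizer_singleton_iff.mp y.2).zpow_right i).eq,
      mul_inv_cancel_right]
    exact Subgroup.zpow_mem _ (Subgroup.mem_zpowers a) i⟩
  have hF3 : Nat.card F = 3 := by
    rw [hF, Nat.card_congr (Subgroup.subgroupOfEquivOfLe (Subgroup.zpowers_le.mpr haX)).toEquiv, Nat.card_zpowers, hao]
  have hFodd : ∀ {y : G}, y ∈ Subgroup.zpowers a → y * y = 1 → y = 1 := by
    intro y hy h2
    refine orderOf_eq_one_iff.mp (Nat.eq_one_of_dvd_coprimes (show Nat.Coprime 2 3 by norm_num)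
      (orderOf_dvd_of_pow_eq_one (by rw [pow_two]; exact h2)) ?_)
    exact hao ▸ Nat.card_zpowers a ▸ Subgroup.orderOf_dvd_natCard _ hy
  have hdis : ∀ d ∈ D, d ∈ Subgroup.zpowers a → d = 1 := by
    intro d hd hda
    rcases h.sq d (Subgroup.mem_inf.mp hd).1 with e | e
    · exact hFodd hda e
    · exfalso
      exact h.ne_one (hFodd (e ▸ (Subgroup.zpowers a).mul_mem hda hda) h.z_sq)
  set π := QuotientGroup.mk' F with hπ
  have hπ1 : ∀ {y : X}, π y = 1 ↔ (y : G) ∈ Subgroup.zpowers a := fun {y} => by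
    rw [hπ, QuotientGroup.mk'_apply, QuotientGroup.eq_one_iff, hF, Subgroup.mem_subgroupOf]
  set zX : X := ⟨z, hzX⟩
  have hz2 : orderOf (π zX) = 2 :=
    orderOf_two_iff'.mpr ⟨by rw [← map_mul, show zX * zX = 1 from Subtype.ext h.z_sq, map_one],
      fun e => h.ne_one (hFodd (hπ1.mp e) h.z_sq)⟩
  let ψ : D →* Subgroup.centralizer ({π zX} : Set (X ⧸ F)) :=
    MonoidHom.mk' (fun d => ⟨π ⟨d, (Subgroup.mem_inf.mp d.2).2⟩, Subgroup.mem_centralizer_singleton_iff.mpr (by
      rw [← map_mul, ← map_mul]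
      exact congrArg π (Subtype.ext (h.toCore.zq (Subgroup.mem_inf.mp d.2).1)))⟩)
      fun d d' => Subtype.ext (by
        show π _ = π _ * π _
        rw [← map_mul]; rfl)
  have hψ : Function.Bijective ψ := by
    refine ⟨(injective_iff_map_eq_one ψ).mpr fun d hd => Subtype.ext (hdis d d.2 (hπ1.mp (congrArg Subtype.val hd))),
      fun w => ?_⟩
    obtain ⟨y, hy⟩ : ∃ y, π y = (w : X ⧸ F) := QuotientGroup.mk'_surjective F _
    have e : π (y * zX * y⁻¹ * zX⁻¹) = 1 := by
      rw [map_mul, map_mul, map_mul, map_inv, map_inv, hy, Subgroup.mem_centralizer_singleton_iff.mp w.2]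
      group
    have hf := hπ1.mp e
    push_cast at hf
    set f := (y : G) * z * (y : G)⁻¹ * z⁻¹ with hfdef
    have hfz : z * f = f * z := by
      obtain ⟨i, hi⟩ := Subgroup.mem_zpowers_iff.mp hf
      rw [← hi]
      exact ((show Commute z a from R.az.symm).zpow_right i).eq
    have hf1 : f = 1 := hFodd hf (by
      have hft : f * z = (y : G) * z * (y : G)⁻¹ := by rw [hfdef, inv_mul_cancel_right]
      have h2 : f * z * (f * z) = 1 := by rw [hft, conj_mul, h.z_sq, mul_one, mul_inv_cancel]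
      rwa [mul_assoc, ← mul_assoc z f z, hfz, mul_assoc f z z, h.z_sq, mul_one] at h2)
    obtain ⟨i, d, hd, hyd⟩ := rot_cent_z h R
      (Subgroup.mem_centralizer_singleton_iff.mpr (mul_inv_eq_iff_eq_mul.mp (mul_inv_eq_one.mp hf1)))
      (Subgroup.mem_centralizer_singleton_iff.mp y.2)
    refine ⟨⟨d, hd⟩, Subtype.ext ?_⟩
    show π ⟨d, _⟩ = _
    rw [← hy, show y = (⟨a, haX⟩ : X) ^ i * ⟨d, (Subgroup.mem_inf.mp hd).2⟩ from Subtype.ext (by push_cast; exact hyd),
      map_mul, hπ1.mpr (show (((⟨a, haX⟩ : X) ^ i : X) : G) ∈ _ by push_cast; exact pow_mem (Subgroup.mem_zpowers a) i),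
      one_mul]
  obtain ⟨eD⟩ : Nonempty (D ≃* DihedralGroup 4) := by
    refine (Cfsg.Agent.Fus.dihedral_or_quaternion_of_card_eight hD8 fun hab =>
      hpq (congrArg Subtype.val (hab ⟨p, hp⟩ ⟨q, hq⟩))).resolve_right ?_
    rintro ⟨e⟩
    have := quaternion_one_invol (e ⟨p, hp⟩) (e ⟨q, hq⟩) (by rw [← map_mul, show (⟨p, hp⟩ : D) * ⟨p, hp⟩ = 1 from Subtype.ext hp2, map_one])
      (fun e' => hp1 (congrArg Subtype.val (e.map_eq_one_iff.mp e')))
      (by rw [← map_mul, show (⟨q, hq⟩ : D) * ⟨q, hq⟩ = 1 from Subtype.ext hq2, map_one])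
      (fun e' => hq1 (congrArg Subtype.val (e.map_eq_one_iff.mp e')))
    have hpq' : p = q := congrArg Subtype.val (e.injective this)
    exact hpq (by rw [hpq'])
  set eC := (MulEquiv.ofBijective ψ hψ).symm.trans eD with heC
  obtain ⟨eK⟩ := g.iso_K h c
  have hKX : K ≤ X := fun k hk => Subgroup.mem_centralizer_singleton_iff.mpr (R.aK k hk).symm
  have h2 : ∀ H : Subgroup (X ⧸ F), H.index ≠ 2 := by
    intro H hH
    haveI := Subgroup.normal_of_index_eq_two hH
    haveI : IsSimpleGroup (alternatingGroup (Fin 5)) := alternatingGroup.isSimpleGroup (by simp)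
    haveI : Nontrivial K := eK.symm.toEquiv.nontrivial_congr.mp inferInstance
    haveI : IsSimpleGroup K := IsSimpleGroup.isSimpleGroup_of_surjective eK.symm.toMonoidHom eK.symm.surjective
    set HK := H.comap (π.comp (Subgroup.inclusion hKX))
    have hzH : π zX ∈ H := by
      rcases IsSimpleGroup.eq_bot_or_eq_top_of_normal HK inferInstance with e | e
      · exfalso
        obtain ⟨k, hk⟩ : ∃ k : K, orderOf k = 5 :=
          haveI : Fact (Nat.Prime 5) := ⟨by norm_num⟩
          exists_prime_orderOf_dvd_card' 5 (by rw [g.card_K h c]; norm_num)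
        have : k * k ∈ HK := by
          show π (Subgroup.inclusion hKX (k * k)) ∈ H
          rw [map_mul, map_mul]
          exact Subgroup.mul_self_mem_of_index_two hH _
        rw [e, Subgroup.mem_bot, ← pow_two] at this
        have := Nat.le_of_dvd (by norm_num) (orderOf_dvd_of_pow_eq_one this)
        omega
      · have : (⟨z, c.zK⟩ : K) ∈ HK := e ▸ Subgroup.mem_top _
        exact this
    have hinvH : ∀ d : D, d * d = 1 → (ψ d : X ⧸ F) ∈ H := by
      intro d hd2
      by_cases hd1 : d = 1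
      · rw [hd1, map_one]; exact H.one_mem
      obtain ⟨m, hm, e⟩ := hclass d (Subgroup.mem_inf.mp d.2).2
        (orderOf_two_iff'.mpr ⟨congrArg Subtype.val hd2, fun e => hd1 (Subtype.ext e)⟩)
      have := Subgroup.Normal.conj_mem (inferInstance : H.Normal) _ hzH (π ⟨m, hm⟩)⁻¹
      rw [inv_inv] at this
      show π ⟨d, _⟩ ∈ H
      convert this using 1
      rw [← map_inv, ← map_mul, ← map_mul]
      exact congrArg π (Subtype.ext (by push_cast; show (d : G) = m⁻¹ * z * m; rw [← e]; group))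
    have hle : Subgroup.centralizer ({π zX} : Set (X ⧸ F)) ≤ H := by
      intro w hw
      have hsr : ∀ i, (eC.symm (.sr i) : X ⧸ F) ∈ H := fun i => by
        have h2' : eD.symm (.sr i) * eD.symm (.sr i) = 1 := by rw [← map_mul, (D8Order.d8_refl i).1, map_one]
        exact hinvH _ h2'
      obtain ⟨i, j, hij⟩ := D8Order.d8_gen (eC ⟨w, hw⟩)
      have hw' : w = (eC.symm (eC ⟨w, hw⟩) : X ⧸ F) := by rw [MulEquiv.symm_apply_apply]
      rw [hw']
      rcases hij with e | e <;> rw [e]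
      · exact hsr i
      · rw [map_mul, Subgroup.coe_mul]; exact H.mul_mem (hsr i) (hsr j)
    have hd := Subgroup.card_dvd_of_le hle
    rw [Nat.card_congr eC.toEquiv, DihedralGroup.nat_card] at hd
    have hmul := H.card_mul_index
    rw [hH] at hmul
    suffices ho : Nat.card (X ⧸ F) % 16 = 8 by omega
    have hS8 : Nat.card S = 8 := by
      rw [hSD, Nat.card_congr (Subgroup.subgroupOfEquivOfLe inf_le_right).toEquiv, hD8]
    have hnd := S.not_dvd_index
    have hm2 := (S : Subgroup X).card_mul_index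
    rw [hS8, Subgroup.card_eq_card_quotient_mul_card_subgroup F, hF3] at hm2
    omega
  obtain ⟨hsimple, horder⟩ := D8Order.simple_and_order hz2 eC h2
  have hXq : Nat.card X = Nat.card (X ⧸ F) * 3 := by rw [Subgroup.card_eq_card_quotient_mul_card_subgroup F, hF3]
  have h360 : Nat.card (X ⧸ F) = 360 := by
    have h5 : 5 ∣ Nat.card X := (by norm_num : 5 ∣ 60).trans (g.card_K h c ▸ Subgroup.card_dvd_of_le hKX)
    rcases horder with e | e
    · rw [hXq, e] at h5; norm_num at h5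
    · exact e
  refine ⟨by rw [hXq, h360], hinv, fun P hP => ?_⟩
  haveI := hsimple
  set PX := P.subtype hP with hPX
  set PY := PX.mapSurjective (QuotientGroup.mk'_surjective F) with hPY
  obtain ⟨-, h36⟩ := O360.sylow_three h360 PY
  have hFP : F ≤ (PX : Subgroup X) := by
    have hp3 : IsPGroup 3 F := IsPGroup.of_card (n := 1) (by rw [hF3, pow_one])
    obtain ⟨T, hT⟩ := hp3.exists_le_sylow
    obtain ⟨m, hm⟩ := MulAction.exists_smul_eq X T PX
    rw [← hm, Sylow.coe_subgroup_smul]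
    intro w hw
    refine ⟨(MulAut.conj m)⁻¹ w, hT ?_, by simp [mul_assoc]⟩
    simpa using (inferInstance : F.Normal).conj_mem w hw m⁻¹
  have hcm : (PY : Subgroup (X ⧸ F)).comap π = (PX : Subgroup X) := by
    show ((PX : Subgroup X).map π).comap π = _
    rw [Subgroup.comap_map_eq, hπ, QuotientGroup.ker_mk', sup_eq_left.mpr hFP]
  have hN : Subgroup.normalizer ((PX : Subgroup X) : Set X) =
      (Subgroup.normalizer ((PY : Subgroup (X ⧸ F)) : Set (X ⧸ F))).comap π := by
    rw [← hcm]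
    exact (Subgroup.comap_normalizer_eq_of_surjective _ (QuotientGroup.mk'_surjective F)).symm
  have hN' : Subgroup.normalizer ((PX : Subgroup X) : Set X) =
      (Subgroup.normalizer ((P : Subgroup G) : Set G)).subgroupOf X := by
    ext n
    constructor
    · intro hn
      refine norm_of_conj_mem fun s hs => ?_
      exact (Subgroup.mem_normalizer_iff.mp hn ⟨s, hP hs⟩).mp hs
    · intro hn
      exact Subgroup.mem_normalizer_iff.mpr fun s => Subgroup.mem_normalizer_iff.mp hn (s : G)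
  have hcard := (Subgroup.normalizer ((PX : Subgroup X) : Set X)).card_mul_index
  have hidxY := (Subgroup.normalizer ((PY : Subgroup (X ⧸ F)) : Set (X ⧸ F))).card_mul_index
  rw [h36, h360] at hidxY
  rw [hN, Subgroup.index_comap_of_surjective _ (QuotientGroup.mk'_surjective F), hXq, h360, ← hN, hN'] at hcard
  rw [← Nat.card_congr (Subgroup.subgroupOfEquivOfLe (inf_le_right : Subgroup.normalizer ((P : Subgroup G) : Set G) ⊓ X ≤ X)).toEquiv,
    Subgroup.inf_subgroupOf_right]
  nlinarith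

set_option maxHeartbeats 1000000 in
/-- The Sylow three-structure. -/
theorem three_main [Finite G] (h : Setting z Q) (P : Sylow 3 G) :
    Cfsg.IsExtraspecial 3 (P : Subgroup G) ∧ Nat.card P = 27 ∧
      Nat.card (Subgroup.normalizer ((P : Subgroup G) : Set G)) = 216 ∧
      ∃ a b : G, orderOf a = 3 ∧ orderOf b = 3 ∧ ¬ IsConj a b ∧ ∀ c : G, orderOf c = 3 → IsConj c a ∨ IsConj c b := by
  classical
  haveI : Fact (Nat.Prime 3) := ⟨Nat.prime_three⟩
  haveI : Fact (Nat.Prime 2) := ⟨Nat.prime_two⟩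
  obtain ⟨t, x, σ, r, g⟩ := h.exists_good
  obtain ⟨K, c⟩ := g.exists_comp h
  obtain ⟨a, R⟩ := g.exists_rot h c
  obtain ⟨eK⟩ := g.iso_K h c
  have hG := order_eq_j2 h
  have hao := R.order
  have hr1 : r ≠ 1 := fun e => g.L.xX.2.2.2 (by rw [← g.rz, e]; group)
  have hr3 : r * r * r = 1 := by
    have key : ∀ s : alternatingGroup (Fin 5), s ^ 9 = 1 → s * s * s = 1 := by decide +kernel
    have e := key (eK ⟨r, c.rK⟩) (by rw [← map_pow, show (⟨r, c.rK⟩ : K) ^ 9 = 1 from Subtype.ext g.r9, map_one])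
    rw [← map_mul, ← map_mul, eK.map_eq_one_iff] at e
    exact congrArg Subtype.val e
  have hro : orderOf r = 3 := orderOf_eq_prime (by rw [pow_three', hr3]) hr1
  have ht : orderOf t = 2 := orderOf_two_iff'.mpr ⟨g.t2, fun e => g.tQ (e ▸ Q.one_mem)⟩
  have htz : ¬ IsConj t z := h.outside_not_conj g.tC g.t2 g.tQ
  obtain ⟨hCr, -, -⟩ := g.cent_odd h c R (p := 3) (by norm_num) c.rK hro
  obtain ⟨hCa, hinvX, hNX⟩ := rot_cent g h c R
  have hextra : ∀ S : Sylow 3 G, Cfsg.IsExtraspecial 3 (S : Subgroup G) := by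
    intro S
    refine Cfsg.Agent.Fus.extraspecial_of_cube (sylow_three_card27 hG S) fun hab => ?_
    obtain ⟨T, hT⟩ := (show IsPGroup 3 (Subgroup.zpowers r) from
      IsPGroup.of_card (n := 1) (by rw [Nat.card_zpowers, hro, pow_one])).exists_le_sylow
    obtain ⟨y, hy⟩ := MulAction.exists_smul_eq G T S
    have hle : (S : Subgroup G) ≤ Subgroup.centralizer ({y * r * y⁻¹} : Set G) := fun s hs => by
      have hr' : y * r * y⁻¹ ∈ (S : Subgroup G) := by
        rw [← hy, Sylow.coe_subgroup_smul]; exact ⟨r, hT (Subgroup.mem_zpowers r), rfl⟩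
      exact Subgroup.mem_centralizer_singleton_iff.mpr (congrArg Subtype.val (hab.is_comm.comm ⟨s, hs⟩ ⟨_, hr'⟩))
    have hd := Subgroup.card_dvd_of_le hle
    rw [sylow_three_card27 hG S, ← cent_conj, Nat.card_congr
      (Subgroup.equivMapOfInjective _ _ (MulAut.conj y).injective).toEquiv.symm] at hd
    rcases hCr with e | e <;> rw [e] at hd <;> norm_num at hd
  refine ⟨hextra P, by rw [sylow_three_card27 hG P]; norm_num, ?_⟩
  -- a Sylow subgroup centralizing the rotation
  set X := Subgroup.centralizer ({a} : Set G) with hX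
  obtain ⟨SX⟩ : Nonempty (Sylow 3 X) := inferInstance
  have hS27 : Nat.card SX = 3 ^ 3 := by
    obtain ⟨n, hn⟩ := IsPGroup.iff_card.mp SX.2
    have hi := SX.not_dvd_index
    have hmul := (SX : Subgroup X).card_mul_index
    rw [hCa, hn] at hmul
    have hn3 : n = 3 := by
      have hn4 : n < 4 := by
        by_contra hcon
        have : 3 ^ 4 ∣ 1080 := (Nat.pow_dvd_pow 3 (by omega)).trans ⟨_, hmul.symm⟩
        norm_num at this
      interval_cases n <;> omega
    exact hn3 ▸ hn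
  obtain ⟨S, hSle⟩ := (SX.2.map X.subtype).exists_le_sylow
  have hSX : (S : Subgroup G) ≤ X := by
    rw [show (S : Subgroup G) = (SX : Subgroup X).map X.subtype from
      (Subgroup.eq_of_le_of_card_ge hSle (by rw [Subgroup.card_subtype, hS27, sylow_three_card27 hG S])).symm]
    exact Subgroup.map_subtype_le _
  have hN108 := hNX S hSX
  have hex := hextra S
  have haS : a ∈ (S : Subgroup G) := by
    have hpa : IsPGroup 3 (Subgroup.zpowers a) := IsPGroup.of_card (n := 1) (by rw [Nat.card_zpowers, hao, pow_one])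
    have hle : Subgroup.zpowers a ≤ Subgroup.normalizer ((S : Subgroup G) : Set G) :=
      Subgroup.zpowers_le.mpr (norm_of_conj_mem fun s hs => by
        rw [← Subgroup.mem_centralizer_singleton_iff.mp (hSX hs), mul_inv_cancel_right]; exact hs)
    rw [← S.3 (hpa.to_sup_of_normal_right' S.2 hle) le_sup_right]
    exact Subgroup.mem_sup_left (Subgroup.mem_zpowers a)
  have hcen : ∀ {s : (S : Subgroup G)}, s ∈ Subgroup.center (S : Subgroup G) ↔ (s : G) ∈ Subgroup.zpowers a := by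
    have hle : Subgroup.zpowers (⟨a, haS⟩ : (S : Subgroup G)) ≤ Subgroup.center (S : Subgroup G) :=
      Subgroup.zpowers_le.mpr (Subgroup.mem_center_iff.mpr fun s =>
        Subtype.ext (Subgroup.mem_centralizer_singleton_iff.mp (hSX s.2)))
    have heq := Subgroup.eq_of_le_of_card_ge hle (by rw [hex.2, Nat.card_zpowers, Subgroup.orderOf_mk, hao])
    intro s
    rw [← heq, Subgroup.mem_zpowers_iff, Subgroup.mem_zpowers_iff]
    refine exists_congr fun i => ⟨fun e => ?_, fun e => Subtype.ext (by push_cast; exact e)⟩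
    rw [← e]; push_cast; rfl
  -- inverting the rotation
  have hpowa : ∀ w ∈ Subgroup.zpowers a, w = 1 ∨ w = a ∨ w = a⁻¹ := by
    intro w hw
    obtain ⟨n, rfl⟩ : ∃ n : ℕ, a ^ n = w := by
      simpa [Submonoid.mem_powers_iff] using mem_powers_iff_mem_zpowers.mpr hw
    rw [← pow_mod_orderOf, hao]
    have := Nat.mod_lt n (show 3 > 0 by norm_num)
    interval_cases n % 3
    · exact Or.inl (pow_zero a)
    · exact Or.inr (Or.inl (pow_one a))
    · exact Or.inr (Or.inr (by rw [pow_two]; exact eq_inv_of_mul_eq_one_left R.a3))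
  obtain ⟨m, hm, hma⟩ := three_in_C h R (Subgroup.inv_mem _ R.mem_C) (by rw [orderOf_inv, hao])
  set N := Subgroup.normalizer ((S : Subgroup G) : Set G) with hN
  have hNa : ∀ n ∈ N, n * a * n⁻¹ = a ∨ n * a * n⁻¹ = a⁻¹ := by
    intro n hn
    have hmem := (Subgroup.mem_normalizer_iff.mp hn a).mp haS
    have hc : (⟨_, hmem⟩ : (S : Subgroup G)) ∈ Subgroup.center (S : Subgroup G) := by
      refine Subgroup.mem_center_iff.mpr fun s => Subtype.ext ?_
      have hs : n⁻¹ * (s : G) * n ∈ (S : Subgroup G) := by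
        simpa using (Subgroup.mem_normalizer_iff.mp (N.inv_mem hn) s).mp s.2
      have := congrArg (fun u => n * u * n⁻¹) (Subgroup.mem_centralizer_singleton_iff.mp (hSX hs))
      simpa [mul_assoc] using this
    rcases hpowa _ (hcen.mp hc) with e | e | e
    · rw [mul_inv_eq_one, mul_eq_left] at e
      rw [e, orderOf_one] at hao
      omega
    · exact Or.inl e
    · exact Or.inr e
  obtain ⟨j, hjN, hja⟩ : ∃ j ∈ N, j * a * j⁻¹ = a⁻¹ := by
    have hma' : m * a * m⁻¹ = a⁻¹ := by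
      conv_rhs => rw [← hma]
      group
    have hle : ((MulAut.conj m • S : Sylow 3 G) : Subgroup G) ≤ X := by
      rintro _ ⟨s, hs, rfl⟩
      show m * s * m⁻¹ ∈ X
      have hc := congrArg (fun u => m * u * m⁻¹) (Subgroup.mem_centralizer_singleton_iff.mp (hSX hs))
      rw [← conj_mul, ← conj_mul, hma'] at hc
      refine Subgroup.mem_centralizer_singleton_iff.mpr ?_
      have := ((show Commute (m * s * m⁻¹) a⁻¹ from hc).inv_right).eq
      rwa [inv_inv] at this
    obtain ⟨y, hy⟩ := MulAction.exists_smul_eq X ((MulAut.conj m • S : Sylow 3 G).subtype hle) (S.subtype hSX)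
    have hsub : ∀ s ∈ (S : Subgroup G), (y : G) * (m * s * m⁻¹) * (y : G)⁻¹ ∈ (S : Subgroup G) := by
      intro s hs
      have h1 : m * s * m⁻¹ ∈ ((MulAut.conj m • S : Sylow 3 G) : Subgroup G) := ⟨s, hs, rfl⟩
      have h2 : y * ⟨_, hle h1⟩ * y⁻¹ ∈ ((S.subtype hSX : Sylow 3 X) : Subgroup X) := by
        rw [← hy, Sylow.coe_subgroup_smul]
        exact ⟨⟨_, hle h1⟩, h1, rfl⟩
      exact h2
    refine ⟨(y : G) * m, norm_of_conj_mem fun s hs => ?_, ?_⟩
    · rw [show (y : G) * m * s * ((y : G) * m)⁻¹ = (y : G) * (m * s * m⁻¹) * (y : G)⁻¹ by group]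
      exact hsub s hs
    · rw [show (y : G) * m * a * ((y : G) * m)⁻¹ = (y : G) * (m * a * m⁻¹) * (y : G)⁻¹ by group, hma',
        ← conj_inv, Subgroup.mem_centralizer_singleton_iff.mp y.2, mul_inv_cancel_right]
  have hane : a⁻¹ ≠ a := fun e => R.at' (by
    have h2 : a * a = 1 := by nth_rewrite 1 [← e]; exact inv_mul_cancel a
    have h1 := R.a3
    rw [h2, one_mul] at h1
    rw [h1, one_mul, mul_one])
  have hidx : ((N ⊓ X).subgroupOf N).index = 2 := by
    refine Subgroup.index_eq_two_iff.mpr ⟨⟨j, hjN⟩, fun b => ?_⟩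
    show Xor' ((b : G) * j ∈ N ⊓ X) ((b : G) ∈ N ⊓ X)
    have hXiff : ∀ n, n ∈ X ↔ n * a * n⁻¹ = a := fun n => by
      rw [hX, Subgroup.mem_centralizer_singleton_iff, mul_inv_eq_iff_eq_mul]
    rcases hNa b b.2 with e | e
    · refine Or.inr ⟨Subgroup.mem_inf.2 ⟨b.2, (hXiff _).mpr e⟩, fun h' => hane ?_⟩
      have := (hXiff _).mp (Subgroup.mem_inf.mp h').2
      rw [show (b : G) * j * a * ((b : G) * j)⁻¹ = (b : G) * (j * a * j⁻¹) * (b : G)⁻¹ by group, hja, ← conj_inv, e] at this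
      exact this
    · refine Or.inl ⟨Subgroup.mem_inf.2 ⟨N.mul_mem b.2 hjN, (hXiff _).mpr ?_⟩, fun h' =>
        hane (e.symm.trans ((hXiff _).mp (Subgroup.mem_inf.mp h').2))⟩
      rw [show (b : G) * j * a * ((b : G) * j)⁻¹ = (b : G) * (j * a * j⁻¹) * (b : G)⁻¹ by group, hja, ← conj_inv, e, inv_inv]
  have hN216 : Nat.card N = 216 := by
    have := ((N ⊓ X).subgroupOf N).card_mul_index
    rw [hidx, Nat.card_congr (Subgroup.subgroupOfEquivOfLe inf_le_left).toEquiv, hN108] at this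
    exact this.symm
  refine ⟨?_, a, r, hao, hro, ?_, ?_⟩
  · have e1 := (Subgroup.normalizer ((P : Subgroup G) : Set G)).card_mul_index
    have e2 := N.card_mul_index
    have hPi : (Subgroup.normalizer ((P : Subgroup G) : Set G)).index = N.index :=
      P.card_eq_index_normalizer.symm.trans S.card_eq_index_normalizer
    rw [hN216, hG] at e2
    have hi : N.index = 2800 := by omega
    rw [hPi, hi, hG] at e1
    omega
  · intro e
    obtain ⟨y, hy⟩ := isConj_iff.mp e.symm
    refine htz ((isConj_iff.mpr ⟨y, rfl⟩).trans (hinvX (y * t * y⁻¹) ?_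
      ((orderOf_injective (MulAut.conj y).toMonoidHom (MulAut.conj y).injective t).trans ht)))
    refine Subgroup.mem_centralizer_singleton_iff.mpr ?_
    rw [← hy, conj_mul, conj_mul, g.rt]
  · intro c0 hc0
    obtain ⟨T0, hT0⟩ := (show IsPGroup 3 (Subgroup.zpowers c0) from
      IsPGroup.of_card (n := 1) (by rw [Nat.card_zpowers, hc0, pow_one])).exists_le_sylow
    obtain ⟨y0, hy0⟩ := MulAction.exists_smul_eq G T0 S
    set c1 := y0 * c0 * y0⁻¹ with hc1
    have hc1S : c1 ∈ (S : Subgroup G) := by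
      rw [← hy0, Sylow.coe_subgroup_smul]; exact ⟨c0, hT0 (Subgroup.mem_zpowers c0), rfl⟩
    have hc1o : orderOf c1 = 3 := (orderOf_injective (MulAut.conj y0).toMonoidHom (MulAut.conj y0).injective c0).trans hc0
    suffices hsuff : IsConj c1 a ∨ IsConj c1 r from
      hsuff.imp (isConj_iff.mpr ⟨y0, rfl⟩).trans (isConj_iff.mpr ⟨y0, rfl⟩).trans
    by_cases hc1a : c1 ∈ Subgroup.zpowers a
    · rcases hpowa _ hc1a with e | e | e
      · rw [e, orderOf_one] at hc1o; omega
      · exact Or.inl (e ▸ IsConj.refl _)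
      · exact Or.inl (e ▸ isConj_iff.mpr ⟨m, hma⟩)
    -- a conjugate of `r` in the subgroup
    obtain ⟨Tr, hTr⟩ := (show IsPGroup 3 (Subgroup.zpowers r) from
      IsPGroup.of_card (n := 1) (by rw [Nat.card_zpowers, hro, pow_one])).exists_le_sylow
    obtain ⟨yr, hyr⟩ := MulAction.exists_smul_eq G Tr S
    set r1 := yr * r * yr⁻¹ with hr1'
    have hr1S : r1 ∈ (S : Subgroup G) := by
      rw [← hyr, Sylow.coe_subgroup_smul]; exact ⟨r, hTr (Subgroup.mem_zpowers r), rfl⟩
    have hr1a : r1 ∉ Subgroup.zpowers a := by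
      intro e
      have hre : IsConj r r1 := isConj_iff.mpr ⟨yr, rfl⟩
      have hra : ¬ IsConj r a := fun e' => by
        obtain ⟨y, hy⟩ := isConj_iff.mp e'
        refine htz ((isConj_iff.mpr ⟨y, rfl⟩).trans (hinvX (y * t * y⁻¹) ?_
          ((orderOf_injective (MulAut.conj y).toMonoidHom (MulAut.conj y).injective t).trans ht)))
        refine Subgroup.mem_centralizer_singleton_iff.mpr ?_
        rw [← hy, conj_mul, conj_mul, g.rt]
      rcases hpowa _ e with e1 | e1 | e1
      · exact hr1 (by rw [hr1', mul_inv_eq_one, mul_eq_left] at e1; exact e1)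
      · exact hra (e1 ▸ hre)
      · exact hra ((e1 ▸ hre).trans (isConj_iff.mpr ⟨m, hma⟩))
    set Z := Subgroup.center (S : Subgroup G) with hZ
    have hPq : Nat.card ((S : Subgroup G) ⧸ Z) = 9 := by
      have := Subgroup.card_eq_card_quotient_mul_card_subgroup Z
      rw [hex.2, sylow_three_card27 hG S] at this
      omega
    obtain ⟨T, hT⟩ := Sylow.exists_subgroup_card_pow_prime 2 (show 2 ^ 3 ∣ Nat.card N by rw [hN216]; norm_num)
    have hTpow : ∀ τ ∈ T, (τ : G) ^ 8 = 1 := fun τ hτ => by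
      have h8 := orderOf_dvd_iff_pow_eq_one.mp ((show (2 : ℕ) ^ 3 = 8 by norm_num) ▸ hT ▸ Subgroup.orderOf_dvd_natCard T hτ)
      simpa using congrArg Subtype.val h8
    have hNS : ∀ n : N, ∀ s : G, s ∈ (S : Subgroup G) → (n : G) * s * (n : G)⁻¹ ∈ (S : Subgroup G) :=
      fun n s hs => (Subgroup.mem_normalizer_iff.mp n.2 s).mp hs
    let fT : T → (S : Subgroup G) ⧸ Z := fun τ =>
      QuotientGroup.mk (⟨((τ : N) : G) * c1 * ((τ : N) : G)⁻¹, hNS τ c1 hc1S⟩ : (S : Subgroup G))
    by_cases hhit : ∃ τ, fT τ = QuotientGroup.mk (⟨r1, hr1S⟩ : (S : Subgroup G))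
    · obtain ⟨τ, hτ⟩ := hhit
      rw [QuotientGroup.eq] at hτ
      set w1 : (S : Subgroup G) := ⟨((τ : N) : G) * c1 * ((τ : N) : G)⁻¹, hNS τ c1 hc1S⟩ with hw1
      have hw1n : w1 ∉ Z := fun e => by
        refine hr1a (hcen.mp (show (⟨r1, hr1S⟩ : (S : Subgroup G)) ∈ Z from ?_))
        have := Z.mul_mem e hτ
        rwa [mul_inv_cancel_left] at this
      obtain ⟨p, hp⟩ := center_coset_conj hex hw1n hτ
      rw [Subgroup.mem_center_iff.mp hτ w1 |>.symm, mul_inv_cancel_left] at hp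
      have h1 : IsConj c1 (w1 : G) := isConj_iff.mpr ⟨_, rfl⟩
      have h2 : IsConj (w1 : G) r1 := isConj_iff.mpr ⟨p, by
        have := congrArg Subtype.val hp
        simpa using this⟩
      exact Or.inr ((h1.trans h2).trans (isConj_iff.mpr ⟨yr, rfl⟩).symm)
    push Not at hhit
    have hninj : ¬ Function.Injective fT := by
      intro hinj
      haveI := Fintype.ofFinite ((S : Subgroup G) ⧸ Z)
      haveI := Fintype.ofFinite T
      have hsub : Finset.univ.image fT ⊆ Finset.univ \ {1, QuotientGroup.mk (⟨r1, hr1S⟩ : (S : Subgroup G))} := by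
        intro w hw
        obtain ⟨τ, -, rfl⟩ := Finset.mem_image.mp hw
        simp only [Finset.mem_sdiff, Finset.mem_univ, true_and, Finset.mem_insert, Finset.mem_singleton, not_or]
        refine ⟨fun e => hc1a ?_, hhit τ⟩
        have e1 := hcen.mp ((QuotientGroup.eq_one_iff _).mp e)
        change ((τ : N) : G) * c1 * ((τ : N) : G)⁻¹ ∈ _ at e1
        obtain ⟨i, hi⟩ := Subgroup.mem_zpowers_iff.mp e1
        have hc' : c1 = ((τ : N) : G)⁻¹ * a ^ i * ((τ : N) : G)⁻¹⁻¹ := by rw [hi]; group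
        rw [hc', ← conj_zpow]
        refine Subgroup.zpow_mem _ ?_ i
        rcases hNa _ (N.inv_mem (τ : N).2) with e2 | e2 <;> rw [e2]
        · exact Subgroup.mem_zpowers a
        · exact inv_mem (Subgroup.mem_zpowers a)
      have h8 := Finset.card_le_card hsub
      rw [Finset.card_image_of_injective _ hinj, Finset.card_univ, ← Nat.card_eq_fintype_card, hT,
        Finset.card_sdiff_of_subset (Finset.subset_univ _), Finset.card_univ, ← Nat.card_eq_fintype_card, hPq,
        Finset.card_pair (fun e => hr1a (hcen.mp ((QuotientGroup.eq_one_iff _).mp e.symm)))] at h8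
      omega
    rw [Function.not_injective_iff] at hninj
    obtain ⟨τ1, τ2, hτ, hne⟩ := hninj
    set τ : G := ((τ1 : N) : G)⁻¹ * ((τ2 : N) : G) with hτdef
    have hτ1 : τ ≠ 1 := fun e => hne (Subtype.ext (Subtype.ext (inv_mul_eq_one.mp e)))
    have hτN : τ ∈ N := N.mul_mem (N.inv_mem (τ1 : N).2) (τ2 : N).2
    have hτ8 : τ ^ 8 = 1 := hTpow _ (T.mul_mem (T.inv_mem τ1.2) τ2.2)
    have hτc : τ * c1 * τ⁻¹ * c1⁻¹ ∈ Subgroup.zpowers a := by
      rw [QuotientGroup.eq] at hτ
      have e1 := hcen.mp hτ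
      push_cast at e1
      change (((τ1 : N) : G) * c1 * ((τ1 : N) : G)⁻¹)⁻¹ * (((τ2 : N) : G) * c1 * ((τ2 : N) : G)⁻¹) ∈ _ at e1
      obtain ⟨i, hi⟩ := Subgroup.mem_zpowers_iff.mp e1
      have e3 : τ * c1 * τ⁻¹ * c1⁻¹ = c1 * (((τ1 : N) : G)⁻¹ * a ^ i * ((τ1 : N) : G)) * c1⁻¹ := by
        rw [hi, hτdef]; group
      have hai : ((τ1 : N) : G)⁻¹ * a ^ i * ((τ1 : N) : G) ∈ Subgroup.zpowers a := by
        have h' := hNa _ (N.inv_mem (τ1 : N).2)
        rw [inv_inv] at h'
        rw [show ((τ1 : N) : G)⁻¹ * a ^ i * ((τ1 : N) : G) = ((τ1 : N) : G)⁻¹ * a ^ i * ((τ1 : N) : G)⁻¹⁻¹ by rw [inv_inv],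
          ← conj_zpow, inv_inv]
        refine Subgroup.zpow_mem _ ?_ i
        rcases h' with e2 | e2 <;> rw [e2]
        · exact Subgroup.mem_zpowers a
        · exact inv_mem (Subgroup.mem_zpowers a)
      obtain ⟨l, hl⟩ := Subgroup.mem_zpowers_iff.mp hai
      rw [e3, ← hl, ((show Commute c1 a from Subgroup.mem_centralizer_singleton_iff.mp (hSX hc1S)).zpow_right l).eq,
        mul_inv_cancel_right]
      exact Subgroup.zpow_mem _ (Subgroup.mem_zpowers a) l
    -- an involution fixing the coset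
    have hfixpow : ∀ n : ℕ, τ ^ n * c1 * (τ ^ n)⁻¹ * c1⁻¹ ∈ Subgroup.zpowers a := by
      intro n
      induction n with
      | zero => simp
      | succ n ih =>
        obtain ⟨i, hi⟩ := Subgroup.mem_zpowers_iff.mp ih
        have e : τ ^ (n + 1) * c1 * (τ ^ (n + 1))⁻¹ * c1⁻¹ = (τ * a ^ i * τ⁻¹) * (τ * c1 * τ⁻¹ * c1⁻¹) := by
          rw [hi, pow_succ' τ]; group
        rw [e]
        refine Subgroup.mul_mem _ ?_ hτc
        rw [← conj_zpow]
        refine Subgroup.zpow_mem _ ?_ i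
        rcases hNa τ hτN with e2 | e2 <;> rw [e2]
        · exact Subgroup.mem_zpowers a
        · exact inv_mem (Subgroup.mem_zpowers a)
    obtain ⟨n, hn1, hn2⟩ : ∃ n, τ ^ n ≠ 1 ∧ τ ^ n * τ ^ n = 1 := by
      by_cases h2 : τ ^ 2 = 1
      · exact ⟨1, by rwa [pow_one], by rw [pow_one, ← pow_two, h2]⟩
      by_cases h4 : τ ^ 4 = 1
      · exact ⟨2, h2, by rw [← pow_add]; exact h4⟩
      · exact ⟨4, h4, by rw [← pow_add]; exact hτ8⟩
    set u := τ ^ n with hu
    obtain ⟨w, hw⟩ : ∃ w, w = u * c1 * u⁻¹ * c1⁻¹ := ⟨_, rfl⟩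
    have hwa : w ∈ Subgroup.zpowers a := hw ▸ hfixpow n
    have huo : orderOf u = 2 := orderOf_two_iff'.mpr ⟨hn2, hn1⟩
    have hwc : Commute c1 w := by
      obtain ⟨i, hi⟩ := Subgroup.mem_zpowers_iff.mp hwa
      rw [← hi]
      exact (show Commute c1 a from Subgroup.mem_centralizer_singleton_iff.mp (hSX hc1S)).zpow_right i
    have huc : u * c1 * u⁻¹ = w * c1 := by rw [hw, inv_mul_cancel_right]
    have hw3 : w * w * w = 1 := by
      rcases hpowa w hwa with e | e | e <;> rw [e]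
      · simp
      · exact R.a3
      · rw [← mul_inv_rev, ← mul_inv_rev, ← mul_assoc, R.a3, inv_one]
    have hwinv : u * w * u⁻¹ = w⁻¹ := by
      have e2 : c1 = u * w * u⁻¹ * (w * c1) := by
        rw [← huc, show u * w * u⁻¹ * (u * c1 * u⁻¹) = u * (w * c1) * u⁻¹ by group, ← huc,
          show u * (u * c1 * u⁻¹) * u⁻¹ = (u * u) * c1 * (u * u)⁻¹ by group, hn2]
        group
      rw [← mul_assoc] at e2
      exact eq_inv_of_mul_eq_one_left (mul_eq_right.mp e2.symm)
    -- a fixed element of the coset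
    obtain ⟨c2, hc2conj, hc2o, huc2⟩ : ∃ c2, IsConj c1 c2 ∧ orderOf c2 = 3 ∧ u * c2 = c2 * u := by
      set s := w * w with hs
      have hsZ : (⟨s, (Subgroup.zpowers_le.mpr haS) (mul_mem hwa hwa)⟩ : (S : Subgroup G)) ∈ Z :=
        hcen.mpr (mul_mem hwa hwa)
      obtain ⟨p, hp⟩ := center_coset_conj hex (c := ⟨c1, hc1S⟩) (fun e => hc1a (hcen.mp e)) hsZ
      refine ⟨s * c1, isConj_iff.mpr ⟨p, by simpa using congrArg Subtype.val hp⟩, ?_, ?_⟩
      · rw [← hc1o]
        have : IsConj c1 (s * c1) := isConj_iff.mpr ⟨p, by simpa using congrArg Subtype.val hp⟩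
        obtain ⟨y, hy⟩ := isConj_iff.mp this
        rw [← hy]
        exact orderOf_injective (MulAut.conj y).toMonoidHom (MulAut.conj y).injective c1
      · refine mul_inv_eq_iff_eq_mul.mp ?_
        rw [show u * (s * c1) * u⁻¹ = (u * w * u⁻¹) * (u * w * u⁻¹) * (u * c1 * u⁻¹) by rw [hs]; group, hwinv, huc, hs,
          show w⁻¹ * w⁻¹ * (w * c1) = w⁻¹ * c1 by group, show w⁻¹ = w * w from inv_eq_of_mul_eq_one_right (by rw [← mul_assoc, hw3])]
    by_cases huz : IsConj u z
    · obtain ⟨y, hy⟩ := isConj_iff.mp huz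
      obtain ⟨m', -, hm'⟩ := three_in_C h R (b := y * c2 * y⁻¹) (Subgroup.mem_centralizer_singleton_iff.mpr (by
        rw [← hy, conj_mul, conj_mul, huc2]))
        ((orderOf_injective (MulAut.conj y).toMonoidHom (MulAut.conj y).injective c2).trans hc2o)
      exact Or.inl (hc2conj.trans ((isConj_iff.mpr ⟨y, rfl⟩).trans (isConj_iff.mpr ⟨m', hm'⟩)))
    · obtain ⟨y, hy⟩ := isConj_iff.mp (h.conj_of_not huo ht huz htz)
      set c3 := y * c2 * y⁻¹ with hc3
      have hc3t : c3 ∈ Subgroup.centralizer ({t} : Set G) := Subgroup.mem_centralizer_singleton_iff.mpr (by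
        rw [hc3, ← hy, conj_mul, conj_mul, huc2])
      have hc3o : orderOf c3 = 3 := (orderOf_injective (MulAut.conj y).toMonoidHom (MulAut.conj y).injective c2).trans hc2o
      have h33 : c3 * c3 * c3 = 1 := by rw [← pow_three', ← hc3o, pow_orderOf_eq_one]
      obtain ⟨v, hv, hk⟩ := c.prod c3 hc3t
      have hvc : Commute v c3 := (g.V_central h c hc3t hv).symm
      have hv2 : v * v = 1 := g.sq h.toCore (Subgroup.mem_inf.mp hv).1
      have hvK : v ∈ K := by
        have := K.pow_mem hk 3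
        rwa [hvc.mul_pow, pow_three', pow_three', hv2, one_mul, h33, mul_one] at this
      rw [c.inf v hv hvK, one_mul] at hk
      obtain ⟨w', hw'⟩ := a5_three_cases (eK ⟨c3, hk⟩) (eK ⟨r, c.rK⟩)
        (fun e => by
          have := congrArg Subtype.val (eK.map_eq_one_iff.mp e)
          change c3 = 1 at this
          rw [this, orderOf_one] at hc3o; omega)
        (by rw [← map_mul, ← map_mul, show (⟨c3, hk⟩ : K) * ⟨c3, hk⟩ * ⟨c3, hk⟩ = 1 from Subtype.ext h33, map_one])
        (fun e => hr1 (congrArg Subtype.val (eK.map_eq_one_iff.mp e)))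
        (by rw [← map_mul, ← map_mul, show (⟨r, c.rK⟩ : K) * ⟨r, c.rK⟩ * ⟨r, c.rK⟩ = 1 from Subtype.ext hr3, map_one])
      obtain ⟨k, rfl⟩ := eK.surjective w'
      rw [← map_mul, ← map_inv, ← map_mul] at hw'
      exact Or.inr (hc2conj.trans ((isConj_iff.mpr ⟨y, rfl⟩).trans
        (isConj_iff.mpr ⟨(k : G), congrArg Subtype.val (eK.injective hw')⟩)))

end Cfsg.Agent.Invol.HJ
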